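import Cfsg.Agent.Lib.HH.Crit
import Cfsg.Agent.Lib.BG1.AppA
import Cfsg.Agent.Lib.Coprime.Sylow
import Cfsg.Agent.Lib.Coprime.PGroup
import Cfsg.Agent.Lib.Core.UpperP

/-!
# Hall-Higman Theorem B
-/

set_option autoImplicit false

namespace Cfsg.Lib.HH

open Module Subgroup Cfsg.Lib.Core

universe u v w

section Lin

variable {K : Type u} [Field K] {Q : Type w} [Group Q]

theorem exists_irr_nontriv [Fintype Q] (hQ : (Fintype.card Q : K) ≠ 0) {V : Type*} [AddCommGroup V]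
    [Module K V] [FiniteDimensional K V] (ρ : Q →* End K V) (h : ∃ g, ρ g ≠ 1) :
    ∃ (W : Submodule K V) (hW : ∀ g, ∀ u ∈ W, ρ g u ∈ W), Irr (sub ρ W hW) ∧
      ∃ g, sub ρ W hW g ≠ 1 := by
  have hs : ∀ g, (∑ k, ρ k) * ρ g = ∑ k, ρ k := fun g => by
    rw [Finset.sum_mul]
    exact Fintype.sum_equiv (Equiv.mulRight g) _ _ fun k => by simp
  obtain ⟨W, hW, hle, hirr⟩ := exists_irr_le ρ (LinearMap.ker (∑ k, ρ k)) (by
    obtain ⟨g, hg⟩ := h
    intro h0
    apply hg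
    ext v
    have : ρ g v - v ∈ LinearMap.ker (∑ k, ρ k) := by
      rw [LinearMap.mem_ker, map_sub, ← Module.End.mul_apply, hs, sub_self]
    rw [h0, Submodule.mem_bot, sub_eq_zero] at this
    exact this) (fun g u hu => by
      rw [LinearMap.mem_ker] at hu ⊢
      have e : (∑ k, ρ k) * ρ g = ρ g * ∑ k, ρ k := by
        rw [hs, Finset.mul_sum]
        exact (Fintype.sum_equiv (Equiv.mulLeft g) _ _ fun k => by simp).symm
      rw [← Module.End.mul_apply, e, Module.End.mul_apply, hu, map_zero])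
  refine ⟨W, hW, hirr, ?_⟩
  by_contra h1
  push Not at h1
  have := hirr.1
  obtain ⟨u, hu⟩ := exists_ne (0 : W)
  have h2 := hle u.2
  rw [LinearMap.mem_ker, LinearMap.sum_apply] at h2
  have h3 : ∀ k, ρ k u = u := fun k => by
    rw [← sub_apply ρ W hW, h1]; rfl
  simp only [h3, Finset.sum_const, Finset.card_univ] at h2
  rw [← Nat.cast_smul_eq_nsmul K] at h2
  rcases smul_eq_zero.1 h2 with h4 | h4
  · exact hQ h4
  · exact hu (Subtype.ext h4)

/-- the orbit of an irreducible constituent under a `p`-element -/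
theorem Irr.orbit [Fintype Q] [IsAlgClosed K] {p : ℕ} [hp : Fact p.Prime] [CharP K p]
    {W : Type*} [AddCommGroup W] [Module K W] [FiniteDimensional K W]
    {V : Type*} [AddCommGroup V] [Module K V] [FiniteDimensional K V]
    {σ : Q →* End K W} (h : Irr σ) (hQ : (Fintype.card Q : K) ≠ 0) {ρ : Q →* End K V}
    {ι : W →ₗ[K] V} (hι : Tw σ ρ ι) (h0 : ι ≠ 0) {X : End K V} {α : MulAut Q}
    (hX : ∀ g, X * ρ g = ρ (α g) * X) {n : ℕ} (hXn : X ^ p ^ n = 1) (hαn : α ^ p ^ n = 1) :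
    ∃ k ≤ n, (∀ g, ch σ ((α ^ p ^ k) g) = ch σ g) ∧
      (∀ i, 0 < i → i < p ^ k → ¬ ∀ g, ch σ ((α ^ i) g) = ch σ g) ∧
      ∃ Z : End K W, Z ^ p ^ (n - k) = 1 ∧ (∀ g, Z * σ g = σ ((α ^ p ^ k) g) * Z) ∧
        ∀ r t, (X - 1) ^ r = 0 → (Z - 1) ^ t ≠ 0 → p ^ k * (t + 1) ≤ r := by
  obtain ⟨m, hm1, hm2, hm3⟩ := exists_period (ch σ) α (p ^ n) (fun g => by rw [hαn]; rfl)
  obtain ⟨k, hk, rfl⟩ := (Nat.dvd_prime_pow hp.out).1 hm1
  obtain ⟨ι', Z, h1, h2, h3, h4⟩ := h.ext_step hQ hι h0 (semi_pow hX (p ^ k)) hm2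
  have hpow : ∀ (t : ℕ) w, ((X ^ p ^ k - 1) ^ t) (ι' w) = ι' (((Z - 1) ^ t) w) := by
    intro t
    induction t with
    | zero => intro w; rfl
    | succ t ih =>
      intro w
      rw [pow_succ, pow_succ, Module.End.mul_apply, Module.End.mul_apply, ← ih, LinearMap.sub_apply,
        LinearMap.sub_apply, h3, map_sub, map_sub]
      simp
  have hpow' : ∀ (t : ℕ) w, ((X ^ p ^ k) ^ t) (ι' w) = ι' ((Z ^ t) w) := by
    intro t
    induction t with
    | zero => intro w; rfl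
    | succ t ih =>
      intro w
      rw [pow_succ, pow_succ, Module.End.mul_apply, Module.End.mul_apply, h3, ih]
  have hX0 : Function.Injective X := by
    have hpos : 0 < p ^ n := pow_pos hp.out.pos _
    intro a b hab
    have e : X ^ (p ^ n - 1) * X = 1 := by rw [← pow_succ, Nat.sub_add_cancel hpos, hXn]
    have ea := congrArg (fun f : End K V => f a) e
    have eb := congrArg (fun f : End K V => f b) e
    simp only [Module.End.mul_apply, Module.End.one_apply] at ea eb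
    rw [← ea, hab, eb]
  refine ⟨k, hk, hm2, hm3, Z, ?_, h4, fun r t hr ht => ?_⟩
  · ext w
    apply h2
    rw [← hpow', ← pow_mul, ← pow_add, Nat.add_sub_cancel' hk, hXn]; rfl
  · by_contra hlt
    apply ht
    ext w
    have hpos : 0 < p ^ k := pow_pos hp.out.pos _
    have e : (X - 1) ^ (p ^ k - 1) * (X ^ p ^ k - 1) ^ t = 0 := by
      rw [← sub_one_pow_char (K := K) p, ← pow_mul, ← pow_add]
      exact pow_eq_zero_of_le (by rw [mul_add, mul_one] at hlt; omega) hr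
    have e2 := congrArg (fun f : End K V => f (ι' w)) e
    simp only [Module.End.mul_apply, LinearMap.zero_apply] at e2
    rw [hpow, sub_one_pow_eq_sum (K := K) p, LinearMap.sum_apply] at e2
    exact h.sum_eq_zero hQ h1 h2 hX0 hX (p ^ k) hm3 (fun _ => ((Z - 1) ^ t) w) e2 0 hpos

/-- Theorem B for an irreducible constituent -/
theorem Irr.core [Fintype Q] [IsAlgClosed K] {p : ℕ} [hp : Fact p.Prime] [CharP K p]
    {W : Type*} [AddCommGroup W] [Module K W] [FiniteDimensional K W]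
    {V : Type*} [AddCommGroup V] [Module K V] [FiniteDimensional K V]
    {σ : Q →* End K W} (h : Irr σ) (hQ : (Fintype.card Q : K) ≠ 0) {ρ : Q →* End K V}
    {ι : W →ₗ[K] V} (hι : Tw σ ρ ι) (h0 : ι ≠ 0) {X : End K V} {α : MulAut Q}
    (hX : ∀ g, X * ρ g = ρ (α g) * X) {n : ℕ} (hXn : X ^ p ^ (n + 1) = 1)
    (hαn : α ^ p ^ (n + 1) = 1) (ha : ∀ g, (α ^ p ^ n) g = g → ∃ c : K, σ g = c • 1)
    (hb : ¬ ∀ g, σ ((α ^ p ^ n) g) = σ g) {r : ℕ} (hr : (X - 1) ^ r = 0) :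
    p ^ (n + 1) ≤ r ∨ ∃ k ≤ n, (∀ g, ch σ ((α ^ p ^ k) g) = ch σ g) ∧
      finrank K W + 1 = p ^ (n + 1 - k) ∧ 2 ≤ finrank K W ∧ p ^ k * finrank K W ≤ r := by
  obtain ⟨k, hk, h1, -, Z, h2, h3, h4⟩ := h.orbit hQ hι h0 hX hXn hαn
  have := h.1
  rcases hk.eq_or_lt with rfl | hk
  · left
    simpa using h4 r 0 hr (by rw [pow_zero]; exact one_ne_zero)
  obtain ⟨j, rfl⟩ : ∃ j, n = k + j := ⟨n - k, by omega⟩
  have e1 : k + j + 1 - k = j + 1 := by omega
  rw [e1] at h2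
  have hpos : 0 < p ^ (j + 1) := pow_pos hp.out.pos _
  have hβ : (α ^ p ^ k) ^ p ^ (j + 1) = 1 := by rw [← pow_mul, ← pow_add, ← add_assoc, hαn]
  have hsr : ∀ g, ((α ^ p ^ k) ^ p ^ j) g = g → ∃ c : K, σ g = c • 1 := fun g hg =>
    ha g (by rwa [← pow_mul, ← pow_add] at hg)
  have hZ1 : Z ≠ 1 := by
    rintro rfl
    apply hb
    intro g
    have := semi_pow h3 (p ^ j) g
    rw [one_pow, one_mul, mul_one, ← pow_mul, ← pow_add] at this
    exact this.symm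
  by_cases h5 : (Z - 1) ^ (p ^ (j + 1) - 1) = 0
  · right
    obtain ⟨h6, h7, h8⟩ := h.crit hQ h3 h2 hβ hsr hZ1 h5 (by omega)
    refine ⟨k, by omega, h1, by rw [e1]; omega, by omega, ?_⟩
    have h9 : (Z - 1) ^ (p ^ (j + 1) - 2) ≠ 0 := fun h9 => by
      have := (h.crit hQ h3 h2 hβ hsr hZ1 h9 (by omega)).1
      omega
    have := h4 r _ hr h9
    rw [h7]
    rwa [show p ^ (j + 1) - 2 + 1 = p ^ (j + 1) - 1 by omega] at this
  · left
    have := h4 r _ hr h5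
    rwa [Nat.sub_add_cancel hpos, ← pow_add, ← add_assoc] at this

omit [Group Q] in
theorem card_ne_zero {p : ℕ} [Fact p.Prime] [CharP K p] [Fintype Q] (h : ¬ p ∣ Nat.card Q) :
    (Fintype.card Q : K) ≠ 0 := by
  rw [Ne, CharP.cast_eq_zero_iff K p, ← Nat.card_eq_fintype_card]; exact h

end Lin

section Grp

variable {G : Type*} [Group G] [Finite G]

local notation "𝐍 " H:max => Subgroup.normalizer (H : Set _)
local notation "𝐂 " H:max => Subgroup.centralizer (H : Set _)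

theorem exists_min {p : ℕ} [Fact p.Prime] {P B L : Subgroup G} (hP : IsPGroup p P)
    (hL : (Nat.card L).Coprime p) (hPL : P ≤ 𝐍 L) (hB : ¬ B ≤ 𝐂 L) :
    ∃ (q : ℕ) (Q : Subgroup G), q.Prime ∧ q ≠ p ∧ IsPGroup q Q ∧ Q ≤ L ∧ P ≤ 𝐍 Q ∧ ¬ B ≤ 𝐂 Q ∧
      ∀ R < Q, P ≤ 𝐍 R → B ≤ 𝐂 R := by
  obtain ⟨Q, ⟨h1, h2, h3⟩, hmin⟩ := exists_minimal_of_wellFoundedLT
    (fun Q : Subgroup G => Q ≤ L ∧ P ≤ 𝐍 Q ∧ ¬ B ≤ 𝐂 Q) ⟨L, le_rfl, hPL, hB⟩
  have hmin' : ∀ R < Q, P ≤ 𝐍 R → B ≤ 𝐂 R := fun R hR hn => by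
    by_contra hc
    exact hR.not_ge (hmin ⟨hR.le.trans h1, hn, hc⟩ hR.le)
  have hQ := coprime_of_le hL h1
  have hcop : (Nat.card P).Coprime (Nat.card Q) := coprime_card_of_isPGroup Fact.out hP hQ
  by_contra hc
  apply h3
  rw [le_centralizer_iff]
  refine Coprime.le_of_forall_invariant_pgroup_le h2 hcop
    (Or.inl (Coprime.isSolvable_of_isPGroup hP)) fun q hq S hS hn => ?_
  rw [le_centralizer_iff]
  rcases hS.le.eq_or_lt with rfl | hlt
  · by_cases hqp : q = p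
    · subst hqp
      rw [eq_bot_of_isPGroup_of_coprime hq.out hS.2 hQ]
      exact le_centralizer_iff.1 bot_le
    · exact absurd ⟨q, S, hq.out, hqp, hS.2, h1, h2, h3, hmin'⟩ hc
  · exact hmin' S hlt hn

theorem min_props {P B Q : Subgroup G} (hQ : Group.IsNilpotent Q) (hBP : B ≤ P) (hPB : P ≤ 𝐍 B)
    (hPQ : P ≤ 𝐍 Q) (hcop : (Nat.card B).Coprime (Nat.card Q)) (hB : ¬ B ≤ 𝐂 Q)
    (hmin : ∀ R < Q, P ≤ 𝐍 R → B ≤ 𝐂 R) : ⁅Q, B⁆ = Q ∧ Q ⊓ 𝐂 B ≤ 𝐂 Q := by
  have hBQ := hBP.trans hPQ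
  have h1 : ⁅Q, B⁆ = Q := by
    rcases (Coprime.commutator_le_of_le_normalizer hBQ).eq_or_lt with h | h
    · exact h
    · exact absurd (Coprime.le_centralizer_of_commutator_le_centralizer hBQ hcop
        (le_centralizer_iff.1 (hmin _ h (le_normalizer_commutator hPQ hPB)))) hB
  refine ⟨h1, ?_⟩
  have hC : P ≤ 𝐍 (Q ⊓ 𝐂 B : Subgroup G) := le_normalizer_inf hPQ (le_normalizer_centralizer hPB)
  have hn : Q ≤ 𝐍 (Q ⊓ 𝐂 B : Subgroup G) := by
    rcases (inf_le_left : Q ⊓ 𝐍 (Q ⊓ 𝐂 B : Subgroup G) ≤ Q).eq_or_lt with h | h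
    · exact inf_eq_left.1 h
    · exfalso
      have h2 := le_centralizer_iff.1 (hmin _ h (le_normalizer_inf hPQ (le_normalizer_normalizer hC)))
      have h3 : (Q ⊓ 𝐂 B : Subgroup G).subgroupOf Q < ⊤ := by
        rw [lt_top_iff_ne_top, Ne, subgroupOf_eq_top]
        exact fun h => hB (le_centralizer_iff.1 (h.trans inf_le_right))
      have h4 := Group.normalizerCondition_of_isNilpotent (G := Q) _ h3
      obtain ⟨x, hx1, hx2⟩ := SetLike.exists_of_lt h4
      rw [← subgroupOf_normalizer_eq inf_le_left] at hx1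
      exact hx2 ⟨x.2, h2 ⟨x.2, hx1⟩⟩
  rw [le_centralizer_iff]
  have := Coprime.commutator_le_centralizer_of_centralizes hn
    (le_centralizer_iff.1 (inf_le_right : Q ⊓ 𝐂 B ≤ 𝐂 B))
  rwa [h1] at this

omit [Finite G] in
/-- a homomorphism which is constant on the classes under `y` is trivial on `⁅Q, y⁆` -/
theorem hom_eq_one_of_commutator {M : Type*} [Monoid M] {Q B : Subgroup G} (hBQ : B ≤ 𝐍 Q)
    (h1 : ⁅Q, B⁆ = Q) (τ : Q →* M) (h : ∀ b : B, ∀ g : Q, τ (Coprime.conjAut hBQ b g) = τ g)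
    (g : Q) : τ g = 1 := by
  have : ⁅Q, B⁆ ≤ τ.ker.map Q.subtype := by
    rw [commutator_le]
    intro a ha b hb
    refine ⟨⟨a, ha⟩ * Coprime.conjAut hBQ ⟨b, hb⟩ ⟨a, ha⟩⁻¹, ?_, ?_⟩
    · rw [SetLike.mem_coe, MonoidHom.mem_ker, map_mul, h, ← map_mul, mul_inv_cancel, map_one]
    · simp [Coprime.coe_conjAut, commutatorElement_def, mul_assoc]
  rw [h1] at this
  obtain ⟨g', hg', e⟩ := this g.2
  have : g' = g := Subtype.ext e
  exact this ▸ hg'

omit [Finite G] in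
theorem not_comm_sylow {q : ℕ} [Finite G] (hq : q.Prime) {Q : Subgroup G} (hQ : IsPGroup q Q)
    (h : ¬ IsMulCommutative Q) (S : Sylow q G) : ¬ IsMulCommutative S := by
  have := Fact.mk hq
  intro hS
  apply h
  obtain ⟨T, hT⟩ := hQ.exists_le_sylow
  obtain ⟨e⟩ := (⟨S.equiv T⟩ : Nonempty (S ≃* T))
  refine ⟨⟨fun a b => Subtype.ext ?_⟩⟩
  have := hS.is_comm.comm (e.symm ⟨a, hT a.2⟩) (e.symm ⟨b, hT b.2⟩)
  rw [← map_mul, ← map_mul] at this
  exact congrArg (Subtype.val : T → G) (e.symm.injective this)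

/-- the exceptional alternative of Theorem B -/
def Exc (p n r : ℕ) (H : Type*) [Group H] : Prop :=
  ∃ n₀ q m : ℕ, 1 ≤ n₀ ∧ n₀ ≤ n ∧ q.Prime ∧ 1 ≤ m ∧ p ^ n₀ - 1 = q ^ m ∧
    (∀ Q : Sylow q H, ¬ IsMulCommutative Q) ∧ p ^ (n - n₀) * (p ^ n₀ - 1) ≤ r

theorem thmB_closed {K : Type u} [Field K] [IsAlgClosed K] {p : ℕ} [hp : Fact p.Prime] [CharP K p]
    {V : Type v} [AddCommGroup V] [Module K V] [FiniteDimensional K V] (ρ : G →* End K V)
    {L : Subgroup G} (hL : (Nat.card L).Coprime p) (hf : ∀ g ∈ L, ρ g = 1 → g = 1) {x : G}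
    (hx : x ∈ 𝐍 L) {n : ℕ} (hn : x ^ p ^ (n + 1) = 1) (hy : x ^ p ^ n ∉ 𝐂 L) {r : ℕ}
    (hr : (ρ x - 1) ^ r = 0) : p ^ (n + 1) ≤ r ∨ Exc p (n + 1) r G := by
  have hP := isPGroup_zpowers_of_pow_eq_one hn
  obtain ⟨q, Q, hq, hqp, hQ, hQL, hPQ, hB, hmin⟩ := exists_min (B := zpowers (x ^ p ^ n)) hP hL
    (zpowers_le.2 hx) (fun h => hy (h (mem_zpowers _)))
  have := Fact.mk hq
  have hBP : zpowers (x ^ p ^ n) ≤ zpowers x := zpowers_le.2 (npow_mem_zpowers x _)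
  have hQp := coprime_of_le hL hQL
  obtain ⟨h1, h2⟩ := min_props hQ.isNilpotent hBP
    (le_trans (by
      rw [zpowers_le, centralizer_zpowers, mem_centralizer_singleton_iff]
      exact ((Commute.refl x).pow_right _).eq) (centralizer_le_normalizer _)) hPQ
    (coprime_card_of_isPGroup hp.out (hP.to_le hBP) hQp) hB hmin
  have := Fintype.ofFinite Q
  have hQK : (Fintype.card Q : K) ≠ 0 := card_ne_zero ((Nat.Prime.coprime_iff_not_dvd hp.out).1 hQp.symm)
  obtain ⟨W, hW, hirr, g₀, hg₀⟩ := exists_irr_nontriv hQK (ρ.comp Q.subtype) (by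
    by_contra h
    push Not at h
    apply hB
    intro b _ g hg
    rw [hf g (hQL hg) (h ⟨g, hg⟩), mul_one, one_mul])
  set α := Coprime.conjAut hPQ ⟨x, mem_zpowers x⟩ with hα
  have hαi : ∀ i (g : Q), (((α ^ i) g : Q) : G) = x ^ i * g * (x ^ i)⁻¹ := fun i g => by
    rw [hα, ← map_pow, Coprime.coe_conjAut]; rfl
  have hW0 : W.subtype ≠ 0 := by
    intro h0
    have := hirr.1
    obtain ⟨u, hu⟩ := exists_ne (0 : W)
    exact hu (Subtype.ext (congrArg (fun f : W →ₗ[K] V => f u) h0))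
  rcases hirr.core hQK (tw_sub _ W hW) hW0 (X := ρ x) (α := α) (fun g => by
      simp only [MonoidHom.comp_apply, coe_subtype, ← map_mul]
      rw [← pow_one α, hαi]; congr 1; group) (n := n) (by rw [← map_pow, hn, map_one])
      (by ext g; rw [hαi, hn]; simp) (fun g hg => hirr.scalar_of_center (by
        have h3 : (g : G) ∈ 𝐂 (zpowers (x ^ p ^ n)) := by
          rw [centralizer_zpowers, mem_centralizer_singleton_iff]
          have := hαi (p ^ n) g
          rw [hg] at this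
          rw [eq_mul_inv_iff_mul_eq] at this
          exact this
        rw [mem_center_iff]
        exact fun k => Subtype.ext (h2 ⟨g.2, h3⟩ k k.2))) (fun h3 => hg₀ (by
        refine hom_eq_one_of_commutator (hBP.trans hPQ) h1 _ (fun b g => ?_) g₀
        obtain ⟨b, hb⟩ := b
        obtain ⟨i, rfl⟩ := mem_powers_iff_mem_zpowers.2 hb
        have e : Coprime.conjAut (hBP.trans hPQ) ⟨(x ^ p ^ n) ^ i, hb⟩ g = ((α ^ p ^ n) ^ i) g := by
          apply Subtype.ext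
          rw [← pow_mul α, hαi, Coprime.coe_conjAut, pow_mul]
        simp only at e ⊢
        rw [e]
        clear e hb
        induction i with
        | zero => rfl
        | succ i ih => rw [pow_succ', MulAut.mul_apply, h3, ih])) hr with h3 | ⟨k, hk, -, h4, h5, h6⟩
  · exact Or.inl h3
  · right
    obtain ⟨b, hb⟩ := hirr.finrank_eq_pow (q := q) (by
      rw [Ne, CharP.cast_eq_zero_iff K p]
      exact fun h => hqp ((Nat.prime_dvd_prime_iff_eq hp.out hq).1 h).symm) hQ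
    refine ⟨n + 1 - k, q, b, by omega, by omega, hq, ?_, by omega,
      not_comm_sylow hq hQ fun hc => ?_, ?_⟩
    · rcases b with _ | b
      · rw [pow_zero] at hb; omega
      · omega
    · have := hirr.finrank_eq_one hc
      omega
    · rw [show n + 1 - (n + 1 - k) = k by omega, ← h4]; exact h6

/-- Hall-Higman Theorem B -/
theorem thmB {F : Type u} [Field F] {p : ℕ} [hp : Fact p.Prime] [CharP F p]
    {V : Type v} [AddCommGroup V] [Module F V] [FiniteDimensional F V] (ρ : G →* End F V)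
    {L : Subgroup G} (hL : (Nat.card L).Coprime p) (hf : ∀ g ∈ L, ρ g = 1 → g = 1) {x : G}
    (hx : x ∈ 𝐍 L) {n : ℕ} (hn : x ^ p ^ (n + 1) = 1) (hy : x ^ p ^ n ∉ 𝐂 L) {r : ℕ}
    (hr : (ρ x - 1) ^ r = 0) : p ^ (n + 1) ≤ r ∨ Exc p (n + 1) r G := by
  refine thmB_closed ((BG1.extEnd (AlgebraicClosure F) V).toMonoidHom.comp ρ) hL
    (fun g hg h => hf g hg (BG1.extEnd_injective (AlgebraicClosure F) V
      (h.trans (map_one _).symm))) hx hn hy ?_
  simpa using congrArg (BG1.extEnd (AlgebraicClosure F) V) hr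

/-- Theorem B for a faithful representation of a `p`-solvable group with trivial `p`-core -/
theorem thmB_faithful {F : Type u} [Field F] {p : ℕ} [hp : Fact p.Prime] [CharP F p]
    {V : Type v} [AddCommGroup V] [Module F V] [FiniteDimensional F V] (ρ : G →* End F V)
    (hG : IsPSolvable p G) (hO : pCore p G = ⊥) (hf : ∀ g, ρ g = 1 → g = 1) {x : G}
    {n : ℕ} (hn : x ^ p ^ (n + 1) = 1) (hy : x ^ p ^ n ≠ 1) {r : ℕ}
    (hr : (ρ x - 1) ^ r = 0) : p ^ (n + 1) ≤ r ∨ Exc p (n + 1) r G := by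
  have := (pPrimeCore_characteristic p G)
  refine thmB ρ (coprime_card_pPrimeCore p G) (fun g _ => hf g)
    (by rw [normalizer_eq_top]; trivial) hn (fun h => hy ?_) hr
  have h1 := centralizer_pPrimeCore_le_of_isPSolvable hp.out hG hO h
  have h2 : x ^ p ^ n ∈ zpowers x ⊓ pPrimeCore p G := ⟨npow_mem_zpowers x _, h1⟩
  rwa [inf_eq_bot_of_isPGroup_of_coprime hp.out (isPGroup_zpowers_of_pow_eq_one hn)
    (coprime_card_pPrimeCore p G), mem_bot] at h2

end Grp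

end Cfsg.Lib.HH
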