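import Cfsg.Agent.Lib.Core.UpperP

/-! Subadditivity of the `p`-length. -/

set_option autoImplicit false

namespace Cfsg.Lib.HH

open Subgroup Cfsg.Lib.Core

universe u

theorem pLengthLE_add {p b : ℕ} (a : ℕ) : ∀ {G : Type u} [Group G] [Finite G] (N : Subgroup G)
    [N.Normal], PLengthLE p a N → PLengthLE p b (G ⧸ N) → PLengthLE p (a + b) G := by
  induction a with
  | zero =>
    intro G _ _ N _ h1 h2
    rw [zero_add]
    exact pLengthLE_of_quotient_of_coprime N (pLengthLE_zero_iff.1 h1) h2
  | succ a ih =>
    intro G _ _ N hN h1 h2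
    have := pPrimePCore_normal p G
    have hf := QuotientGroup.mk'_surjective (pPrimePCore p G)
    have := hN.map _ hf
    rw [add_right_comm]
    refine pLengthLE_succ_of_quotient _ le_rfl (ih (N.map (QuotientGroup.mk' _)) ?_
      (pLengthLE_of_surjective h2 (f := QuotientGroup.map N _ _ (le_comap_map _ _)) ?_))
    · refine (pLengthLE_congr (QuotientGroup.quotientKerEquivOfSurjective _
        (MonoidHom.subgroupMap_surjective _ N))).1 (pLengthLE_quotient_of_succ _ ?_ h1)
      intro x hx
      exact Subtype.ext ((QuotientGroup.eq_one_iff _).2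
        (map_subtype_pPrimePCore_le N (mem_map_of_mem _ hx)))
    · intro y
      obtain ⟨y, rfl⟩ := QuotientGroup.mk_surjective y
      obtain ⟨y, rfl⟩ := hf y
      exact ⟨y, rfl⟩

end Cfsg.Lib.HH
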