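import Cfsg.Agent.Lib.HH.Irr

/-!
# The critical case of Hall-Higman Theorem B
-/

set_option autoImplicit false

namespace Cfsg.Lib.HH

open Module

universe u v w

variable {K : Type u} [Field K]

theorem sum_mem_range {Q E : Type*} [DecidableEq Q] [AddCommGroup E] [Module K E] (β : Equiv.Perm Q)
    (c : End K E) (N : ℕ) (hN0 : 0 < N) (hN : β ^ N = 1) (F : Q → E) (hF : ∀ g, F (β g) = c (F g))
    (S : Finset Q) (hS : ∀ g ∈ S, β g ∈ S)
    (hreg : ∀ g ∈ S, ∀ i, 0 < i → i < N → (β ^ i) g ≠ g) :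
    ∑ g ∈ S, F g ∈ LinearMap.range (∑ i ∈ Finset.range N, c ^ i) := by
  induction S using Finset.strongInduction with
  | H S ih =>
    rcases S.eq_empty_or_nonempty with rfl | ⟨g, hg⟩
    · simp
    have hpow : ∀ i, (β ^ i) g ∈ S := by
      intro i
      induction i with
      | zero => simpa using hg
      | succ i ih => rw [pow_succ']; exact hS _ ih
    have hFi : ∀ i, F ((β ^ i) g) = (c ^ i) (F g) := by
      intro i
      induction i with
      | zero => simp
      | succ i ih => rw [pow_succ', pow_succ', Equiv.Perm.mul_apply, hF, ih]; rfl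
    set O := (Finset.range N).image fun i => (β ^ i) g with hO
    have hOS : O ⊆ S := by
      intro x hx
      obtain ⟨i, -, rfl⟩ := Finset.mem_image.1 hx
      exact hpow i
    have hmem : ∀ i, (β ^ i) g ∈ O := fun i =>
      Finset.mem_image.2 ⟨i % N, Finset.mem_range.2 (Nat.mod_lt _ hN0), by
        conv_rhs => rw [← Nat.mod_add_div i N, pow_add, pow_mul, hN, one_pow, mul_one]⟩
    have hinj : Set.InjOn (fun i => (β ^ i) g) (Finset.range N : Set ℕ) := by
      have aux : ∀ a b, a < b → b < N → (β ^ a) g ≠ (β ^ b) g := by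
        intro a b hab hb h
        apply hreg g hg (b - a) (by omega) (by omega)
        apply (β ^ a).injective
        rw [← Equiv.Perm.mul_apply, ← pow_add, Nat.add_sub_cancel' hab.le, h]
      intro a ha b hb h
      simp only [Finset.coe_range, Set.mem_Iio] at ha hb
      rcases lt_trichotomy a b with h1 | h1 | h1
      · exact absurd h (aux a b h1 hb)
      · exact h1
      · exact absurd h.symm (aux b a h1 ha)
    rw [← Finset.sum_sdiff hOS]
    refine Submodule.add_mem _ (ih _ (Finset.sdiff_ssubset hOS ⟨g, by simpa using hmem 0⟩) ?_ ?_) ?_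
    · intro x hx
      rw [Finset.mem_sdiff] at hx ⊢
      refine ⟨hS x hx.1, fun h => hx.2 ?_⟩
      obtain ⟨i, -, hi⟩ := Finset.mem_image.1 h
      have : x = (β ^ (N - 1 + i)) g := by
        rw [pow_add, Equiv.Perm.mul_apply, hi, ← Equiv.Perm.mul_apply, ← pow_succ,
          Nat.sub_add_cancel hN0, hN, Equiv.Perm.one_apply]
      rw [this]; exact hmem _
    · intro x hx
      exact hreg x (Finset.mem_sdiff.1 hx).1
    · rw [hO, Finset.sum_image hinj]
      refine ⟨F g, ?_⟩
      simp only [LinearMap.sum_apply, hFi]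

theorem crit_arith {d t N c : ℕ} (h1 : d ^ 2 ≤ t * c) (h2 : N * c ≤ N + d ^ 2 - 1) (htd : t ≤ d)
    (ht : 2 ≤ t) (htN : t < N) : t + 1 = N ∧ d = t := by
  obtain ⟨e, rfl⟩ : ∃ e, N = t + 1 + e := ⟨N - (t + 1), by omega⟩
  have h3 : (t + 1 + e) * c ≤ t + e + d ^ 2 := by omega
  have h4 : (t + 1 + e) * d ^ 2 ≤ t * (t + e + d ^ 2) := by
    calc (t + 1 + e) * d ^ 2 ≤ (t + 1 + e) * (t * c) := Nat.mul_le_mul_left _ h1
      _ = t * ((t + 1 + e) * c) := by ring
      _ ≤ _ := Nat.mul_le_mul_left _ h3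
  have h5 : (1 + e) * d ^ 2 ≤ t * (t + e) := by nlinarith
  have h6 : t ^ 2 ≤ d ^ 2 := Nat.pow_le_pow_left htd 2
  have h7 : e = 0 := by
    by_contra h
    have he : 1 ≤ e := by omega
    have : (1 + e) * t ^ 2 ≤ t * (t + e) := (Nat.mul_le_mul_left _ h6).trans h5
    have h8 : e * t * t ≤ e * t * 1 := by nlinarith
    have := Nat.le_of_mul_le_mul_left h8 (by positivity)
    omega
  subst h7
  refine ⟨rfl, le_antisymm ?_ htd⟩
  have : d ^ 2 ≤ t ^ 2 := by nlinarith
  exact (Nat.pow_le_pow_iff_left (by norm_num)).1 this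

variable {Q : Type w} [Group Q]

/-- the critical case -/
theorem Irr.crit [Fintype Q] [IsAlgClosed K] {p : ℕ} [hp : Fact p.Prime] [CharP K p]
    {W : Type*} [AddCommGroup W] [Module K W] [FiniteDimensional K W]
    {σ : Q →* End K W} (h : Irr σ) (hQ : (Fintype.card Q : K) ≠ 0) {Z : End K W} {β : MulAut Q}
    (hZ : ∀ g, Z * σ g = σ (β g) * Z) {j : ℕ} (hZN : Z ^ p ^ (j + 1) = 1)
    (hβN : β ^ p ^ (j + 1) = 1) (hsr : ∀ g, (β ^ p ^ j) g = g → ∃ c : K, σ g = c • 1)
    (hZ1 : Z ≠ 1) {s : ℕ} (hs : (Z - 1) ^ s = 0) (hlt : s < p ^ (j + 1)) :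
    s + 1 = p ^ (j + 1) ∧ finrank K W = s ∧ 2 ≤ s := by
  classical
  set N := p ^ (j + 1) with hN
  have hN0 : 0 < N := pow_pos hp.out.pos _
  set Z' := Z ^ (N - 1) with hZ'
  have hZZ : Z * Z' = 1 := by rw [hZ', ← pow_succ', Nat.sub_add_cancel hN0, hZN]
  have hZZ' : Z' * Z = 1 := by rw [hZ', ← pow_succ, Nat.sub_add_cancel hN0, hZN]
  let c : End K (End K W) := LinearMap.mulLeft K Z * LinearMap.mulRight K Z'
  have hc : ∀ f, c f = Z * f * Z' := fun f => by simp [c, mul_assoc]
  have hci : ∀ i f, (c ^ i) f = Z ^ i * f * Z' ^ i := by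
    intro i f
    induction i with
    | zero => simp
    | succ i ih => rw [pow_succ', Module.End.mul_apply, ih, hc, pow_succ' Z, pow_succ Z']; simp only [mul_assoc]
  have hcN : c ^ N = 1 := by
    ext1 f
    rw [hci, hZN, hZ', ← pow_mul, mul_comm (N - 1), pow_mul, hZN]; simp
  have hσ : ∀ g, σ (β g) = Z * σ g * Z' := fun g => by rw [hZ, mul_assoc, hZZ, mul_one]
  have hd := h.finrank_ne_zero hQ
  have hle : cent (Z - 1) ≤ (K ∙ (1 : End K W)) ⊔ LinearMap.range ((c - 1) ^ (N - 1)) := by
    intro f hf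
    have hf' : Z * f = f * Z := by
      rw [mem_cent, sub_mul, mul_sub, one_mul, mul_one] at hf
      exact sub_left_injective hf
    have h1 : four σ σ f ∈ (K ∙ (1 : End K W)) ⊔ LinearMap.range ((c - 1) ^ (N - 1)) := by
      rw [four, ← Finset.sum_filter_add_sum_filter_not Finset.univ (fun g => ∃ a : K, σ g = a • 1)]
      refine Submodule.add_mem_sup (Submodule.sum_mem _ fun g hg => ?_) ?_
      · obtain ⟨a, ha⟩ := (Finset.mem_filter.1 hg).2
        rw [ha]
        exact Submodule.smul_mem _ _ (Submodule.smul_mem _ _ (Submodule.mem_span_singleton_self _))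
      · rw [hN, sub_one_pow_eq_sum (K := K) p]
        have e : ∀ i g, ((β : Equiv.Perm Q) ^ i) g = (β ^ i) g := fun i g => by
          induction i with
          | zero => rfl
          | succ i ih => rw [pow_succ', pow_succ', Equiv.Perm.mul_apply, ih]; rfl
        refine sum_mem_range (β : Equiv.Perm Q) c N hN0 (by
          ext g; rw [e, hβN]; rfl) _ (fun g => ?_) _ (fun g hg => ?_) (fun g hg i h1 h2 h3 => ?_)
        · change LinearMap.trace K W (f * σ (β g)⁻¹) • σ (β g) = _
          rw [map_smul, hc, ← map_inv, hσ, hσ, ← mul_assoc, ← mul_assoc, ← hf',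
            LinearMap.trace_mul_comm, ← mul_assoc, ← mul_assoc, hZZ', one_mul]
        · simp only [Finset.mem_filter, Finset.mem_univ, true_and] at hg ⊢
          rintro ⟨a, ha⟩
          refine hg ⟨a, ?_⟩
          change σ (β g) = _ at ha
          rw [hσ] at ha
          calc σ g = Z' * (Z * σ g * Z') * Z := by
                rw [← mul_assoc, ← mul_assoc, hZZ', one_mul, mul_assoc, hZZ', mul_one]
            _ = a • 1 := by rw [ha, mul_smul_comm, smul_mul_assoc, mul_one, hZZ']
        · simp only [Finset.mem_filter, Finset.mem_univ, true_and] at hg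
          apply hg
          apply hsr
          rw [e] at h3
          have hper : ∀ k, Function.IsPeriodicPt β k g ↔ (β ^ k) g = g := fun k => by
            rw [Function.IsPeriodicPt, Function.IsFixedPt, ← e, Equiv.Perm.coe_pow]; rfl
          have h4 := ((hper N).2 (by rw [hβN]; rfl)).minimalPeriod_dvd
          have h5 := ((hper i).2 h3).minimalPeriod_le h1
          obtain ⟨k, hk, hk'⟩ := (Nat.dvd_prime_pow hp.out).1 h4
          have h6 : k ≤ j := by
            by_contra h7
            have : k = j + 1 := by omega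
            rw [hk', this] at h5
            omega
          rw [← hper, Function.isPeriodicPt_iff_minimalPeriod_dvd, hk']
          exact pow_dvd_pow p h6
    have h2 := h.four_self f
    have h3 : f = ((Fintype.card Q : K)⁻¹ * (finrank K W : K)) • four σ σ f := by
      rw [mul_smul, h2, smul_smul, inv_mul_cancel₀ hQ, one_smul]
    rw [h3]
    exact Submodule.smul_mem _ _ h1
  have hb1 := Submodule.finrank_mono hle
  have hb2 := Submodule.finrank_add_le_finrank_add_finrank (K ∙ (1 : End K W))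
    (LinearMap.range ((c - 1) ^ (N - 1)))
  have hb3 : finrank K (K ∙ (1 : End K W)) = 1 := by
    have := h.1
    exact finrank_span_singleton one_ne_zero
  have hb4 := mul_finrank_range_le (c - 1) (N - 1) (by
    rw [Nat.sub_add_cancel hN0, hN, sub_one_pow_char (K := K) p, ← hN, hcN, sub_self])
  rw [Nat.sub_add_cancel hN0, Module.finrank_linearMap, ← sq] at hb4
  have hb5 : N * finrank K (LinearMap.range ((c - 1) ^ (N - 1))) ≠ finrank K W ^ 2 := by
    intro he
    apply hd
    rw [CharP.cast_eq_zero_iff K p]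
    apply hp.out.dvd_of_dvd_pow (n := 2)
    rw [← he, hN, pow_succ]
    exact Dvd.dvd.mul_right (Dvd.intro_left _ rfl) _
  have hb6 : N * finrank K (cent (Z - 1)) ≤ N + finrank K W ^ 2 - 1 := by
    have : N * finrank K (cent (Z - 1)) ≤
        N * (1 + finrank K (LinearMap.range ((c - 1) ^ (N - 1)))) :=
      Nat.mul_le_mul_left _ (by omega)
    rw [mul_add] at this
    omega
  have ht : (Z - 1) ^ min s (finrank K W) = 0 := by
    rcases le_total s (finrank K W) with h1 | h1
    · rwa [min_eq_left h1]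
    · rw [min_eq_right h1]; exact pow_finrank_eq_zero hs
  have ht2 : 2 ≤ min s (finrank K W) := by
    by_contra h1
    apply hZ1
    rw [← sub_eq_zero, ← pow_one (Z - 1)]
    exact pow_eq_zero_of_le (by omega) ht
  obtain ⟨h1, h2⟩ := crit_arith (sq_le_mul_finrank_cent _ _ ht) hb6 (min_le_right _ _) ht2
    (lt_of_le_of_lt (min_le_left _ _) hlt)
  have h3 := min_le_left s (finrank K W)
  omega

theorem inv_of_sup [Finite Q] {V : Type*} [AddCommGroup V] [Module K V] (ρ : Q →* End K V)
    {M : Subgroup Q} [M.Normal] {x : Q} (h : M ⊔ Subgroup.zpowers x = ⊤) {U : Submodule K V}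
    (h1 : ∀ g ∈ M, ∀ u ∈ U, ρ g u ∈ U) (h2 : ∀ u ∈ U, ρ x u ∈ U) : ∀ g, ∀ u ∈ U, ρ g u ∈ U := by
  intro g u hu
  obtain ⟨m, hm, y, hy, rfl⟩ := Subgroup.mem_sup_of_normal_left.1 (h ▸ Subgroup.mem_top g)
  obtain ⟨n, rfl⟩ := mem_powers_iff_mem_zpowers.2 hy
  rw [← rep_mul_apply]
  apply h1 m hm
  induction n with
  | zero => simpa using hu
  | succ n ih =>
    simp only at ih ⊢
    rw [pow_succ', ← rep_mul_apply]
    exact h2 _ (ih (Subgroup.npow_mem_zpowers x n))

theorem rep_injective {V : Type*} [AddCommGroup V] [Module K V] (ρ : Q →* End K V) (g : Q) :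
    Function.Injective (ρ g) := fun a b h => by
  rw [← rep_inv_apply ρ g a, h, rep_inv_apply]

theorem finrank_eq_pow_aux [IsAlgClosed K] {q : ℕ} [hq : Fact q.Prime] (hqK : (q : K) ≠ 0) (n : ℕ) :
    ∀ {Q : Type w} [Group Q] [Finite Q], Nat.card Q = q ^ n →
    ∀ {W : Type v} [AddCommGroup W] [Module K W] [FiniteDimensional K W] (σ : Q →* End K W),
    Irr σ → ∃ b, finrank K W = q ^ b := by
  induction n with
  | zero =>
    intro Q _ _ hc W _ _ _ σ h
    have : Subsingleton Q := (Nat.card_eq_one_iff_unique.1 (by simpa using hc)).1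
    exact ⟨0, by rw [pow_zero]; exact h.finrank_eq_one ⟨⟨fun a b => Subsingleton.elim _ _⟩⟩⟩
  | succ n ih =>
    intro Q _ _ hc W _ _ _ σ h
    obtain ⟨M, hM⟩ := Sylow.exists_subgroup_card_pow_prime (G := Q) q (n := n)
      (by rw [hc]; exact pow_dvd_pow q (by omega))
    have hi : M.index = q := by
      have := M.card_mul_index
      rw [hM, hc, pow_succ] at this
      exact Nat.eq_of_mul_eq_mul_left (pow_pos hq.out.pos _) this
    have hn : M.Normal := Subgroup.normal_of_index_eq_minFac_card (by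
      rw [hi, hc, Nat.Prime.pow_minFac hq.out (by omega)])
    obtain ⟨x, hx⟩ : ∃ x, x ∉ M := by
      by_contra h1
      push Not at h1
      rw [(Subgroup.eq_top_iff' M).2 h1, Subgroup.index_top] at hi
      exact hq.out.one_lt.ne hi
    have hsup : M ⊔ Subgroup.zpowers x = ⊤ := by
      have h1 : (M ⊔ Subgroup.zpowers x).index ∣ q := hi ▸ Subgroup.index_dvd_of_le le_sup_left
      rcases (Nat.dvd_prime hq.out).1 h1 with h2 | h2
      · exact Subgroup.index_eq_one.1 h2
      · exfalso
        have h3 := Subgroup.relIndex_mul_index (le_sup_left : M ≤ M ⊔ Subgroup.zpowers x)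
        rw [h2, hi] at h3
        have h4 : M.relIndex (M ⊔ Subgroup.zpowers x) = 1 :=
          Nat.eq_of_mul_eq_mul_right hq.out.pos (by rw [h3, one_mul])
        exact hx (Subgroup.relIndex_eq_one.1 h4 (Subgroup.mem_sup_right (Subgroup.mem_zpowers x)))
    have hxq : x ^ q ∈ M := hi ▸ M.pow_index_mem x
    have := h.1
    have := Fintype.ofFinite M
    have hMK : (Fintype.card M : K) ≠ 0 := by
      rw [← Nat.card_eq_fintype_card, hM, Nat.cast_pow]; exact pow_ne_zero _ hqK
    obtain ⟨U, hU, -, hirr⟩ := exists_irr_le (σ.comp M.subtype) ⊤ top_ne_bot (fun _ _ _ => trivial)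
    obtain ⟨b, hb⟩ := ih hM _ hirr
    set τ := sub (σ.comp M.subtype) U hU with hτ
    have hX : ∀ g : M, σ x * (σ.comp M.subtype) g =
        (σ.comp M.subtype) (MulAut.conjNormal x g) * σ x := by
      intro g
      simp only [MonoidHom.comp_apply, Subgroup.coe_subtype, MulAut.conjNormal_apply, ← map_mul]
      congr 1; group
    have hU0 : U.subtype ≠ 0 := by
      intro h0
      have := hirr.1
      obtain ⟨u, hu⟩ := exists_ne (0 : U)
      exact hu (Subtype.ext (congrArg (fun f : U →ₗ[K] W => f u) h0))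
    obtain ⟨m, hm1, hm2, hm3⟩ := exists_period (ch τ) (MulAut.conjNormal x) q (fun g => by
      rw [← ch_conj τ g ⟨x ^ q, hxq⟩, ← map_pow]
      congr 1)
    rcases (Nat.dvd_prime hq.out).1 hm1 with rfl | rfl
    · rw [pow_one] at hm2
      obtain ⟨ι, Z, h1, h2, h3, -⟩ := hirr.ext_step hMK (tw_sub _ U hU) hU0 hX hm2
      rcases h.2 (LinearMap.range ι) (inv_of_sup σ hsup (by
        rintro g hg _ ⟨u, rfl⟩
        exact ⟨τ ⟨g, hg⟩ u, h1 ⟨g, hg⟩ u⟩) (by
        rintro _ ⟨u, rfl⟩
        exact ⟨Z u, (h3 u).symm⟩)) with h4 | h4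
      · have := hirr.1
        obtain ⟨u, hu⟩ := exists_ne (0 : U)
        exact absurd (h2 (by rw [LinearMap.range_eq_bot.1 h4]; rfl)) hu
      · exact ⟨b, by rw [← hb, ← finrank_top, ← h4, LinearMap.finrank_range_of_inj h2]⟩
    · let Φ : (Fin m → U) →ₗ[K] W := ∑ i : Fin m, (σ x ^ i.1) ∘ₗ U.subtype ∘ₗ LinearMap.proj i
      have hΦ : ∀ w, Φ w = ∑ i : Fin m, (σ x ^ i.1) (w i) := fun w => by
        simp [Φ, LinearMap.sum_apply]
      have hinj : Function.Injective Φ := by
        rw [← LinearMap.ker_eq_bot, eq_bot_iff]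
        intro w hw
        rw [LinearMap.mem_ker, hΦ] at hw
        have := hirr.sum_eq_zero hMK (tw_sub _ U hU) U.injective_subtype (rep_injective σ x) hX m
          hm3 (fun i => if h : i < m then w ⟨i, h⟩ else 0) (by
            rw [Finset.sum_range, ← hw]
            exact Finset.sum_congr rfl fun i _ => by simp)
        ext1 i
        have h1 := this i.1 i.2
        simpa using h1
      have hsingle : ∀ i : ℕ, ∀ u ∈ U, (σ x ^ i) u ∈ LinearMap.range Φ := by
        intro i u hu
        have h1 : (σ x ^ (m * (i / m))) u ∈ U := by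
          rw [← map_pow, pow_mul]
          exact hU ⟨_, pow_mem hxq (i / m)⟩ u hu
        refine ⟨Pi.single ⟨i % m, Nat.mod_lt _ hq.out.pos⟩ ⟨_, h1⟩, ?_⟩
        rw [hΦ, Finset.sum_eq_single ⟨i % m, Nat.mod_lt _ hq.out.pos⟩
          (fun j _ hj => by simp [Pi.single_eq_of_ne hj]) (by simp)]
        simp only [Pi.single_eq_same]
        rw [← Module.End.mul_apply, ← pow_add, Nat.mod_add_div]
      rcases h.2 (LinearMap.range Φ) (inv_of_sup σ hsup (by
        rintro g hg _ ⟨w, rfl⟩
        rw [hΦ, map_sum]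
        refine Submodule.sum_mem _ fun i _ => ?_
        have : σ g ((σ x ^ i.1) (w i)) = (σ x ^ i.1) (σ ((x ^ i.1)⁻¹ * g * (x ^ i.1)⁻¹⁻¹) (w i)) := by
          rw [← map_pow, rep_mul_apply, rep_mul_apply]; congr 2; group
        rw [this]
        exact hsingle _ _ (hU ⟨_, hn.conj_mem g hg _⟩ _ (w i).2)) (by
        rintro _ ⟨w, rfl⟩
        rw [hΦ, map_sum]
        refine Submodule.sum_mem _ fun i _ => ?_
        rw [← Module.End.mul_apply, ← pow_succ']
        exact hsingle _ _ (w i).2)) with h4 | h4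
      · exfalso
        have := hirr.1
        obtain ⟨u, hu⟩ := exists_ne (0 : U)
        have := hsingle 0 u u.2
        rw [h4, Submodule.mem_bot] at this
        exact hu (Subtype.ext (by simpa using this))
      · refine ⟨b + 1, ?_⟩
        rw [← finrank_top, ← h4, LinearMap.finrank_range_of_inj hinj, Module.finrank_pi_fintype]
        simp [hb, pow_succ']

/-- the degree of an irreducible representation of a `q`-group is a power of `q` -/
theorem Irr.finrank_eq_pow [Finite Q] [IsAlgClosed K] {q : ℕ} [Fact q.Prime] (hqK : (q : K) ≠ 0)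
    (hQ : IsPGroup q Q) {W : Type v} [AddCommGroup W] [Module K W] [FiniteDimensional K W]
    {σ : Q →* End K W} (h : Irr σ) : ∃ b, finrank K W = q ^ b := by
  obtain ⟨n, hn⟩ := IsPGroup.iff_card.1 hQ
  exact finrank_eq_pow_aux hqK n hn σ h

end Cfsg.Lib.HH
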