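import Cfsg.Agent.Lib.HH.Std
import Cfsg.Agent.Lib.KS9.S4

/-! Cyclic subgroups normalized by the `p`-core in the standard situation. -/

set_option autoImplicit false

namespace Cfsg.Lib.HH

open Module Subgroup Cfsg.Lib.Core Cfsg.Lib.Amalg Cfsg.Lib.BG1
open scoped commutatorElement

universe u

variable {p : ℕ} {G : Type u} [Group G]

theorem Std.exists_compl [Finite G] [hp : Fact p.Prime] (h : Std p G) :
    ∃ L : Subgroup G, (Nat.card L).Coprime p ∧
      L.map (QuotientGroup.mk' _) = pPrimeCore p (G ⧸ pCore p G) ∧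
      (∀ g : G, ∃ v ∈ pCore p G, v * g ∈ 𝐍 L) ∧
      ∀ (x : G) (k : ℕ), x ^ p ^ k ∈ pCore p G → (∀ l ∈ L, ⁅x, l⁆ ∈ pCore p G) →
        x ∈ pCore p G := by
  set V := pCore p G
  set f := QuotientGroup.mk' V
  have hf : Function.Surjective f := QuotientGroup.mk'_surjective V
  set M := (pPrimeCore p (G ⧸ V)).comap f
  have hVM : V ≤ M := (QuotientGroup.ker_mk' V).ge.trans (ker_le_comap _ _)
  have hi : (V.subgroupOf M).index = Nat.card (pPrimeCore p (G ⧸ V)) := by
    rw [← map_comap_eq_self_of_surjective hf (pPrimeCore p (G ⧸ V)), card_map_mk'_eq_relIndex]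
    rfl
  obtain ⟨k, hk⟩ := (isPGroup_pCore p G).exists_card_eq
  obtain ⟨S, hS⟩ := exists_right_complement'_of_coprime (N := V.subgroupOf M) (by
    rw [hi, Nat.card_congr (subgroupOfEquivOfLe hVM).toEquiv, hk]
    exact (coprime_card_pPrimeCore p _).symm.pow_left _)
  have h1 : (Nat.card (S.map M.subtype)).Coprime p := by
    rw [card_map_of_injective M.subtype_injective, ← hS.symm.index_eq_card, hi]
    exact coprime_card_pPrimeCore p _
  have h2 : (S.map M.subtype).map f = pPrimeCore p (G ⧸ V) := by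
    have := congrArg (fun X => (X.map M.subtype).map f) hS.sup_eq_top
    simp only [Subgroup.map_sup] at this
    rwa [subgroupOf_map_subtype, inf_eq_left.2 hVM, (map_mk'_eq_bot_iff V V).2 le_rfl, bot_sup_eq,
      ← MonoidHom.range_eq_map, range_subtype, map_comap_eq_self_of_surjective hf] at this
  have := pPrimeCore_characteristic p (G ⧸ V)
  refine ⟨_, h1, h2, fun g => ?_, fun x j hx hc => ?_⟩
  · have h3 := Coprime.map_mk'_normalizer V (A := S.map M.subtype) (hk ▸ h1.pow_right _)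
      (Or.inr (Coprime.isSolvable_of_isPGroup (isPGroup_pCore p G)))
    rw [h2, normalizer_eq_top (pPrimeCore p (G ⧸ V))] at h3
    obtain ⟨c, hc, e⟩ := h3.ge (mem_top (f g))
    refine ⟨c * g⁻¹, ?_, by simpa using hc⟩
    rw [← QuotientGroup.eq_one_iff, QuotientGroup.mk_mul, QuotientGroup.mk_inv, mul_inv_eq_one]
    exact e
  · have h3 : f x ∈ pPrimeCore p (G ⧸ V) := centralizer_pPrimeCore_le_of_isPSolvable hp.out
      (isPSolvable_quotient hp.out h.solv _) pCore_quotient_pCore (by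
        rw [← h2]
        rintro _ ⟨l, hl, rfl⟩
        rw [eq_comm, ← commutatorElement_eq_one_iff_mul_comm, ← map_commutatorElement]
        exact (QuotientGroup.eq_one_iff _).2 (hc l hl))
    have h4 : f x ^ p ^ j = 1 := by rw [← map_pow]; exact (QuotientGroup.eq_one_iff _).2 hx
    have h5 : f x ∈ zpowers (f x) ⊓ pPrimeCore p (G ⧸ V) := ⟨mem_zpowers _, h3⟩
    rw [inf_eq_bot_of_isPGroup_of_coprime hp.out (isPGroup_zpowers_of_pow_eq_one h4)
      (coprime_card_pPrimeCore p _)] at h5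
    exact (QuotientGroup.eq_one_iff _).1 h5

theorem mem_zpowers_pow_of_mem [Finite G] (hp : p.Prime) {V : Subgroup G} [V.Normal] {a : G}
    (ha : a ∉ V) (hap : a ^ p ∈ V) {x : G} (hx : x ∈ zpowers a) (hV : x ∈ V) :
    x ∈ zpowers (a ^ p) := by
  obtain ⟨i, rfl⟩ := mem_powers_iff_mem_zpowers.2 hx
  have := Fact.mk hp
  have h1 : orderOf (a : G ⧸ V) = p := orderOf_eq_prime
    (by rwa [← QuotientGroup.mk_pow, QuotientGroup.eq_one_iff])
    (by rwa [Ne, QuotientGroup.eq_one_iff])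
  obtain ⟨j, rfl⟩ : p ∣ i := h1 ▸ orderOf_dvd_of_pow_eq_one
    (by rwa [← QuotientGroup.mk_pow, QuotientGroup.eq_one_iff])
  exact ⟨j, by simp [pow_mul]⟩

theorem transv_pow {R : Type*} [Ring R] (h2 : ∀ x : R, x + x = 0) {s t : R} (ss : s * s = 0)
    (tt : t * t = 0) (hs : s ≠ 0) (ht : t ≠ 0) (h1 : s * t * s = 0 ∨ s * t * s = s)
    (h1' : t * s * t = 0 ∨ t * s * t = t) : ((1 + s) * (1 + t)) ^ 12 = 1 := by
  rcases h1 with h1 | h1 <;> rcases h1' with h1' | h1'
  · have e : ((1 + s) * (1 + t)) ^ 2 = 1 + (s * t + t * s) := by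
      linear_combination (norm := noncomm_ring) h2 (s + t + s * t) + ss * (1 + t) + (1 + s) * tt +
        h1 * (1 + t) + h1'
    have e2 : (1 + (s * t + t * s)) ^ 2 = 1 := by
      linear_combination (norm := noncomm_ring) h2 (s * t + t * s) + h1 * t + s * tt * s +
        t * ss * t + h1' * s
    rw [show 12 = 2 * (2 * 3) from rfl, pow_mul, e, pow_mul, e2, one_pow]
  · exact (ht (by linear_combination (norm := noncomm_ring) t * h1 * t - h1' - h1' * (s * t))).elim
  · exact (hs (by linear_combination (norm := noncomm_ring) s * h1' * s - h1 - h1 * (t * s))).elim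
  · have e : ((1 + s) * (1 + t)) ^ 2 = 1 + s + t + t * s := by
      linear_combination (norm := noncomm_ring) h2 (s + t + s * t + s * t) + ss * (1 + t) +
        (1 + s) * tt + h1 * (1 + t) + h1'
    have e2 : (1 + s + t + t * s) * ((1 + s) * (1 + t)) = 1 := by
      linear_combination (norm := noncomm_ring) h2 (s + t + s * t + t * s + t) +
        (1 + t) * ss * (1 + t) + tt + h1' + h1'
    rw [show 12 = (2 + 1) * 4 from rfl, pow_mul, pow_succ _ 2, e, e2, one_pow]

section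

variable [Finite G] [hp : Fact p.Prime] {V : Subgroup G} [V.Normal]
  [hV : Fact (IsElementaryAbelian p V)] {a : G}

theorem nrep_sub_mem (ha : a ∉ V) (hap : a ^ p ∈ V) (hn : ∀ v ∈ V, v * a * v⁻¹ ∈ zpowers a)
    (i : ℕ) (v : EV p V) : ((nrep p V (a ^ i) - 1) v).val ∈ zpowers (a ^ p) := by
  refine mem_zpowers_pow_of_mem hp.out ha hap ?_ (EV.val_mem _)
  have h := mul_mem (npow_mem_zpowers a i) (inv_mem (pow_mem (hn _ v.val_mem) i))
  rw [nrep_sub_val]
  convert h using 1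
  rw [conj_pow]
  group

theorem nrep_sub_sq (ha : a ∉ V) (hap : a ^ p ∈ V) (hn : ∀ v ∈ V, v * a * v⁻¹ ∈ zpowers a) :
    (nrep p V a - 1) * (nrep p V a - 1) = 0 := by
  ext v
  have h := nrep_sub_mem ha hap hn 1 v
  rw [pow_one] at h
  obtain ⟨i, hi⟩ := h
  rw [Module.End.mul_apply, LinearMap.zero_apply, ← EV.val_eq_one, nrep_sub_val, ← hi]
  simp only [← zpow_natCast, ← zpow_mul]
  group

end

theorem Std.mem_of_cyclic_odd [Finite G] [hp : Fact p.Prime] (h : Std p G) (hp2 : p ≠ 2) {a : G}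
    (hap : a ^ p ∈ pCore p G) (hn : ∀ v ∈ pCore p G, v * a * v⁻¹ ∈ zpowers a) :
    a ∈ pCore p G := by
  by_contra ha
  have := Fact.mk h.elem
  have := h.elem.1
  obtain ⟨L, hL, -, h1, h2⟩ := h.exists_compl
  set V := pCore p G
  obtain ⟨v, hv, hc⟩ := h1 a
  obtain ⟨k, hk⟩ := (isPGroup_pCore p G).exists_card_eq
  have hcop : (Nat.card L).Coprime (Nat.card V) := hk ▸ hL.pow_right _
  have hpow : (v * a) ^ p = a ^ p := by
    have h3 := mul_pow_eq a (EV.mk p ⟨v, hv⟩) (p ^ 1)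
    have h4 : (nrep p V a - 1) ^ (p ^ 1 - 1) = 0 := pow_eq_zero_of_le (m := 2)
      (by have := hp.out.two_le; rw [pow_one]; omega) (by rw [sq]; exact nrep_sub_sq ha hap hn)
    rw [← sub_one_pow_eq_sum (K := ZMod p) p, h4] at h3
    simpa using h3
  have hLV : L ≤ 𝐍 V := by rw [normalizer_eq_top]; exact le_top
  have hW : a ^ p ∈ 𝐂 L := fun l hl => by
    have h3 : ⁅l, a ^ p⁆ ∈ V ⊓ L := ⟨commutator_le_right L V (commutator_mem_commutator hl hap),
      Coprime.commutator_le_of_le_normalizer (zpowers_le.2 (hpow ▸ _root_.pow_mem hc p))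
        (commutator_mem_commutator hl (mem_zpowers _))⟩
    rwa [Coprime.inf_eq_bot_of_coprime_card hcop, mem_bot, commutatorElement_eq_one_iff_mul_comm]
      at h3
  have hρ : nrep p V (v * a) = nrep p V a := by
    rw [map_mul, nrep_eq_one_iff.2 (le_centralizer_iff_isMulCommutative.2 this hv), one_mul]
  have h4 : ⁅zpowers (v * a), V⁆ ≤ V ⊓ 𝐂 L := by
    refine le_inf (commutator_le_right _ _) (commutator_le.2 fun g hg u hu => ?_)
    obtain ⟨i, rfl⟩ := mem_powers_iff_mem_zpowers.2 hg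
    have h5 := nrep_sub_mem ha hap hn i (EV.mk p ⟨u, hu⟩)
    rw [map_pow, ← hρ, ← map_pow, nrep_sub_val] at h5
    exact zpowers_le.2 hW h5
  have h5 : ⁅⁅zpowers (v * a), L⁆, V⁆ = ⊥ := by
    refine commutator_commutator_eq_bot_of_rotate ?_ ?_
    · rw [← le_bot_iff, ← Coprime.centralizer_inf_commutator_eq_bot hLV hcop, commutator_comm L]
      refine le_inf ((commutator_mono (commutator_le_left _ _) le_rfl).trans
        ((commutator_comm _ _).le.trans h4)) (Coprime.commutator_le_of_le_normalizer ?_)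
      exact Core.le_normalizer_commutator (by rw [normalizer_eq_top]; exact le_top)
        (zpowers_le.2 hc)
    · rw [commutator_eq_bot_iff_le_centralizer, commutator_comm]
      exact h4.trans inf_le_right
  refine ha ((mul_mem_cancel_left hv).1 (h2 _ 1 (by rwa [pow_one, hpow]) fun l hl => h.cent ?_))
  exact commutator_eq_bot_iff_le_centralizer.1 h5 (commutator_mem_commutator (mem_zpowers _) hl)

theorem Std.mem_of_cyclic_two [Finite G] (h : Std 2 G) (hS : ¬ Involves (Equiv.Perm (Fin 4)) G)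
    {a : G} (hap : a ^ 2 ∈ pCore 2 G) (hn : ∀ v ∈ pCore 2 G, v * a * v⁻¹ ∈ zpowers a) :
    a ∈ pCore 2 G := by
  by_contra ha
  have := Fact.mk h.elem
  have hc := le_centralizer_iff_isMulCommutative.2 h.elem.1
  obtain ⟨L, -, hL, -, h2⟩ := h.exists_compl
  set V := pCore 2 G
  obtain ⟨g, hg, hy⟩ : ∃ g ∈ L, ⁅a, g⁆ ∉ V := by
    by_contra! h3
    exact ha (h2 a 1 (by rwa [pow_one]) h3)
  have key : ∀ b : G, b ∉ V → b ^ 2 ∈ V → (∀ v ∈ V, v * b * v⁻¹ ∈ zpowers b) →
      nrep 2 V b - 1 ≠ 0 ∧ ∀ X, (nrep 2 V b - 1) * X * (nrep 2 V b - 1) = 0 ∨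
        (nrep 2 V b - 1) * X * (nrep 2 V b - 1) = nrep 2 V b - 1 := fun b hb hb2 hbn => by
    refine ⟨fun h0 => hb (h.cent (nrep_eq_one_iff.1 (sub_eq_zero.1 h0))), fun X => ?_⟩
    have h3 : ∀ v, (nrep 2 V b - 1) v = 0 ∨ (nrep 2 V b - 1) v = EV.mk 2 ⟨_, hb2⟩ := fun v => by
      have h4 := nrep_sub_mem hb hb2 hbn 1 v
      rw [pow_one] at h4
      obtain ⟨i, hi⟩ := mem_powers_iff_mem_zpowers.2 h4
      have hi' : (b ^ 2) ^ (i % 2) = _ := (pow_eq_pow_mod i (h.elem.2 _ hb2)).symm.trans hi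
      rcases Nat.mod_two_eq_zero_or_one i with h5 | h5 <;> rw [h5] at hi'
      · exact Or.inl (EV.ext' (by simpa using hi'.symm))
      · exact Or.inr (EV.ext' (by simpa using hi'.symm))
    generalize nrep 2 V b - 1 = T at h3 ⊢
    refine (h3 (X (EV.mk 2 ⟨_, hb2⟩))).imp (fun h4 => ?_) (fun h4 => ?_) <;> ext v <;>
      rcases h3 v with h5 | h5 <;> simp [h4, h5]
  have hVn : V.Normal := inferInstance
  have hb : g * a * g⁻¹ ∉ V := fun h3 => ha (by simpa [mul_assoc] using hVn.conj_mem' _ h3 g)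
  have hb2 : (g * a * g⁻¹) ^ 2 ∈ V := by rw [conj_pow]; exact hVn.conj_mem _ hap g
  have hbn : ∀ v ∈ V, v * (g * a * g⁻¹) * v⁻¹ ∈ zpowers (g * a * g⁻¹) := fun v hv => by
    obtain ⟨i, hi⟩ := hn _ (hVn.conj_mem' _ hv g)
    refine ⟨i, ?_⟩
    simp only [conj_zpow] at hi ⊢
    rw [hi]
    group
  have h12 := transv_pow (fun x => by ext v; exact EV.ext' (by simpa [sq] using h.elem.2 _ (x v).val_mem))
    (nrep_sub_sq ha hap hn) (nrep_sub_sq hb hb2 hbn) (key a ha hap hn).1 (key _ hb hb2 hbn).1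
    ((key a ha hap hn).2 _) ((key _ hb hb2 hbn).2 _)
  have e : nrep 2 V (g * a * g⁻¹) = nrep 2 V (g * a * g⁻¹)⁻¹ := by
    rw [← mul_one (nrep 2 V (g * a * g⁻¹)⁻¹), ← nrep_eq_one_iff.2 (hc hb2), ← map_mul, sq,
      inv_mul_cancel_left]
  have e2 : a * (g * a * g⁻¹)⁻¹ = ⁅a, g⁆ := by rw [commutatorElement_def]; group
  rw [add_sub_cancel, add_sub_cancel, e, ← map_mul, e2, ← map_pow, nrep_eq_one_iff] at h12
  have h3 : ⁅a, g⁆ ^ 3 ∈ V := by
    have := pPrimeCore_characteristic 2 (G ⧸ V)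
    have h4 : ((⁅a, g⁆ : G) : G ⧸ V) ∈ pPrimeCore 2 (G ⧸ V) := by
      have h5 := commutator_le_right ⊤ (pPrimeCore 2 (G ⧸ V)) (commutator_mem_commutator
        (mem_top (QuotientGroup.mk' V a)) (hL.le (mem_map_of_mem _ hg)))
      rwa [← map_commutatorElement] at h5
    have h5 : orderOf ((⁅a, g⁆ : G) : G ⧸ V) ∣ 3 * 2 ^ 2 := orderOf_dvd_of_pow_eq_one
      (by rw [← QuotientGroup.mk_pow, QuotientGroup.eq_one_iff]; exact h.cent h12)
    rw [← QuotientGroup.eq_one_iff, QuotientGroup.mk_pow, ← orderOf_dvd_iff_pow_eq_one]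
    exact (((coprime_card_pPrimeCore 2 _).coprime_dvd_left
      (orderOf_dvd_natCard _ h4)).pow_right 2).dvd_of_dvd_mul_right h5
  refine hS (KS9.involves_S4_of_inv h.elem (x := a) (y := ⁅a, g⁆) (k := 2)
    (by rw [sq, pow_mul]; exact h.elem.2 _ hap) (by rw [normalizer_eq_top]; trivial)
    (by rw [normalizer_eq_top]; trivial) (fun h4 => hy (h.cent h4)) (hc h3) (hc ?_))
  convert mul_mem hap (inv_mem hb2) using 1
  rw [← e2, sq, sq]
  group

/-- a cyclic `p`-subgroup normalized by the `p`-core lies in it -/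
theorem Std.le_of_cyclic [Finite G] [hp : Fact p.Prime] (h : Std p G)
    (hS : p ≠ 2 ∨ ¬ Involves (Equiv.Perm (Fin 4)) G) {A : Subgroup G} (hA : IsCyclic A)
    (hAp : IsPGroup p A) (hn : pCore p G ≤ 𝐍 A) : A ≤ pCore p G := by
  obtain ⟨a, rfl⟩ := A.isCyclic_iff_exists_zpowers_eq_top.1 hA
  rw [zpowers_le]
  by_contra ha
  obtain ⟨n, hn'⟩ := hAp ⟨a, mem_zpowers a⟩
  obtain ⟨k, h1, h2⟩ := KS9.exists_pow_not_mem (p := p) (n := n) ha
    (by rw [show a ^ p ^ n = 1 from congrArg Subtype.val hn']; exact one_mem _)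
  have h3 : ∀ v ∈ pCore p G, v * a ^ p ^ k * v⁻¹ ∈ zpowers (a ^ p ^ k) := fun v hv => by
    obtain ⟨i, hi⟩ := (mem_normalizer_iff.1 (hn hv) a).1 (mem_zpowers a)
    refine ⟨i, ?_⟩
    simp only at hi ⊢
    rw [← conj_pow, ← hi, ← zpow_natCast, ← zpow_natCast, ← zpow_mul, ← zpow_mul, mul_comm]
  by_cases hp2 : p = 2
  · subst hp2
    exact h1 (h.mem_of_cyclic_two (hS.resolve_left (by simp)) h2 h3)
  · exact h1 (h.mem_of_cyclic_odd hp2 h2 h3)

end Cfsg.Lib.HH
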