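import Cfsg.Agent.Lib.HH.Lin

/-!
# Irreducible representations over an algebraically closed field, Fourier inversion, Clifford
theory for cyclic tops
-/

set_option autoImplicit false

namespace Cfsg.Lib.HH

open Module

universe u v w

variable {K : Type u} [Field K] {Q : Type w} [Group Q]

section Defs

variable {W : Type*} [AddCommGroup W] [Module K W] {V : Type*} [AddCommGroup V] [Module K V]

/-- irreducible representation -/
def Irr (σ : Q →* End K W) : Prop :=
  Nontrivial W ∧ ∀ U : Submodule K W, (∀ g, ∀ u ∈ U, σ g u ∈ U) → U = ⊥ ∨ U = ⊤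

/-- intertwining map -/
def Tw (σ : Q →* End K W) (ρ : Q →* End K V) (A : W →ₗ[K] V) : Prop :=
  ∀ g w, A (σ g w) = ρ g (A w)

/-- character -/
noncomputable def ch (σ : Q →* End K W) : Q → K := fun g => LinearMap.trace K W (σ g)

theorem rep_mul_apply (σ : Q →* End K W) (g h : Q) (w : W) : σ g (σ h w) = σ (g * h) w := by
  rw [map_mul]; rfl

theorem rep_inv_apply (σ : Q →* End K W) (g : Q) (w : W) : σ g⁻¹ (σ g w) = w := by
  rw [rep_mul_apply, inv_mul_cancel, map_one]; rfl

theorem rep_apply_inv (σ : Q →* End K W) (g : Q) (w : W) : σ g (σ g⁻¹ w) = w := by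
  rw [rep_mul_apply, mul_inv_cancel, map_one]; rfl

theorem Irr.injective {σ : Q →* End K W} {ρ : Q →* End K V} (h : Irr σ) {A : W →ₗ[K] V}
    (hA : Tw σ ρ A) (h0 : A ≠ 0) : Function.Injective A := by
  rcases h.2 (LinearMap.ker A) (fun g u hu => by
    rw [LinearMap.mem_ker] at hu ⊢
    rw [hA, hu, map_zero]) with h1 | h1
  · exact LinearMap.ker_eq_bot.1 h1
  · exact absurd (LinearMap.ker_eq_top.1 h1) h0

theorem Irr.surjective {σ : Q →* End K W} {ρ : Q →* End K V} (h : Irr ρ) {A : W →ₗ[K] V}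
    (hA : Tw σ ρ A) (h0 : A ≠ 0) : Function.Surjective A := by
  rcases h.2 (LinearMap.range A) (by
    rintro g _ ⟨u, rfl⟩
    exact ⟨σ g u, hA g u⟩) with h1 | h1
  · exact absurd (LinearMap.range_eq_bot.1 h1) h0
  · exact LinearMap.range_eq_top.1 h1

theorem Irr.comp {Q' : Type*} [Group Q'] {σ : Q →* End K W} (h : Irr σ) (f : Q' →* Q)
    (hf : Function.Surjective f) : Irr (σ.comp f) := by
  refine ⟨h.1, fun U hU => h.2 U fun g u hu => ?_⟩
  obtain ⟨g', rfl⟩ := hf g
  exact hU g' u hu

theorem Irr.finrank_pos [FiniteDimensional K W] {σ : Q →* End K W} (h : Irr σ) :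
    0 < finrank K W := by
  have := h.1
  exact Module.finrank_pos

/-- Schur's lemma -/
theorem Irr.schur [IsAlgClosed K] [FiniteDimensional K W] {σ : Q →* End K W} (h : Irr σ)
    {A : End K W} (hA : Tw σ σ A) : ∃ c : K, A = c • 1 := by
  have := h.1
  obtain ⟨c, hc⟩ := Module.End.exists_eigenvalue A
  refine ⟨c, ?_⟩
  rcases h.2 (A.eigenspace c) (fun g u hu => by
    rw [Module.End.mem_eigenspace_iff] at hu ⊢
    rw [hA, hu, map_smul]) with h1 | h1
  · exact absurd h1 hc
  · ext w
    have : w ∈ A.eigenspace c := h1 ▸ Submodule.mem_top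
    simpa [Module.End.mem_eigenspace_iff] using this

theorem Irr.scalar_of_center [IsAlgClosed K] [FiniteDimensional K W] {σ : Q →* End K W}
    (h : Irr σ) {z : Q} (hz : z ∈ Subgroup.center Q) : ∃ c : K, σ z = c • 1 :=
  h.schur fun g w => by
    rw [rep_mul_apply, rep_mul_apply, Subgroup.mem_center_iff.1 hz g]

theorem Irr.finrank_eq_one_of_scalar [FiniteDimensional K W] {σ : Q →* End K W}
    (h : Irr σ) (hs : ∀ g, ∃ c : K, σ g = c • 1) : finrank K W = 1 := by
  have := h.1
  obtain ⟨v, hv⟩ := exists_ne (0 : W)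
  rcases h.2 (K ∙ v) (fun g u hu => by
    obtain ⟨c, hc⟩ := hs g
    rw [hc]
    exact Submodule.smul_mem _ c hu) with h1 | h1
  · exact absurd (Submodule.span_singleton_eq_bot.1 h1) hv
  · rw [← finrank_top, ← h1, finrank_span_singleton hv]

theorem Irr.finrank_eq_one [IsAlgClosed K] [FiniteDimensional K W] {σ : Q →* End K W}
    (h : Irr σ) (hc : IsMulCommutative Q) : finrank K W = 1 :=
  h.finrank_eq_one_of_scalar fun g => h.scalar_of_center
    (Subgroup.mem_center_iff.2 fun k => hc.is_comm.comm k g)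

theorem ch_eq_of_bij [FiniteDimensional K W] [FiniteDimensional K V] {σ : Q →* End K W}
    {ρ : Q →* End K V} {A : W →ₗ[K] V} (hA : Tw σ ρ A) (hb : Function.Bijective A) :
    ch σ = ch ρ := by
  ext g
  have e : ρ g = (LinearEquiv.ofBijective A hb).conj (σ g) := by
    ext v
    obtain ⟨w, rfl⟩ := hb.2 v
    rw [LinearEquiv.conj_apply_apply]
    have : (LinearEquiv.ofBijective A hb).symm (A w) = w :=
      (LinearEquiv.ofBijective A hb).symm_apply_apply w
    rw [this, ← hA]; rfl
  rw [ch, ch, e, LinearMap.trace_conj']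

theorem ch_conj (σ : Q →* End K W) [FiniteDimensional K W] (g h : Q) :
    ch σ (h * g * h⁻¹) = ch σ g := by
  rw [ch, ch, map_mul, LinearMap.trace_mul_comm, ← map_mul, inv_mul_cancel_left]

/-- restriction to an invariant subspace -/
def sub (ρ : Q →* End K V) (U : Submodule K V) (hU : ∀ g, ∀ u ∈ U, ρ g u ∈ U) : Q →* End K U where
  toFun g := (ρ g).restrict (hU g)
  map_one' := by ext x; simp [LinearMap.restrict_apply]
  map_mul' a b := by ext x; simp [LinearMap.restrict_apply]

theorem sub_apply (ρ : Q →* End K V) (U : Submodule K V) (hU : ∀ g, ∀ u ∈ U, ρ g u ∈ U) (g : Q)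
    (u : U) : (sub ρ U hU g u : V) = ρ g u := rfl

theorem tw_sub (ρ : Q →* End K V) (U : Submodule K V) (hU : ∀ g, ∀ u ∈ U, ρ g u ∈ U) :
    Tw (sub ρ U hU) ρ U.subtype := fun _ _ => rfl

theorem exists_irr_le [FiniteDimensional K V] (ρ : Q →* End K V) (U : Submodule K V) (h0 : U ≠ ⊥)
    (hU : ∀ g, ∀ u ∈ U, ρ g u ∈ U) :
    ∃ (W : Submodule K V) (hW : ∀ g, ∀ u ∈ W, ρ g u ∈ W), W ≤ U ∧ Irr (sub ρ W hW) := by
  classical
  have hex : ∃ n, ∃ W : Submodule K V, W ≤ U ∧ W ≠ ⊥ ∧ (∀ g, ∀ u ∈ W, ρ g u ∈ W) ∧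
      finrank K W = n := ⟨_, U, le_rfl, h0, hU, rfl⟩
  obtain ⟨W, h1, h2, h3, h4⟩ := Nat.find_spec hex
  refine ⟨W, h3, h1, Submodule.nontrivial_iff_ne_bot.2 h2, fun X hX => ?_⟩
  by_contra hc
  push Not at hc
  have hlt : finrank K (X.map W.subtype) < Nat.find hex := by
    rw [← h4, Submodule.finrank_map_subtype_eq]
    have := Submodule.finrank_lt hc.2
    exact this
  refine Nat.find_min hex hlt ⟨X.map W.subtype, (Submodule.map_subtype_le _ _).trans h1, ?_, ?_, rfl⟩
  · intro h
    apply hc.1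
    rw [eq_bot_iff]
    intro x hx
    have : W.subtype x ∈ X.map W.subtype := ⟨x, hx, rfl⟩
    rw [h, Submodule.mem_bot] at this
    exact Subtype.ext this
  · rintro g _ ⟨u, hu, rfl⟩
    exact ⟨_, hX g u hu, rfl⟩

end Defs

section Fourier

variable [Fintype Q] {W : Type*} [AddCommGroup W] [Module K W] [FiniteDimensional K W]
  {V : Type*} [AddCommGroup V] [Module K V]

/-- averaging -/
noncomputable def avg (σ : Q →* End K W) (ρ : Q →* End K V) (A : W →ₗ[K] V) : W →ₗ[K] V :=
  ∑ g, ρ g ∘ₗ A ∘ₗ σ g⁻¹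

omit [FiniteDimensional K W] in
theorem avg_apply (σ : Q →* End K W) (ρ : Q →* End K V) (A : W →ₗ[K] V) (w : W) :
    avg σ ρ A w = ∑ g, ρ g (A (σ g⁻¹ w)) := by
  simp [avg, LinearMap.sum_apply]

omit [FiniteDimensional K W] in
theorem tw_avg (σ : Q →* End K W) (ρ : Q →* End K V) (A : W →ₗ[K] V) : Tw σ ρ (avg σ ρ A) := by
  intro h w
  rw [avg_apply, avg_apply, map_sum]
  refine (Fintype.sum_equiv (Equiv.mulLeft h) _ _ fun g => ?_).symm
  simp only [Equiv.coe_mulLeft]
  rw [rep_mul_apply, rep_mul_apply, mul_inv_rev, inv_mul_cancel_right]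

/-- Fourier sum -/
noncomputable def four (σ : Q →* End K W) (ρ : Q →* End K V) (f : End K W) : End K V :=
  ∑ g, LinearMap.trace K W (f * σ g⁻¹) • ρ g

theorem four_apply (σ : Q →* End K W) (ρ : Q →* End K V) (f : End K W) (v : V) :
    four σ ρ f v = ∑ j, avg σ ρ (((finBasis K W).coord j).smulRight v) (f (finBasis K W j)) := by
  simp only [four, avg_apply, LinearMap.sum_apply, LinearMap.smul_apply, LinearMap.smulRight_apply,
    map_smul]
  rw [Finset.sum_comm]
  refine Finset.sum_congr rfl fun g _ => ?_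
  rw [← Finset.sum_smul, LinearMap.trace_mul_comm,
    LinearMap.trace_eq_matrix_trace K (finBasis K W)]
  simp [Matrix.trace, LinearMap.toMatrix_apply]

theorem four_eq_zero {σ : Q →* End K W} {ρ : Q →* End K V} (h : ∀ A, Tw σ ρ A → A = 0)
    (f : End K W) : four σ ρ f = 0 := by
  ext v
  rw [four_apply]
  simp [h _ (tw_avg σ ρ _)]

theorem Irr.four_self [IsAlgClosed K] {σ : Q →* End K W} (h : Irr σ) (f : End K W) :
    (finrank K W : K) • four σ σ f = (Fintype.card Q : K) • f := by
  ext v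
  have key : ∀ φ : W →ₗ[K] K, ∀ w, (finrank K W : K) • avg σ σ (φ.smulRight v) w =
      (Fintype.card Q : K) • φ v • w := by
    intro φ w
    obtain ⟨c, hc⟩ := h.schur (tw_avg σ σ (φ.smulRight v))
    have h1 : LinearMap.trace K W (avg σ σ (φ.smulRight v)) = (Fintype.card Q : K) * φ v := by
      rw [avg, map_sum]
      have : ∀ g : Q, LinearMap.trace K W (σ g ∘ₗ φ.smulRight v ∘ₗ σ g⁻¹) = φ v := by
        intro g
        rw [← Module.End.mul_eq_comp, ← Module.End.mul_eq_comp, LinearMap.trace_mul_comm, mul_assoc,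
          ← map_mul, inv_mul_cancel, map_one, mul_one, LinearMap.trace_smulRight]
      simp [this]
    rw [hc, map_smul, LinearMap.trace_one, smul_eq_mul] at h1
    rw [hc, LinearMap.smul_apply, Module.End.one_apply, smul_smul, smul_smul, mul_comm, h1]
  rw [LinearMap.smul_apply, four_apply, Finset.smul_sum]
  simp only [key]
  rw [← Finset.smul_sum, LinearMap.smul_apply]
  congr 1
  conv_rhs => rw [← (finBasis K W).sum_repr v, map_sum]
  simp only [map_smul, Basis.coord_apply]

theorem Irr.finrank_ne_zero [IsAlgClosed K] {σ : Q →* End K W} (h : Irr σ)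
    (hQ : (Fintype.card Q : K) ≠ 0) : (finrank K W : K) ≠ 0 := by
  intro h0
  have h1 := h.four_self 1
  rw [h0, zero_smul] at h1
  have := h.1
  rcases smul_eq_zero.1 h1.symm with h2 | h2
  · exact hQ h2
  · exact one_ne_zero h2

theorem Irr.four_eq_zero {σ σ' : Q →* End K W} (h : Irr σ) (hne : ch σ ≠ ch σ') (f : End K W) :
    four σ σ' f = 0 := by
  apply HH.four_eq_zero
  intro A hA
  by_contra h0
  have hi := h.injective hA h0
  exact hne (ch_eq_of_bij hA ⟨hi, LinearMap.injective_iff_surjective.1 hi⟩)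

theorem Irr.exists_tw [IsAlgClosed K] {σ σ' : Q →* End K W} (h : Irr σ) (h' : Irr σ')
    (hQ : (Fintype.card Q : K) ≠ 0) (he : ch σ = ch σ') :
    ∃ A : End K W, Tw σ σ' A ∧ Function.Bijective A := by
  by_contra hc
  have h1 : four σ σ' 1 = 0 := by
    apply HH.four_eq_zero
    intro A hA
    by_contra h0
    have hi := h.injective hA h0
    exact hc ⟨A, hA, hi, LinearMap.injective_iff_surjective.1 hi⟩
  have h2 : four σ σ' 1 = four σ' σ' 1 := by
    simp only [four, one_mul]
    exact Finset.sum_congr rfl fun g _ => by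
      rw [show LinearMap.trace K W (σ g⁻¹) = LinearMap.trace K W (σ' g⁻¹) from congrFun he g⁻¹]
  have h3 := h'.four_self 1
  rw [← h2, h1, smul_zero] at h3
  have := h.1
  rcases smul_eq_zero.1 h3.symm with h2 | h2
  · exact hQ h2
  · exact one_ne_zero h2

omit [FiniteDimensional K W] in
theorem four_tw (σ : Q →* End K W) {W' : Type*} [AddCommGroup W'] [Module K W']
    {τ : Q →* End K W'} {ρ : Q →* End K V} {ι : W' →ₗ[K] V} (hι : Tw τ ρ ι) (f : End K W)
    (w : W') : four σ ρ f (ι w) = ι (four σ τ f w) := by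
  simp only [four, LinearMap.sum_apply, LinearMap.smul_apply, map_sum, map_smul, hι _ w]

end Fourier

section Clifford

variable [Fintype Q] {W : Type*} [AddCommGroup W] [Module K W] [FiniteDimensional K W]
  {V : Type*} [AddCommGroup V] [Module K V]

omit [Fintype Q] in
theorem semi_pow {ρ : Q →* End K V} {X : End K V} {α : MulAut Q}
    (hX : ∀ g, X * ρ g = ρ (α g) * X) (i : ℕ) (g : Q) : X ^ i * ρ g = ρ ((α ^ i) g) * X ^ i := by
  induction i generalizing g with
  | zero => simp
  | succ i ih =>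
    rw [pow_succ, mul_assoc, hX, ← mul_assoc, ih, pow_succ α, MulAut.mul_apply, mul_assoc]

/-- the twisted representation -/
def twist (σ : Q →* End K W) (β : MulAut Q) : Q →* End K W := σ.comp β.symm.toMonoidHom

omit [Fintype Q] [FiniteDimensional K W] in
theorem twist_apply (σ : Q →* End K W) (β : MulAut Q) (g : Q) : twist σ β g = σ (β.symm g) := rfl

omit [Fintype Q] [FiniteDimensional K W] in
theorem Irr.twist {σ : Q →* End K W} (h : Irr σ) (β : MulAut Q) : Irr (twist σ β) :=
  h.comp _ β.symm.surjective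

omit [Fintype Q] [FiniteDimensional K W] in
theorem tw_twist {σ : Q →* End K W} {ρ : Q →* End K V} {ι : W →ₗ[K] V} (hι : Tw σ ρ ι)
    {Y : End K V} {β : MulAut Q} (hY : ∀ g, Y * ρ g = ρ (β g) * Y) :
    Tw (twist σ β) ρ (Y ∘ₗ ι) := by
  intro g w
  simp only [twist_apply, LinearMap.comp_apply, hι _ w]
  have := congrArg (fun f : End K V => f (ι w)) (hY (β.symm g))
  simpa using this

omit [Fintype Q] [FiniteDimensional K W] in
theorem ch_twist_eq_iff {σ : Q →* End K W} {β : MulAut Q} :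
    ch σ = ch (twist σ β) ↔ ∀ g, ch σ (β g) = ch σ g := by
  constructor
  · intro h g
    have := congrFun h (β g)
    simpa [ch, twist_apply] using this
  · intro h
    ext g
    have := h (β.symm g)
    rw [MulEquiv.apply_symm_apply] at this
    exact this

/-- the extension step -/
theorem Irr.ext_step [IsAlgClosed K] [FiniteDimensional K V] {σ : Q →* End K W} (h : Irr σ)
    (hQ : (Fintype.card Q : K) ≠ 0) {ρ : Q →* End K V} {ι : W →ₗ[K] V} (hι : Tw σ ρ ι)
    (h0 : ι ≠ 0) {Y : End K V} {β : MulAut Q}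
    (hY : ∀ g, Y * ρ g = ρ (β g) * Y) (hβ : ∀ g, ch σ (β g) = ch σ g) :
    ∃ (ι' : W →ₗ[K] V) (Z : End K W), Tw σ ρ ι' ∧ Function.Injective ι' ∧
      (∀ w, Y (ι' w) = ι' (Z w)) ∧ ∀ g, Z * σ g = σ (β g) * Z := by
  obtain ⟨A, hA, hAb⟩ := h.exists_tw (h.twist β) hQ (ch_twist_eq_iff.2 hβ)
  let H : Submodule K (W →ₗ[K] V) :=
    { carrier := {f | Tw σ ρ f}
      add_mem' := fun {a b} ha hb g w => by
        simp only [LinearMap.add_apply, map_add, ha g w, hb g w]
      zero_mem' := fun g w => by simp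
      smul_mem' := fun c a ha g w => by
        simp only [LinearMap.smul_apply, map_smul, ha g w] }
  have : Nontrivial H := ⟨⟨⟨ι, hι⟩, 0, fun h => h0 (congrArg Subtype.val h)⟩⟩
  let T : End K H :=
    { toFun := fun f => ⟨Y ∘ₗ f.1 ∘ₗ A, fun g w => by
        have h1 := tw_twist f.2 hY g (A w)
        simp only [LinearMap.comp_apply] at h1 ⊢
        rw [hA g w, h1]⟩
      map_add' := fun f g => by ext w; simp
      map_smul' := fun c f => by ext w; simp }
  obtain ⟨c, hc⟩ := Module.End.exists_eigenvalue T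
  obtain ⟨f, hf⟩ := hc.exists_hasEigenvector
  have hf0 : f.1 ≠ 0 := fun h => hf.2 (Subtype.ext h)
  have hfi := h.injective f.2 hf0
  have hfe : ∀ w, Y (f.1 (A w)) = c • f.1 w := fun w => by
    have := congrArg (fun k : H => k.1 w) hf.apply_eq_smul
    simpa [T] using this
  let e := LinearEquiv.ofBijective A hAb
  have hZ : ∀ w, Y (f.1 w) = f.1 ((c • (e.symm : End K W)) w) := fun w => by
    have := hfe (e.symm w)
    rw [show A (e.symm w) = w from e.apply_symm_apply w] at this
    simpa using this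
  refine ⟨f.1, c • (e.symm : End K W), f.2, hfi, hZ, fun g => ?_⟩
  ext w
  apply hfi
  simp only [Module.End.mul_apply]
  rw [← hZ, f.2, f.2, ← hZ]
  exact congrArg (fun k : End K V => k (f.1 w)) (hY g)

theorem Irr.four_tw_self [IsAlgClosed K] {σ : Q →* End K W} (h : Irr σ) {ρ : Q →* End K V}
    {ι : W →ₗ[K] V} (hι : Tw σ ρ ι) (w : W) :
    (finrank K W : K) • four σ ρ 1 (ι w) = (Fintype.card Q : K) • ι w := by
  have := congrArg (fun k : End K W => ι (k w)) (h.four_self 1)
  rw [four_tw σ hι]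
  simpa using this

theorem Irr.four_tw_twist {σ : Q →* End K W} (h : Irr σ) {ρ : Q →* End K V}
    {ι : W →ₗ[K] V} (hι : Tw σ ρ ι) {Y : End K V} {β : MulAut Q}
    (hY : ∀ g, Y * ρ g = ρ (β g) * Y) (hβ : ¬ ∀ g, ch σ (β g) = ch σ g) (w : W) :
    four σ ρ 1 (Y (ι w)) = 0 := by
  have := four_tw σ (tw_twist hι hY) 1 w
  rw [h.four_eq_zero (fun h => hβ (ch_twist_eq_iff.1 h))] at this
  simpa using this

/-- independence of the translates of a constituent -/
theorem Irr.sum_eq_zero [IsAlgClosed K] {σ : Q →* End K W} (h : Irr σ)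
    (hQ : (Fintype.card Q : K) ≠ 0) {ρ : Q →* End K V}
    {ι : W →ₗ[K] V} (hι : Tw σ ρ ι) (hi : Function.Injective ι) {X : End K V}
    (hX0 : Function.Injective X) {α : MulAut Q} (hX : ∀ g, X * ρ g = ρ (α g) * X) (m : ℕ)
    (hm : ∀ i, 0 < i → i < m → ¬ ∀ g, ch σ ((α ^ i) g) = ch σ g) (w : ℕ → W)
    (hw : ∑ i ∈ Finset.range m, (X ^ i) (ι (w i)) = 0) : ∀ i < m, w i = 0 := by
  induction m generalizing w with
  | zero => intro i hi; omega
  | succ m ih =>
    have h0 : w 0 = 0 := by
      have h1 := congrArg (four σ ρ 1) hw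
      rw [map_sum, Finset.sum_range_succ', Finset.sum_eq_zero (fun i hi =>
        h.four_tw_twist hι (semi_pow hX (i + 1)) (hm _ (by omega)
          (by have := Finset.mem_range.1 hi; omega)) _), zero_add, map_zero, pow_zero,
        Module.End.one_apply] at h1
      have h2 := h.four_tw_self hι (w 0)
      rw [h1, smul_zero] at h2
      rcases smul_eq_zero.1 h2.symm with h3 | h3
      · exact absurd h3 hQ
      · exact hi (by rw [h3, map_zero])
    rw [Finset.sum_range_succ', h0, map_zero, map_zero, add_zero] at hw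
    have h3 : ∑ i ∈ Finset.range m, (X ^ i) (ι (w (i + 1))) = 0 := by
      apply hX0
      rw [map_sum, map_zero, ← hw]
      exact Finset.sum_congr rfl fun i _ => by rw [pow_succ']; rfl
    have h4 := ih (fun i h1 h2 => hm i h1 (by omega)) (fun i => w (i + 1)) h3
    intro i hi
    rcases i with _ | i
    · exact h0
    · exact h4 i (by omega)

omit [Fintype Q] [FiniteDimensional K W] [Field K] in
/-- the period of a character under an automorphism -/
theorem exists_period (χ : Q → K) (α : MulAut Q) (n : ℕ)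
    (h : ∀ g, χ ((α ^ n) g) = χ g) : ∃ m, m ∣ n ∧ (∀ g, χ ((α ^ m) g) = χ g) ∧
      ∀ i, 0 < i → i < m → ¬ ∀ g, χ ((α ^ i) g) = χ g := by
  let F : (Q → K) → (Q → K) := fun ψ => ψ ∘ α
  have hF : ∀ i ψ g, F^[i] ψ g = ψ ((α ^ i) g) := by
    intro i
    induction i with
    | zero => intro ψ g; simp
    | succ i ih =>
      intro ψ g
      rw [Function.iterate_succ_apply, ih, pow_succ', MulAut.mul_apply]; rfl
  have hp : ∀ i, Function.IsPeriodicPt F i χ ↔ ∀ g, χ ((α ^ i) g) = χ g := fun i => by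
    rw [Function.IsPeriodicPt, Function.IsFixedPt, funext_iff]
    simp only [hF]
  refine ⟨Function.minimalPeriod F χ, ((hp n).2 h).minimalPeriod_dvd,
    (hp _).1 (Function.isPeriodicPt_minimalPeriod F χ), fun i h1 h2 h3 => ?_⟩
  have := Function.IsPeriodicPt.minimalPeriod_le h1 ((hp i).2 h3)
  omega

end Clifford

end Cfsg.Lib.HH
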