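import Mathlib

/-!
# Linear algebra of nilpotent endomorphisms
-/

set_option autoImplicit false

namespace Cfsg.Lib.HH

open Module

universe u v

variable {K : Type u} [Field K]

/-- the centralizer of an endomorphism, as a subspace -/
def cent {W : Type v} [AddCommGroup W] [Module K W] (T : End K W) : Submodule K (End K W) where
  carrier := {f | T * f = f * T}
  add_mem' := fun {a b} ha hb => by
    simp only [Set.mem_ofPred_eq] at *
    rw [mul_add, add_mul, ha, hb]
  zero_mem' := by simp
  smul_mem' := fun c a ha => by
    simp only [Set.mem_ofPred_eq] at *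
    rw [mul_smul_comm, smul_mul_assoc, ha]

theorem mem_cent {W : Type v} [AddCommGroup W] [Module K W] {T f : End K W} :
    f ∈ cent T ↔ T * f = f * T := Iff.rfl

theorem cauchy_step {k e c s : ℕ} (h : e ^ 2 ≤ s * c) : (k + e) ^ 2 ≤ (s + 1) * (k ^ 2 + c) := by
  rcases Nat.eq_zero_or_pos s with rfl | hs
  · have : e = 0 := by simpa using h
    subst this; nlinarith
  · have h1 : s * (k + e) ^ 2 ≤ s * ((s + 1) * (k ^ 2 + c)) := by
      zify at *
      nlinarith [sq_nonneg ((s : ℤ) * k - e)]
    exact Nat.le_of_mul_le_mul_left h1 hs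

theorem finrank_cent_ge {W : Type v} [AddCommGroup W] [Module K W] [FiniteDimensional K W]
    (T : End K W) :
    finrank K (LinearMap.ker T) ^ 2 +
      finrank K (cent (T.restrict (p := LinearMap.range T) (q := LinearMap.range T)
        (fun x _ => LinearMap.mem_range_self T x))) ≤ finrank K (cent T) := by
  set U := LinearMap.range T with hU
  set T' : End K U := T.restrict (fun x _ => LinearMap.mem_range_self T x) with hT'
  have hinv : ∀ f : cent T, ∀ x ∈ U, f.1 x ∈ U := by
    rintro f _ ⟨y, rfl⟩
    refine ⟨f.1 y, ?_⟩
    have := congrArg (fun g : End K W => g y) (mem_cent.1 f.2)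
    simpa using this
  let R : cent T →ₗ[K] cent T' :=
    { toFun := fun f => ⟨f.1.restrict (hinv f), by
        rw [mem_cent]
        ext x
        have := congrArg (fun g : End K W => g x) (mem_cent.1 f.2)
        simpa [hT', LinearMap.restrict_apply] using this⟩
      map_add' := fun f g => by ext x; simp [LinearMap.restrict_apply]
      map_smul' := fun c f => by ext x; simp [LinearMap.restrict_apply] }
  have hsurj : Function.Surjective R := by
    intro g
    obtain ⟨U', hc⟩ := U.exists_isCompl
    obtain ⟨τ, hτ⟩ := T.rangeRestrict.exists_rightInverse_of_surjective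
      (LinearMap.range_rangeRestrict T)
    have hτ' : ∀ u : U, T (τ u) = u := fun u => by
      have := congrArg (fun h => ((h u : U) : W)) hτ
      simpa using this
    let f : End K W := LinearMap.ofIsCompl hc (U.subtype ∘ₗ g.1)
      (τ ∘ₗ g.1 ∘ₗ T.rangeRestrict ∘ₗ U'.subtype)
    have hfU : ∀ u : U, f u = g.1 u := fun u => by simp [f]
    have hkey : ∀ w : W, T (f w) = g.1 (T.rangeRestrict w) := by
      intro w
      obtain ⟨a, b, rfl, -⟩ := Submodule.existsUnique_add_of_isCompl hc w
      rw [map_add, map_add, map_add, map_add, hfU]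
      have e1 : f b = τ (g.1 (T.rangeRestrict b)) := by
        simp only [f, LinearMap.ofIsCompl_apply_right]; rfl
      have e2 := congrArg (fun h : End K U => ((h a : U) : W)) (mem_cent.1 g.2)
      have e3 : T.rangeRestrict a = T' a := Subtype.ext (by simp [hT', LinearMap.restrict_apply])
      rw [e1, hτ', e3]
      simp only [Module.End.mul_apply] at e2
      rw [Submodule.coe_add, ← e2]
      simp [hT', LinearMap.restrict_apply]
    refine ⟨⟨f, ?_⟩, ?_⟩
    · rw [mem_cent]
      ext w
      simp only [Module.End.mul_apply]
      rw [hkey]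
      exact (hfU (T.rangeRestrict w)).symm
    · ext x
      simp [R, LinearMap.restrict_apply, hfU]
  let L : ((W ⧸ U) →ₗ[K] LinearMap.ker T) →ₗ[K] LinearMap.ker R :=
    { toFun := fun h => ⟨⟨(LinearMap.ker T).subtype ∘ₗ h ∘ₗ U.mkQ, by
        rw [mem_cent]
        ext w
        have h1 : U.mkQ (T w) = 0 := by
          simp only [Submodule.mkQ_apply, Submodule.Quotient.mk_eq_zero]
          exact LinearMap.mem_range_self T w
        simp [h1]⟩, by
        rw [LinearMap.mem_ker]
        ext x
        have h1 : U.mkQ x = 0 := by simp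
        simp [R, LinearMap.restrict_apply, h1]⟩
      map_add' := fun f g => by ext x; simp
      map_smul' := fun c f => by ext x; simp }
  have hinj : Function.Injective L := by
    intro f g h
    ext w
    have := congrArg (fun h : LinearMap.ker R => h.1.1 w) h
    simpa [L] using this
  have h1 := LinearMap.finrank_le_finrank_of_injective hinj
  have h2 := LinearMap.finrank_range_add_finrank_ker (K := K) (V := cent T) (V₂ := cent T') R
  rw [LinearMap.range_eq_top.2 hsurj, finrank_top] at h2
  rw [Module.finrank_linearMap] at h1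
  have h3 := T.finrank_range_add_finrank_ker
  have h4 := U.finrank_quotient_add_finrank
  have h5 : finrank K (W ⧸ U) = finrank K (LinearMap.ker T) := by
    rw [← hU] at h3; omega
  rw [h5] at h1
  rw [sq]
  calc _ ≤ finrank K (LinearMap.ker R) + finrank K (cent T') := Nat.add_le_add_right h1 _
    _ = _ := by rw [add_comm]; exact h2

/-- lower bound for the dimension of the centralizer of a nilpotent endomorphism -/
theorem sq_le_mul_finrank_cent (s : ℕ) : ∀ {W : Type v} [AddCommGroup W] [Module K W]
    [FiniteDimensional K W] (T : End K W), T ^ s = 0 →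
    finrank K W ^ 2 ≤ s * finrank K (cent T) := by
  induction s with
  | zero =>
    intro W _ _ _ T h
    rw [pow_zero] at h
    have : Subsingleton W := ⟨fun a b => by
      have ha := congrArg (fun g : End K W => g a) h
      have hb := congrArg (fun g : End K W => g b) h
      simp at ha hb
      rw [ha, hb]⟩
    simp [finrank_zero_of_subsingleton]
  | succ s ih =>
    intro W _ _ _ T h
    have h1 := finrank_cent_ge T
    have h2 := ih (T.restrict (p := LinearMap.range T) (q := LinearMap.range T)
        (fun x _ => LinearMap.mem_range_self T x)) (by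
      rw [Module.End.pow_restrict]
      ext ⟨_, y, rfl⟩
      have := congrArg (fun g : End K W => g y) h
      simpa [pow_succ, LinearMap.restrict_apply] using this)
    have h3 := T.finrank_range_add_finrank_ker
    have h4 := cauchy_step (k := finrank K (LinearMap.ker T)) h2
    rw [← h3, add_comm (finrank K (LinearMap.range T))]
    exact h4.trans (Nat.mul_le_mul_left _ h1)

/-- the number of Jordan blocks of maximal size -/
theorem mul_finrank_range_le {W : Type v} [AddCommGroup W] [Module K W] [FiniteDimensional K W]
    (S : End K W) (N : ℕ) (h : S ^ (N + 1) = 0) :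
    (N + 1) * finrank K (LinearMap.range (S ^ N)) ≤ finrank K W := by
  have step : ∀ i ≤ N, finrank K (LinearMap.range (S ^ (i + 1))) +
      finrank K (LinearMap.range (S ^ N)) ≤ finrank K (LinearMap.range (S ^ i)) := by
    intro i hi
    have h1 := (S.domRestrict (LinearMap.range (S ^ i))).finrank_range_add_finrank_ker
    have h2 : LinearMap.range (S.domRestrict (LinearMap.range (S ^ i))) =
        LinearMap.range (S ^ (i + 1)) := by
      rw [LinearMap.range_domRestrict, pow_succ', Module.End.mul_eq_comp, LinearMap.range_comp]
    have hle : LinearMap.range (S ^ N) ≤ LinearMap.range (S ^ i) := by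
      rintro _ ⟨y, rfl⟩
      refine ⟨(S ^ (N - i)) y, ?_⟩
      rw [← Module.End.mul_apply, ← pow_add, Nat.add_sub_cancel' hi]
    have h3 : finrank K (LinearMap.range (S ^ N)) ≤
        finrank K (LinearMap.ker (S.domRestrict (LinearMap.range (S ^ i)))) := by
      rw [← (Submodule.comapSubtypeEquivOfLe hle).finrank_eq]
      apply Submodule.finrank_mono
      rintro ⟨x, hx⟩ ⟨y, hy⟩
      simp only [Submodule.coe_subtype] at hy
      simp only [LinearMap.mem_ker, LinearMap.domRestrict_apply]
      rw [← hy, ← Module.End.mul_apply, ← pow_succ', h, LinearMap.zero_apply]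
    rw [h2] at h1
    omega
  have main : ∀ i ≤ N + 1, finrank K (LinearMap.range (S ^ i)) +
      i * finrank K (LinearMap.range (S ^ N)) ≤ finrank K W := by
    intro i
    induction i with
    | zero => intro _; simpa using Submodule.finrank_le _
    | succ i ih =>
      intro hi
      have := step i (by omega)
      have := ih (by omega)
      rw [add_mul]; omega
  have := main (N + 1) le_rfl
  omega

theorem sub_one_pow_eq_sum {A : Type*} [Ring A] [Algebra K A] (p : ℕ) [Fact p.Prime] [CharP K p]
    (x : A) (j : ℕ) : (x - 1) ^ (p ^ j - 1) = ∑ i ∈ Finset.range (p ^ j), x ^ i := by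
  have h : (Polynomial.X - 1 : Polynomial K) ^ (p ^ j - 1) =
      ∑ i ∈ Finset.range (p ^ j), Polynomial.X ^ i := by
    have h0 : (Polynomial.X - 1 : Polynomial K) ≠ 0 := by
      simpa using Polynomial.X_sub_C_ne_zero (1 : K)
    apply mul_right_cancel₀ h0
    have hp : 1 ≤ p ^ j := Nat.one_le_pow _ _ (Fact.out : p.Prime).pos
    rw [geom_sum_mul, ← pow_succ, Nat.sub_add_cancel hp, sub_pow_char_pow, one_pow]
  have := congrArg (Polynomial.aeval x) h
  simpa [map_sum] using this

theorem sub_one_pow_char {A : Type*} [Ring A] [Algebra K A] (p : ℕ) [Fact p.Prime] [CharP K p]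
    (x : A) (j : ℕ) : (x - 1) ^ (p ^ j) = x ^ p ^ j - 1 := by
  have hp : 1 ≤ p ^ j := Nat.one_le_pow _ _ (Fact.out : p.Prime).pos
  conv_lhs => rw [← Nat.sub_add_cancel hp, pow_succ, sub_one_pow_eq_sum (K := K) p, geom_sum_mul]

theorem pow_finrank_eq_zero {W : Type v} [AddCommGroup W] [Module K W] [FiniteDimensional K W]
    {T : End K W} {s : ℕ} (h : T ^ s = 0) : T ^ finrank K W = 0 := by
  have h1 := LinearMap.aeval_self_charpoly T
  rw [IsNilpotent.charpoly_eq_X_pow_finrank ⟨s, h⟩] at h1
  simpa using h1

end Cfsg.Lib.HH
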