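import Cfsg.Agent.Lib.Small.Zsigmondy
import Mathlib.NumberTheory.Fermat

/-! Prime powers differing by one. -/

set_option autoImplicit false

namespace Cfsg.Lib.HH

theorem pow_eq_two_pow_add_one {x a k : ℕ} (hx : 1 < x) (ha : 1 < a) (h : x ^ a = 2 ^ k + 1) :
    x = 3 ∧ a = 2 := by
  have h1 : ∀ r : ℕ, ¬ Small.IsPPD r x a := fun r hr => by
    have h2 := hr.2.1
    rw [h, Nat.add_sub_cancel] at h2
    have := (Nat.prime_dvd_prime_iff_eq hr.1 Nat.prime_two).1 (hr.1.dvd_of_dvd_pow h2)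
    have := hr.lt hx.le (by omega)
    omega
  by_cases h2 : a = 2 ∧ ∃ m : ℕ, x + 1 = 2 ^ m
  · obtain ⟨rfl, m, hm⟩ := h2
    obtain ⟨x, rfl⟩ := Nat.exists_eq_add_of_lt hx
    obtain ⟨j, -, hj⟩ := (Nat.dvd_prime_pow Nat.prime_two).1
      (show x + 1 ∣ 2 ^ k from ⟨x + 3, by nlinarith⟩)
    rcases j with _ | _ | j
    · have : x = 0 := by omega
      subst this
      rcases m with _ | m <;> omega
    · omega
    · rcases m with _ | _ | m <;> omega
  by_cases h3 : x = 2 ∧ a = 6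
  · obtain ⟨rfl, rfl⟩ := h3
    rcases k with _ | k <;> omega
  exact (Small.zsigmondy hx ha h3 h2).elim fun r hr => (h1 r hr).elim

theorem pow_add_one_ne_two_pow {x a k : ℕ} (hx : 1 < x) (ha : 1 < a) : x ^ a + 1 ≠ 2 ^ k :=
  fun h => by
  have h0 : 0 < x ^ a := by positivity
  obtain ⟨r, hr⟩ := Small.zsigmondy hx (n := 2 * a) (by omega) (by
    rintro ⟨rfl, h6⟩
    obtain rfl : a = 3 := by omega
    rcases k with _ | k <;> omega) (by omega)
  have h2 := hr.2.1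
  rw [mul_comm, pow_mul, show (x ^ a) ^ 2 - 1 = (x ^ a + 1) * (x ^ a - 1) from Nat.sq_sub_sq _ 1,
    h] at h2
  have := (Nat.prime_dvd_prime_iff_eq hr.1 Nat.prime_two).1 (hr.1.dvd_of_dvd_pow
    (((Nat.Prime.dvd_mul hr.1).1 h2).resolve_right (hr.2.2 a (by omega) (by omega))))
  have := hr.lt hx.le (by omega)
  omega

theorem prime_pow_eq_add_one {p q a b : ℕ} (hp : p.Prime) (hq : q.Prime) (ha : 1 ≤ a) (hb : 1 ≤ b)
    (h : p ^ a = q ^ b + 1) : (p = 2 ∧ b = 1 ∧ a.Prime ∧ q + 1 = 2 ^ a) ∨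
    (q = 2 ∧ a = 1 ∧ (∃ m : ℕ, b = 2 ^ m) ∧ p = 2 ^ b + 1) ∨ (p ^ a = 9 ∧ q ^ b = 8) := by
  by_cases h2 : p = 2
  · subst h2
    obtain rfl : b = 1 := by
      by_contra hb1
      exact pow_add_one_ne_two_pow hq.one_lt (by omega) h.symm
    rw [pow_one] at h
    refine Or.inl ⟨rfl, rfl, (Nat.prime_of_pow_sub_one_prime (a := 2) ?_ ?_).2, h.symm⟩
    · rintro rfl
      have := hq.one_lt
      omega
    · rwa [h, Nat.add_sub_cancel]
  obtain rfl : q = 2 := by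
    by_contra h7
    have h8 := (hp.odd_of_ne_two h2).pow (n := a)
    have h9 := (hq.odd_of_ne_two h7).pow (n := b)
    rw [h] at h8
    exact (Nat.not_even_iff_odd.2 h8) h9.add_one
  by_cases h1 : a = 1
  · subst h1
    rw [pow_one] at h
    exact Or.inr (Or.inl ⟨rfl, rfl, Nat.pow_of_pow_add_prime one_lt_two (by omega) (h ▸ hp), h⟩)
  obtain ⟨rfl, rfl⟩ := pow_eq_two_pow_add_one hp.one_lt (by omega) h
  exact Or.inr (Or.inr ⟨rfl, by omega⟩)

end Cfsg.Lib.HH
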