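import Cfsg.Agent.Lib.HH.Std

/-! Quadratic elements in the derived group of a `p`-group, and the bound of the `p`-length by the
derived length of a Sylow subgroup. -/

set_option autoImplicit false
set_option linter.unusedSectionVars false

namespace Cfsg.Lib.HH

open Module Subgroup Cfsg.Lib.Core Cfsg.Lib.Amalg Cfsg.Lib.BG1
open scoped commutatorElement

universe u v w

section Lin

variable {K : Type u} [Field K] {Q : Type w} [Group Q]

theorem comm_of_finrank_two {W : Type*} [AddCommGroup W] [Module K W] (hW : finrank K W = 2)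
    {Z X Y : End K W} (hZ : ∀ c : K, Z ≠ c • 1) (hX : X * Z = Z * X) (hY : Y * Z = Z * Y) :
    X * Y = Y * X := by
  obtain ⟨v, hv⟩ : ∃ v, LinearIndependent K ![v, Z v] := by
    by_contra! h
    obtain ⟨c, hc⟩ := LinearMap.exists_eq_smul_id_of_forall_notLinearIndependent h
    exact hZ c hc
  let b := basisOfLinearIndependentOfCardEqFinrank hv (by simp [hW])
  have hb0 : b 0 = v := by simp [b]
  have hb1 : b 1 = Z v := by simp [b]
  have key : ∀ X : End K W, X * Z = Z * X → ∃ s t : K, X = s • 1 + t • Z := fun X hX => by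
    have h1 := b.sum_repr (X v)
    rw [Fin.sum_univ_two, hb0, hb1] at h1
    refine ⟨b.repr (X v) 0, b.repr (X v) 1, b.ext fun i => ?_⟩
    fin_cases i
    · simpa [hb0] using h1.symm
    · have h2 : X (Z v) = Z (X v) := congrArg (fun f : End K W => f v) hX
      simp only [Fin.mk_one, hb1, LinearMap.add_apply, LinearMap.smul_apply, End.one_apply]
      rw [h2]
      conv_lhs => rw [← h1]
      rw [map_add, map_smul, map_smul]
  obtain ⟨s, t, rfl⟩ := key X hX
  obtain ⟨s', t', rfl⟩ := key Y hY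
  simp only [add_mul, mul_add, smul_mul_assoc, mul_smul_comm, one_mul, mul_one]
  module

theorem eq_one_of_pow_char {p : ℕ} [hp : Fact p.Prime] [CharP K p] {c : K} {n : ℕ}
    (h : c ^ p ^ n = 1) : c = 1 := by
  have := sub_pow_char_pow c 1 (p := p) (n := n)
  rw [h, one_pow, sub_self] at this
  exact sub_eq_zero.1 (pow_eq_zero_iff (pow_pos hp.out.pos n).ne' |>.1 this)

theorem Irr.quad [Fintype Q] [IsAlgClosed K] {p : ℕ} [hp : Fact p.Prime] [CharP K p] (hp2 : p ≠ 2)
    {W : Type*} [AddCommGroup W] [Module K W] [FiniteDimensional K W]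
    {V : Type*} [AddCommGroup V] [Module K V] [FiniteDimensional K V]
    {σ : Q →* End K W} (h : Irr σ) (hQ : (Fintype.card Q : K) ≠ 0) {ρ : Q →* End K V}
    {ι : W →ₗ[K] V} (hι : Tw σ ρ ι) (h0 : ι ≠ 0) {B : Type*} [Group B] (hB : IsPGroup p B)
    (c : B →* MulAut Q) (R : B →* End K V) (hR : ∀ b g, R b * ρ g = ρ (c b g) * R b) {a : B}
    (ha : a ∈ _root_.commutator B) (haz : a ∈ center B) (hap : a ^ p = 1)
    (h2 : (R a - 1) ^ 2 = 0) (h3 : ∀ b, (R a - 1) * (R b - 1) ^ 2 = 0)
    (hsr : ∀ g, c a g = g → ∃ k : K, σ g = k • 1) (g : Q) : σ (c a g) = σ g := by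
  revert g
  by_contra hb
  have hp3 : 3 ≤ p := by have := hp.out.two_le; omega
  obtain ⟨hfix, hdim⟩ : (∀ g, ch σ (c a g) = ch σ g) ∧ finrank K W = 2 := by
    rcases h.core hQ hι h0 (hR a) (n := 0) (by rw [← map_pow]; simp [hap])
      (by rw [← map_pow]; simp [hap]) (by simpa using hsr) (by simpa using hb) h2 with
      h4 | ⟨k, hk, h4, -, h5, h6⟩
    · simp at h4; omega
    · obtain rfl : k = 0 := by omega
      exact ⟨by simpa using h4, by simp at h6; omega⟩
  have hinj : ∀ b, Function.Injective (R b) := rep_injective R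
  have hex : ∀ b, ∃ (Z : End K W) (n : ℕ), Z ^ p ^ n = 1 ∧ ∀ g, Z * σ g = σ (c b g) * Z := by
    intro b
    obtain ⟨n, hn⟩ := hB b
    obtain ⟨k, -, -, h5, Z, h6, h7, -⟩ := h.orbit hQ hι h0 (hR b) (n := n)
      (by rw [← map_pow, hn, map_one]) (by rw [← map_pow, hn, map_one])
    rcases k with _ | k
    · exact ⟨Z, _, h6, by simpa using h7⟩
    exfalso
    obtain ⟨ι', Z', h8, h9, h10, h11⟩ := h.ext_step hQ hι h0 (hR a) hfix
    have hZ : Z' = 1 := by
      ext w
      have e : (R b - 1) ^ 2 * (R a - 1) = 0 := by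
        rw [← h3 b]
        have : Commute (R b) (R a) := by
          rw [Commute, SemiconjBy, ← map_mul, ← map_mul, mem_center_iff.1 haz b]
        exact (((this.sub_left (Commute.one_left _)).sub_right (Commute.one_right _)).pow_left 2).eq
      have e2 := congrArg (fun f : End K V => f (ι' w)) e
      have := h.sum_eq_zero hQ h8 h9 (hinj b) (hR b) 3 (fun i h1 h2 => h5 i h1
        (h2.trans_le (hp3.trans (Nat.le_self_pow (by omega) p))))
        (fun i => if i = 1 then -(2 : K) • (Z' w - w) else Z' w - w) (by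
          simp only [End.mul_apply, LinearMap.sub_apply, h10, End.one_apply, sq, map_sub,
            LinearMap.zero_apply] at e2
          simp only [Finset.sum_range_succ, Finset.sum_range_zero, pow_zero, pow_one, sq,
            End.one_apply, End.mul_apply]
          refine Eq.trans ?_ e2
          simp only [zero_ne_one, if_false, if_true, OfNat.ofNat_ne_one, map_sub, map_smul]
          module) 0 (by omega)
      simpa [sub_eq_zero] using this
    apply hb
    intro g
    simpa [hZ] using (h11 g).symm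
  choose Z n hZn hZ using hex
  have hu : ∀ b, IsUnit (Z b) := fun b => IsUnit.of_pow_eq_one (hZn b) (pow_pos hp.out.pos _).ne'
  have hcomm : ∀ b, Z b * Z a = Z a * Z b := fun b => by
    obtain ⟨u, hu'⟩ := (hu a).mul (hu b)
    obtain ⟨k, hk⟩ := h.schur (A := ↑u⁻¹ * (Z b * Z a)) (fun g w => by
      have e1 : Z b * Z a * σ g = σ (c (a * b) g) * (Z b * Z a) := by
        rw [mul_assoc, hZ, ← mul_assoc, hZ, mul_assoc, ← mem_center_iff.1 haz b, map_mul]; rfl
      have e2 : ↑u * σ g = σ (c (a * b) g) * ↑u := by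
        rw [hu', mul_assoc, hZ, ← mul_assoc, hZ, mul_assoc, map_mul]; rfl
      have e3 : ↑u⁻¹ * (Z b * Z a) * σ g = σ g * (↑u⁻¹ * (Z b * Z a)) := by
        rw [mul_assoc, e1, ← mul_assoc, ← mul_assoc (σ g)]
        congr 1
        rw [Units.inv_mul_eq_iff_eq_mul, ← mul_assoc, e2, Units.mul_inv_cancel_right]
      exact congrArg (fun f : End K W => f w) e3)
    rw [Units.inv_mul_eq_iff_eq_mul, hu', mul_smul_comm, mul_one] at hk
    have e : ∀ i : ℕ, Z b * Z a ^ i = k ^ i • (Z a ^ i * Z b) := fun i => by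
      induction i with
      | zero => simp
      | succ i ih => rw [pow_succ, ← mul_assoc, ih, smul_mul_assoc, mul_assoc, hk, mul_smul_comm,
          smul_smul, ← pow_succ, mul_assoc]
    have e2 := e (p ^ n a)
    rw [hZn, mul_one, one_mul] at e2
    have := h.1
    have e3 : k ^ p ^ n a = 1 := by
      by_contra hne
      have e4 : (1 - k ^ p ^ n a) • Z b = 0 := by rw [sub_smul, one_smul, ← e2, sub_self]
      exact (hu b).ne_zero ((smul_eq_zero.1 e4).resolve_left (sub_ne_zero.2 (Ne.symm hne)))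
    rw [hk, eq_one_of_pow_char e3, one_smul]
  have hns : ∀ k : K, Z a ≠ k • 1 := fun k hk => hb fun g => by
    have e := hZ a g
    rw [hk, smul_mul_assoc, mul_smul_comm, one_mul, mul_one] at e
    refine (smul_right_injective _ ?_ e).symm
    rintro rfl
    have := h.1
    exact (hu a).ne_zero (by rw [hk, zero_smul])
  let S : Subgroup B :=
    { carrier := {b | ∀ g, σ (c b g) = σ g}
      one_mem' := by simp
      mul_mem' := fun {x y} hx hy g => by rw [map_mul, MulAut.mul_apply, hx, hy]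
      inv_mem' := fun {x} hx g => by
        rw [← hx, ← MulAut.mul_apply, ← map_mul, mul_inv_cancel, map_one, MulAut.one_apply] }
  refine hb ((commutator_le (H₃ := S)).2 (fun x _ y _ g => ?_) ha)
  have e := comm_of_finrank_two hdim hns (hcomm x) (hcomm y)
  obtain ⟨g, rfl⟩ := (c (y * x)).surjective g
  have e1 : Z x * Z y * σ g = σ (c (x * y) g) * (Z x * Z y) := by
    rw [mul_assoc, hZ, ← mul_assoc, hZ, mul_assoc, map_mul]; rfl
  have e2 : Z y * Z x * σ g = σ (c (y * x) g) * (Z y * Z x) := by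
    rw [mul_assoc, hZ, ← mul_assoc, hZ, mul_assoc, map_mul]; rfl
  rw [← e, e1] at e2
  rw [← ((hu x).mul (hu y)).mul_left_inj, ← e2, ← MulAut.mul_apply, ← map_mul]
  congr 3
  rw [commutatorElement_def]; group

end Lin

variable {G : Type w} [Group G] [Finite G]

theorem quad_closed {K : Type u} [Field K] [IsAlgClosed K] {p : ℕ} [hp : Fact p.Prime] [CharP K p]
    (hp2 : p ≠ 2) {V : Type v} [AddCommGroup V] [Module K V] [FiniteDimensional K V]
    (ρ : G →* End K V) {L B : Subgroup G} (hL : (Nat.card L).Coprime p)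
    (hf : ∀ g ∈ L, ρ g = 1 → g = 1) (hB : IsPGroup p B) (hBL : B ≤ 𝐍 L) {a : G}
    (ha : a ∈ ⁅B, B⁆) (haz : a ∈ 𝐂 B) (hap : a ^ p = 1) (h2 : (ρ a - 1) ^ 2 = 0)
    (h3 : ∀ b ∈ B, (ρ a - 1) * (ρ b - 1) ^ 2 = 0) : a ∈ 𝐂 L := by
  by_contra hy
  have haB : a ∈ B := le_normalizer_iff_commutator_le_left.1 le_normalizer ha
  obtain ⟨q, Q, hq, hqp, hQ, hQL, hPQ, hA, hmin⟩ := exists_min (B := zpowers a) hB hL hBL
    (fun h => hy (h (mem_zpowers _)))
  have := Fact.mk hq
  have hBP : zpowers a ≤ B := zpowers_le.2 haB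
  have hQp := coprime_of_le hL hQL
  obtain ⟨h1, h4⟩ := min_props hQ.isNilpotent hBP
    ((le_centralizer_iff.1 (zpowers_le.2 haz)).trans (centralizer_le_normalizer _)) hPQ
    (coprime_card_of_isPGroup hp.out (hB.to_le hBP) hQp) hA hmin
  have := Fintype.ofFinite Q
  have hQK : (Fintype.card Q : K) ≠ 0 :=
    card_ne_zero ((Nat.Prime.coprime_iff_not_dvd hp.out).1 hQp.symm)
  obtain ⟨W, hW, hirr, g₀, hg₀⟩ := exists_irr_nontriv hQK (ρ.comp Q.subtype) (by
    by_contra! h
    apply hA
    intro b _ g hg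
    rw [hf g (hQL hg) (h ⟨g, hg⟩), mul_one, one_mul])
  have hW0 : W.subtype ≠ 0 := by
    intro h0
    have := hirr.1
    obtain ⟨u, hu⟩ := exists_ne (0 : W)
    exact hu (Subtype.ext (congrArg (fun f : W →ₗ[K] V => f u) h0))
  have key := hirr.quad hp2 hQK (tw_sub _ W hW) hW0 hB (Coprime.conjAut hPQ) (ρ.comp B.subtype)
    (fun b g => by
      simp only [MonoidHom.comp_apply, coe_subtype, ← map_mul, Coprime.coe_conjAut]
      congr 1; group) (a := ⟨a, haB⟩) (by
      rw [← map_subtype_commutator] at ha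
      obtain ⟨x, hx, rfl⟩ := ha
      exact hx) (mem_center_iff.2 fun b => Subtype.ext (haz b b.2)) (Subtype.ext hap) h2
    (fun b => h3 b b.2) (fun g hg => hirr.scalar_of_center (mem_center_iff.2 fun k =>
      Subtype.ext (h4 ⟨g.2, by
        rw [Core.centralizer_zpowers]
        exact mem_centralizer_singleton_iff.2 ((Coprime.conjAut_eq_iff _ _ _).1 hg).symm⟩ k k.2)))
  refine hg₀ (hom_eq_one_of_commutator (hBP.trans hPQ) h1 _ (fun b g => ?_) g₀)
  obtain ⟨b, hb⟩ := b
  obtain ⟨i, rfl⟩ := mem_powers_iff_mem_zpowers.2 hb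
  have e : Coprime.conjAut (hBP.trans hPQ) ⟨a ^ i, hb⟩ g =
      (Coprime.conjAut hPQ ⟨a, haB⟩ ^ i) g := by
    rw [← map_pow]; rfl
  simp only at e ⊢
  rw [e]
  clear e hb
  induction i with
  | zero => rfl
  | succ i ih => rw [pow_succ', MulAut.mul_apply, key, ih]

theorem quad_faithful {F : Type u} [Field F] {p : ℕ} [hp : Fact p.Prime] [CharP F p] (hp2 : p ≠ 2)
    {V : Type v} [AddCommGroup V] [Module F V] [FiniteDimensional F V] (ρ : G →* End F V)
    (hG : IsPSolvable p G) (hO : pCore p G = ⊥) (hf : ∀ g, ρ g = 1 → g = 1) {B : Subgroup G}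
    (hB : IsPGroup p B) {a : G} (ha : a ∈ ⁅B, B⁆) (haz : a ∈ 𝐂 B) (h2 : (ρ a - 1) ^ 2 = 0)
    (h3 : ∀ b ∈ B, (ρ a - 1) * (ρ b - 1) ^ 2 = 0) : a = 1 := by
  have := (pPrimeCore_characteristic p G)
  have hap : a ^ p = 1 := hf _ (by
    have h4 := sub_one_pow_char (K := F) p (ρ a) 1
    rw [pow_one, pow_eq_zero_of_le hp.out.two_le h2] at h4
    rw [map_pow, sub_eq_zero.1 h4.symm])
  have h := quad_closed hp2 ((BG1.extEnd (AlgebraicClosure F) V).toMonoidHom.comp ρ)
    (coprime_card_pPrimeCore p G) (fun g _ h => hf g (BG1.extEnd_injective (AlgebraicClosure F) V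
      (h.trans (map_one _).symm))) hB (by rw [normalizer_eq_top]; exact le_top) ha haz hap
    (by simpa using congrArg (BG1.extEnd (AlgebraicClosure F) V) h2)
    (fun b hb => by simpa using congrArg (BG1.extEnd (AlgebraicClosure F) V) (h3 b hb))
  have h1 : a ∈ zpowers a ⊓ pPrimeCore p G :=
    ⟨mem_zpowers a, centralizer_pPrimeCore_le_of_isPSolvable hp.out hG hO h⟩
  rwa [inf_eq_bot_of_isPGroup_of_coprime hp.out
    (isPGroup_zpowers_of_pow_eq_one (k := 1) (by rwa [pow_one])) (coprime_card_pPrimeCore p G)] at h1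

/-- a metabelian `p`-subgroup normalized by the `p`-core has its derived group in the `p`-core -/
theorem Std.commutator_le {p : ℕ} [hp : Fact p.Prime] (h : Std p G) (hp2 : p ≠ 2) {B : Subgroup G}
    (hB : IsPGroup p B) (hn : pCore p G ≤ 𝐍 B) (hA : ⁅⁅B, B⁆, ⁅B, B⁆⁆ = ⊥) :
    ⁅B, B⁆ ≤ pCore p G := by
  have := Fact.mk h.elem
  set V := pCore p G
  set f := QuotientGroup.mk' V
  rw [← map_mk'_eq_bot_iff]
  by_contra hne
  have hAB : ⁅B, B⁆ ≤ B := le_normalizer_iff_commutator_le_left.1 le_normalizer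
  obtain ⟨⟨_, ⟨a, ha, rfl⟩, haz⟩, ha1⟩ := ne_bot_iff_exists_ne_one.1
    (inf_centralizer_ne_bot_of_isPGroup ((hB.to_le hAB).map f) (hB.map f)
      ((map_mono (left_le_normalizer_comm B B)).trans (le_normalizer_map f)) hne)
  have hk : ∀ g ∈ V, nrep p V g = 1 := fun g hg =>
    nrep_eq_one_iff.2 (le_centralizer_iff_isMulCommutative.2 h.elem.1 hg)
  have hz : ∀ v : EV p V, v.val ∈ ⁅B, B⁆ → (nrep p V a - 1) v = 0 := fun v hv => by
    rw [← EV.val_eq_one, nrep_sub_val]
    exact (commutator_eq_bot_iff_le_centralizer.1 hA hv a ha) ▸ by group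
  refine ha1 (Subtype.ext (quad_faithful hp2 (QuotientGroup.lift V _ hk)
    (isPSolvable_quotient hp.out h.solv _) pCore_quotient_pCore (fun g hg => ?_) (hB.map f)
    (by rw [← map_commutator]; exact mem_map_of_mem f ha) haz ?_ ?_))
  · obtain ⟨g, rfl⟩ := QuotientGroup.mk_surjective g
    exact (QuotientGroup.eq_one_iff _).2 (h.cent (nrep_eq_one_iff.1 hg))
  · ext v
    refine hz ((nrep p V a - 1) v) ?_
    rw [nrep_sub_val]
    exact le_normalizer_iff_commutator_le_left.1 (Core.le_normalizer_commutator hn hn)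
      (commutator_mem_commutator ha v.val_mem)
  · rintro _ ⟨b, hb, rfl⟩
    ext v
    refine hz ((nrep p V b - 1) ((nrep p V b - 1) v)) ?_
    rw [nrep_sub_val]
    refine commutator_mem_commutator hb ?_
    rw [nrep_sub_val]
    exact le_normalizer_iff_commutator_le_left.1 hn (commutator_mem_commutator hb v.val_mem)

theorem derivedOf_succ (P : Subgroup G) (n : ℕ) : (derivedSeries P (n + 1)).map P.subtype =
    ⁅(derivedSeries P n).map P.subtype, (derivedSeries P n).map P.subtype⁆ := by
  rw [derivedSeries_succ, map_commutator]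

theorem derivedOf_map {H : Type*} [Group H] (f : G →* H) (P : Subgroup G) (n : ℕ) :
    ((derivedSeries P n).map P.subtype).map f =
      (derivedSeries (P.map f) n).map (P.map f).subtype := by
  rw [← map_derivedSeries_eq (f.subgroupMap_surjective P), map_map, map_map]; rfl

theorem derivedOf_le_pPrimePCore {p : ℕ} [hp : Fact p.Prime] (hp2 : p ≠ 2) (hG : IsPSolvable p G)
    (P : Sylow p G) {d : ℕ} (hd : derivedSeries (P : Subgroup G) (d + 1) = ⊥) :
    (derivedSeries (P : Subgroup G) d).map (P : Subgroup G).subtype ≤ pPrimePCore p G := by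
  obtain ⟨H, _, _, f, hf, hH, he⟩ := exists_std hG
  have h1 := congrArg (fun X => (X.map (P : Subgroup G).subtype).map f) hd
  simp only [Subgroup.map_bot] at h1
  rw [← he, ← map_le_iff_le_comap, derivedOf_map]
  rw [derivedOf_map, derivedOf_succ] at h1
  have hV : pCore p H ≤ (P : Subgroup G).map f := pCore_le_sylow (P.mapSurjective hf)
  have hT : IsPGroup p ((P : Subgroup G).map f) := P.isPGroup'.map f
  generalize (P : Subgroup G).map f = T at h1 hV hT ⊢
  rcases d with _ | d
  · rw [derivedSeries_zero, ← MonoidHom.range_eq_map, range_subtype] at h1 ⊢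
    exact (commutator_eq_bot_iff_le_centralizer.1 h1).trans ((centralizer_le hV).trans hH.cent)
  · rw [derivedOf_succ] at h1 ⊢
    exact hH.commutator_le hp2 (hT.to_le (map_subtype_le _))
      (hV.trans (le_normalizer.trans (normalizer_le_normalizer_map_subtype _))) h1

/-- for odd `p` the `p`-length is at most the derived length of a Sylow subgroup -/
theorem pLengthLE_of_derived {p : ℕ} [hp : Fact p.Prime] (hp2 : p ≠ 2) (d : ℕ) :
    ∀ {G : Type w} [Group G] [Finite G], IsPSolvable p G → ∀ P : Sylow p G,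
    derivedSeries (P : Subgroup G) d = ⊥ → PLengthLE p d G := by
  induction d with
  | zero =>
    intro G _ _ _ P hd
    have h : (P : Subgroup G) = ⊥ := by
      rw [← range_subtype (P : Subgroup G), MonoidHom.range_eq_map, ← derivedSeries_zero, hd,
        Subgroup.map_bot]
    have h2 := P.not_dvd_index
    rw [h, index_bot] at h2
    exact pLengthLE_zero_iff.2 ((Nat.Prime.coprime_iff_not_dvd hp.out).2 h2).symm
  | succ n ih =>
    intro G _ _ hG P hd
    have := pPrimePCore_normal p G
    have hf := QuotientGroup.mk'_surjective (pPrimePCore p G)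
    refine pLengthLE_succ_of_quotient _ le_rfl (ih (isPSolvable_quotient hp.out hG _)
      (P.mapSurjective hf) ?_)
    have h := (map_mk'_eq_bot_iff _ _).2 (derivedOf_le_pPrimePCore hp2 hG P hd)
    rw [derivedOf_map, map_eq_bot_iff_of_injective _ (subtype_injective _)] at h
    exact h

end Cfsg.Lib.HH
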