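import Cfsg.Agent.Lib.HH.ThmB
import Cfsg.Agent.Lib.BG1.Elem
import Cfsg.Agent.Lib.Amalg.CharP

/-!
# The standard reduction for `p`-length arguments

A `p`-solvable group has a quotient whose `p`-core is elementary abelian, self-centralizing and the
image of `O_{p',p}`; Theorem B is restated for the action on that `p`-core.
-/

set_option autoImplicit false

namespace Cfsg.Lib.HH

open Module Subgroup Cfsg.Lib.Core Cfsg.Lib.Amalg Cfsg.Lib.BG1

universe u

variable {p : ℕ} {G : Type u} [Group G]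

/-- `p`-solvable with elementary abelian self-centralizing `p`-core -/
structure Std (p : ℕ) (G : Type*) [Group G] : Prop where
  solv : IsPSolvable p G
  elem : IsElementaryAbelian p (pCore p G)
  cent : 𝐂 (pCore p G) ≤ pCore p G

theorem pPrimeCore_quotient_frattiniOf [Finite G] [hp : Fact p.Prime]
    (h : 𝐂 (pCore p G) ≤ pCore p G) :
    haveI := normal_frattiniOf (pCore p G)
    pPrimeCore p (G ⧸ (frattini (pCore p G)).map (pCore p G).subtype) = ⊥ := by
  have := normal_frattiniOf (pCore p G)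
  set Φ := (frattini (pCore p G)).map (pCore p G).subtype with hΦ
  set f := QuotientGroup.mk' Φ
  have hc : ⁅pCore p (G ⧸ Φ), pPrimeCore p (G ⧸ Φ)⁆ = ⊥ := by
    have := pPrimeCore_characteristic p (G ⧸ Φ)
    refine le_bot_iff.1 ((commutator_le_inf _ _).trans ?_)
    rw [inf_eq_bot_of_isPGroup_of_coprime hp.out (isPGroup_pCore p _) (coprime_card_pPrimeCore p _)]
  have hL : IsPGroup p ((pPrimeCore p (G ⧸ Φ)).comap f) := by
    refine isPGroup_of_forall_pPrime fun A hA hcop => ?_
    refine eq_bot_of_pPrime_le hcop (isPGroup_pCore p G) (le_trans ?_ h)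
    refine Coprime.le_centralizer_of_commutator_le_frattini
      (by rw [normalizer_eq_top]; exact le_top) ?_ ?_
    · obtain ⟨k, hk⟩ := ((isPGroup_pCore p G).to_subgroup (frattini _)).exists_card_eq
      rw [hk]
      exact hcop.pow_right _
    · rw [← hΦ, ← QuotientGroup.ker_mk' Φ, ← Subgroup.map_eq_bot_iff, map_commutator, ← le_bot_iff,
        ← hc]
      exact commutator_mono (map_pCore_le_of_surjective (QuotientGroup.mk'_surjective Φ))
        (map_le_iff_le_comap.2 hA)
  have h2 := hL.map f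
  rw [map_comap_eq_self_of_surjective (QuotientGroup.mk'_surjective Φ)] at h2
  exact eq_bot_of_pPrime_le (coprime_card_pPrimeCore p _) h2 le_rfl

theorem exists_std [Finite G] [hp : Fact p.Prime] (hG : IsPSolvable p G) :
    ∃ (H : Type u) (_ : Group H) (_ : Finite H) (f : G →* H), Function.Surjective f ∧ Std p H ∧
      (pCore p H).comap f = pPrimePCore p G := by
  have := pPrimeCore_characteristic p G
  set G₁ := G ⧸ pPrimeCore p G
  have h1 : IsPSolvable p G₁ := isPSolvable_quotient hp.out hG _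
  have hc : 𝐂 (pCore p G₁) ≤ pCore p G₁ := isPConstrained_iff.1 (isPConstrained_of_isPSolvable hG)
  have := normal_frattiniOf (pCore p G₁)
  have h0 := pPrimeCore_quotient_frattiniOf hc
  set Φ := (frattini (pCore p G₁)).map (pCore p G₁).subtype with hΦ
  have hΦp : IsPGroup p Φ := (isPGroup_pCore p G₁).to_le (map_subtype_le _)
  have h2 : IsPSolvable p (G₁ ⧸ Φ) := isPSolvable_quotient hp.out h1 _
  obtain ⟨h3, h4⟩ := (frattiniOf_le_iff (isPGroup_pCore p G₁) (N := Φ)).1 le_rfl
  refine ⟨G₁ ⧸ Φ, inferInstance, inferInstance, (QuotientGroup.mk' Φ).comp (QuotientGroup.mk' _),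
    (QuotientGroup.mk'_surjective _).comp (QuotientGroup.mk'_surjective _), ⟨h2, ⟨?_, ?_⟩,
    (isPConstrained_iff_of_pPrimeCore_eq_bot h0).1 (isPConstrained_of_isPSolvable h2)⟩, ?_⟩
  · rw [← map_pCore_quotient Φ hΦp, ← le_centralizer_iff_isMulCommutative,
      ← commutator_eq_bot_iff_le_centralizer, ← map_commutator, Subgroup.map_eq_bot_iff,
      QuotientGroup.ker_mk']
    exact h3
  · rw [← map_pCore_quotient Φ hΦp]
    rintro _ ⟨x, hx, rfl⟩
    rw [← map_pow, QuotientGroup.mk'_apply, QuotientGroup.eq_one_iff]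
    exact h4 x hx
  · rw [← comap_comap, comap_pCore_quotient Φ hΦp]
    rfl

/-- the conjugation representation on a normal elementary abelian subgroup -/
def nrep (p : ℕ) (V : Subgroup G) [V.Normal] [Fact (IsElementaryAbelian p V)] :
    G →* End (ZMod p) (EV p V) :=
  (erep p V).comp ((MonoidHom.id G).codRestrict _ fun g => by rw [normalizer_eq_top]; trivial)

section nrep

variable {V : Subgroup G} [V.Normal] [Fact (IsElementaryAbelian p V)]

theorem nrep_val (g : G) (x : EV p V) : (nrep p V g x).val = g * x.val * g⁻¹ := rfl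

theorem nrep_eq_one_iff {g : G} : nrep p V g = 1 ↔ g ∈ 𝐂 V := erep_eq_one_iff

theorem nrep_sub_val (g : G) (x : EV p V) :
    ((nrep p V g - 1) x).val = g * x.val * g⁻¹ * x.val⁻¹ := erep_sub_val _ _

theorem mul_pow_eq (g : G) (x : EV p V) (k : ℕ) :
    (x.val * g) ^ k = ((∑ i ∈ Finset.range k, nrep p V g ^ i) x).val * g ^ k := by
  induction k with
  | zero => simp
  | succ k ih =>
    rw [pow_succ, ih, Finset.sum_range_succ, LinearMap.add_apply, EV.val_add, ← map_pow, nrep_val]
    group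

end nrep

theorem Exc.of_surjective [Finite G] {H : Type*} [Group H] {f : G →* H}
    (hf : Function.Surjective f) {n r : ℕ} (h : Exc p n r H) : Exc p n r G := by
  obtain ⟨n₀, q, m, h1, h2, hq, h3, h4, h5, h6⟩ := h
  have := Fact.mk hq
  refine ⟨n₀, q, m, h1, h2, hq, h3, h4, fun Q hQ => h5 (Q.mapSurjective hf) ?_, h6⟩
  exact map_isMulCommutative _ _

/-- Theorem B for the action on the `p`-core in the standard situation -/
theorem Std.thmB [Finite G] [hp : Fact p.Prime] (h : Std p G)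
    [Fact (IsElementaryAbelian p (pCore p G))] {x : G} {n : ℕ}
    (hn : x ^ p ^ (n + 1) ∈ pCore p G) (hy : x ^ p ^ n ∉ pCore p G) {r : ℕ}
    (hr : (nrep p (pCore p G) x - 1) ^ r = 0) : p ^ (n + 1) ≤ r ∨ Exc p (n + 1) r G := by
  have hk : ∀ g ∈ pCore p G, nrep p (pCore p G) g = 1 := fun g hg =>
    nrep_eq_one_iff.2 (le_centralizer_iff_isMulCommutative.2 h.elem.1 hg)
  refine (thmB_faithful (QuotientGroup.lift (pCore p G) _ hk)
    (isPSolvable_quotient hp.out h.solv _) pCore_quotient_pCore (fun g hg => ?_)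
    (x := (x : G ⧸ pCore p G)) ?_ ?_ hr).imp id
    (Exc.of_surjective (QuotientGroup.mk'_surjective _))
  · obtain ⟨g, rfl⟩ := QuotientGroup.mk_surjective g
    exact (QuotientGroup.eq_one_iff _).2 (h.cent (nrep_eq_one_iff.1 hg))
  · rwa [← QuotientGroup.mk_pow, QuotientGroup.eq_one_iff]
  · rwa [← QuotientGroup.mk_pow, Ne, QuotientGroup.eq_one_iff]

theorem Std.pow_mem [Finite G] [hp : Fact p.Prime] (h : Std p G) {n : ℕ}
    (hE : ∀ r, ¬ Exc p (n + 1) r G) (P : Sylow p G)
    (hexp : ∀ x ∈ (P : Subgroup G), x ^ p ^ (n + 1) = 1) {x : G} (hx : x ∈ (P : Subgroup G)) :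
    x ^ p ^ n ∈ pCore p G := by
  have := Fact.mk h.elem
  by_contra hy
  have hpos : 0 < p ^ (n + 1) := pow_pos hp.out.pos _
  refine (h.thmB (by rw [hexp x hx]; exact one_mem _) hy (r := p ^ (n + 1) - 1) ?_).elim
    (by omega) (hE _)
  rw [sub_one_pow_eq_sum (K := ZMod p) p]
  ext v
  have h1 := mul_pow_eq x v (p ^ (n + 1))
  rw [hexp x hx, mul_one, hexp _ (mul_mem (pCore_le_sylow P v.val_mem) hx)] at h1
  exact EV.val_eq_one.1 h1.symm

theorem pow_mem_pPrimePCore [Finite G] [hp : Fact p.Prime] (hG : IsPSolvable p G) {n : ℕ}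
    (hE : ∀ r, ¬ Exc p (n + 1) r G) (P : Sylow p G)
    (hexp : ∀ x ∈ (P : Subgroup G), x ^ p ^ (n + 1) = 1) {x : G} (hx : x ∈ (P : Subgroup G)) :
    x ^ p ^ n ∈ pPrimePCore p G := by
  obtain ⟨H, _, _, f, hf, hH, he⟩ := exists_std hG
  rw [← he, mem_comap, map_pow]
  refine hH.pow_mem (fun r h => hE r (h.of_surjective hf)) (P.mapSurjective hf) ?_
    (mem_map_of_mem f hx)
  rintro _ ⟨y, hy, rfl⟩
  rw [← map_pow, hexp y hy, map_one]

/-- outside the exceptional cases the `p`-length is at most the exponent of a Sylow subgroup -/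
theorem pLengthLE_of_exp [hp : Fact p.Prime] (n : ℕ) : ∀ {G : Type u} [Group G] [Finite G],
    IsPSolvable p G → (∀ m r, ¬ Exc p m r G) → ∀ P : Sylow p G,
    (∀ x ∈ (P : Subgroup G), x ^ p ^ n = 1) → PLengthLE p n G := by
  induction n with
  | zero =>
    intro G _ _ _ _ P hexp
    have h : (P : Subgroup G) = ⊥ := eq_bot_iff.2 fun x hx => by simpa using hexp x hx
    have h2 := P.not_dvd_index
    rw [h, index_bot] at h2
    exact pLengthLE_zero_iff.2 ((Nat.Prime.coprime_iff_not_dvd hp.out).2 h2).symm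
  | succ n ih =>
    intro G _ _ hG hE P hexp
    have := pPrimePCore_normal p G
    have hf := QuotientGroup.mk'_surjective (pPrimePCore p G)
    refine pLengthLE_succ_of_quotient _ le_rfl (ih (isPSolvable_quotient hp.out hG _)
      (fun m r h => hE m r (h.of_surjective hf)) (P.mapSurjective hf) ?_)
    rintro _ ⟨y, hy, rfl⟩
    rw [← map_pow, QuotientGroup.mk'_apply, QuotientGroup.eq_one_iff]
    exact pow_mem_pPrimePCore hG (hE _) P hexp hy

theorem pLengthLE_one_of_comm [Finite G] [hp : Fact p.Prime] (hG : IsPSolvable p G) (P : Sylow p G)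
    (h : IsMulCommutative (P : Subgroup G)) : PLengthLE p 1 G :=
  (pLengthLE_one_iff_sylow_le P).2 ((le_centralizer_iff_isMulCommutative.2 h).trans
    (IsPConstrained.centralizer_sylow_le (isPConstrained_of_isPSolvable hG) P))

theorem Exc.ne {n r : ℕ} (hp : p.Prime) (h : Exc p n r G) : ∃ q, q.Prime ∧ q ≠ p ∧
    (p ≠ 2 → q = 2) ∧ ∀ Q : Sylow q G, ¬ IsMulCommutative Q := by
  obtain ⟨n₀, q, m, h1, -, hq, h3, h4, h5, -⟩ := h
  have hpos : 0 < p ^ n₀ := pow_pos hp.pos _
  have h6 : p ^ n₀ = q ^ m + 1 := by omega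
  refine ⟨q, hq, ?_, fun h2 => ?_, h5⟩
  · rintro rfl
    have h7 : q ∣ q ^ m + 1 := h6 ▸ dvd_pow_self q (by omega)
    exact hq.one_lt.ne' (Nat.dvd_one.1 ((Nat.dvd_add_right (dvd_pow_self q (by omega))).1 h7))
  · by_contra h7
    have h8 := (hp.odd_of_ne_two h2).pow (n := n₀)
    have h9 := (hq.odd_of_ne_two h7).pow (n := m)
    rw [h6] at h8
    exact (Nat.not_even_iff_odd.2 h8) h9.add_one

end Cfsg.Lib.HH
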