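import Cfsg.Agent.Lib.HH.TwoK

/-!
# Powers of `k x` against powers of `x` in a local datum
-/

set_option autoImplicit false

namespace Cfsg.Lib.HH.Two

open Subgroup Cfsg.Lib.Core
open scoped commutatorElement

universe u v

theorem transfer2 {G C : Type*} [Group G] [CommGroup C] {P₁ P₀ : Subgroup G} {s : G}
    (hs : s * s = 1) (hs₁ : s ∈ P₁) (hs₀ : s ∉ P₀)
    (h : ∀ a ∈ P₁, ∀ b ∈ P₁, a * b ∈ P₀ ↔ (a ∈ P₀ ↔ b ∈ P₀)) {ψ : G → C}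
    (hψ : ∀ a ∈ P₀, ∀ b ∈ P₀, ψ (a * b) = ψ a * ψ b) :
    ∃ δ : G → C, (∀ a ∈ P₁, ∀ b ∈ P₁, δ (a * b) = δ a * δ b) ∧
      (∀ g ∈ P₀, δ g = ψ g * ψ (s * g * s)) ∧ ∀ g ∈ P₁, g ∉ P₀ → δ g = ψ (g * g) := by
  classical
  have r : ∀ g ∈ P₁, g ∉ P₀ → g * s ∈ P₀ := fun g h1 h2 => (h g h1 s hs₁).2 (iff_of_false h2 hs₀)
  have l : ∀ g ∈ P₁, g ∉ P₀ → s * g ∈ P₀ := fun g h1 h2 => (h s hs₁ g h1).2 (iff_of_false hs₀ h2)
  have c : ∀ g ∈ P₁, g ∈ P₀ → s * g * s ∈ P₀ := fun g h1 h2 =>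
    r _ (mul_mem hs₁ h1) fun h3 => hs₀ (((h s hs₁ g h1).1 h3).2 h2)
  have e : ∀ a b : G, a * s * (s * b) = a * b := fun a b => by
    rw [mul_assoc, ← mul_assoc s, hs, one_mul]
  refine ⟨fun g => if g ∈ P₀ then ψ g * ψ (s * g * s) else ψ (g * s) * ψ (s * g),
    fun a ha b hb => ?_, fun g hg => if_pos hg, fun g h1 h2 => ?_⟩
  · by_cases h1 : a ∈ P₀ <;> by_cases h2 : b ∈ P₀
    · simp only [if_pos h1, if_pos h2, if_pos (mul_mem h1 h2)]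
      rw [mul_mul_mul_comm, ← hψ _ h1 _ h2, ← hψ _ (c a ha h1) _ (c b hb h2), mul_assoc s b, e]
      simp only [mul_assoc]
    · simp only [if_pos h1, if_neg h2, if_neg fun h3 => h2 (((h a ha b hb).1 h3).1 h1)]
      rw [mul_mul_mul_comm, ← hψ _ h1 _ (r b hb h2), ← hψ _ (c a ha h1) _ (l b hb h2), e]
      simp only [mul_assoc]
    · simp only [if_neg h1, if_pos h2, if_neg fun h3 => h1 (((h a ha b hb).1 h3).2 h2)]
      rw [mul_comm (ψ b), mul_mul_mul_comm, ← hψ _ (r a ha h1) _ (c b hb h2),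
        ← hψ _ (l a ha h1) _ h2, mul_assoc s b, e]
      simp only [mul_assoc]
    · simp only [if_neg h1, if_neg h2, if_pos ((h a ha b hb).2 (iff_of_false h1 h2))]
      rw [mul_comm (ψ (b * s)), mul_mul_mul_comm, ← hψ _ (r a ha h1) _ (l b hb h2),
        ← hψ _ (l a ha h1) _ (r b hb h2), e]
      simp only [mul_assoc]
  · simp only [if_neg h2]
    rw [← hψ _ (r g h1 h2) _ (l g h1 h2), e]

variable {M : Type u} [CommGroup M]

/-- automorphisms acting as `±1` on `U` -/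
def Jj (U : Subgroup M) : Subgroup (MulAut M) where
  carrier := {g | (∀ m ∈ U, g m = m) ∨ ∀ m ∈ U, g m = m⁻¹}
  one_mem' := Or.inl fun _ _ => rfl
  mul_mem' := by
    rintro a b (ha | ha) (hb | hb)
    · exact Or.inl fun m hm => by rw [MulAut.mul_apply, hb m hm, ha m hm]
    · exact Or.inr fun m hm => by rw [MulAut.mul_apply, hb m hm, ha _ (inv_mem hm)]
    · exact Or.inr fun m hm => by rw [MulAut.mul_apply, hb m hm, ha m hm]
    · exact Or.inl fun m hm => by rw [MulAut.mul_apply, hb m hm, ha _ (inv_mem hm), inv_inv]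
  inv_mem' := by
    rintro a (ha | ha)
    · exact Or.inl fun m hm => by rw [MulAut.inv_apply, MulEquiv.symm_apply_eq, ha m hm]
    · exact Or.inr fun m hm => by
        rw [MulAut.inv_apply, MulEquiv.symm_apply_eq, ha _ (inv_mem hm), inv_inv]

theorem exists_psi [Finite M] (ho : Od M) {y : MulAut M} (hc : Nat.card (Ui y) = 9)
    {P₀ : Subgroup (MulAut M)} (hP : IsPGroup 2 P₀) (hy : y ∈ P₀)
    (h1 : ∀ g ∈ P₀, g * y = y * g)
    (hI : ∀ g ∈ P₀, (∀ m ∈ Ui y, g (g m) = m) → g ∈ Jj (Ui y)) :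
    ∃ (C : Type u) (_ : CommGroup C) (ψ : MulAut M → C),
      (∀ a ∈ P₀, ∀ b ∈ P₀, ψ (a * b) = ψ a * ψ b) ∧ ∀ g ∈ P₀, ψ g = 1 ↔ g ∈ Jj (Ui y) := by
  classical
  have hn : ((Jj (Ui y)).subgroupOf P₀).Normal := ⟨fun a ha g => by
    have hg : ∀ m ∈ Ui y, (g : MulAut M).symm m ∈ Ui y := fun m =>
      apply_mem_Ui (h1 _ (inv_mem g.2))
    exact (mem_subgroupOf.1 ha).imp (fun h m hm => by simp [h _ (hg m hm)])
      (fun h m hm => by simp [h _ (hg m hm)])⟩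
  obtain ⟨u, hu, hu1⟩ : ∃ u ∈ Ui y, u ≠ 1 := by
    by_contra! h2
    rw [(eq_bot_iff_forall _).2 h2, card_bot] at hc
    omega
  have hfree : ∀ k, ∀ g ∈ P₀, g u = u → (∀ m ∈ Ui y, (g ^ 2 ^ k) m = m) → ∀ m ∈ Ui y, g m = m := by
    intro k
    induction k with
    | zero => intro g _ _ h; simpa using h
    | succ k ih =>
      intro g hg h2 h3
      refine (hI g hg (ih (g ^ 2) (pow_mem hg 2) (fix_pow h2 2) (by
        rwa [← pow_mul, ← pow_succ']))).resolve_right fun h4 => hu1 (ho.inv (h2.symm.trans (h4 u hu)))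
  have hle : MulAction.stabilizer P₀ u ≤ (Jj (Ui y)).subgroupOf P₀ := fun g hg => by
    obtain ⟨k, hk⟩ := hP g
    exact Or.inl (hfree k g g.2 hg fun m _ => by
      rw [show (g : MulAut M) ^ 2 ^ k = 1 from congrArg Subtype.val hk]; rfl)
  have h2 : (MulAction.stabilizer P₀ u).index ≤ 8 := by
    rw [MulAction.index_stabilizer]
    refine (Set.ncard_le_ncard (t := (Ui y : Set M) \ {1}) ?_).trans ?_
    · rintro _ ⟨g, rfl⟩
      exact ⟨apply_mem_Ui (h1 g g.2) hu, fun h => hu1 ((map_eq_one_iff _ g.1.injective).1 h)⟩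
    · rw [Set.ncard_sdiff_singleton_of_mem (one_mem (Ui y)), ← Nat.card_coe_set_eq]
      exact Nat.sub_le_of_le_add hc.le
  have h3 := relIndex_mul_index hle
  have h4 : (MulAction.stabilizer P₀ u).relIndex ((Jj (Ui y)).subgroupOf P₀) ≠ 1 := fun h =>
    hu1 (ho.fix_Ui hu (relIndex_eq_one.1 h (x := ⟨y, hy⟩) (Or.inr fun _ h => h)))
  have h5 := (MulAction.stabilizer P₀ u).index_ne_zero_of_finite
  have h6 : ((Jj (Ui y)).subgroupOf P₀).index ≤ 4 := by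
    rcases Nat.eq_zero_or_pos ((MulAction.stabilizer P₀ u).relIndex ((Jj (Ui y)).subgroupOf P₀))
      with h | h
    · rw [h, zero_mul] at h3; omega
    · have := Nat.mul_le_mul_right ((Jj (Ui y)).subgroupOf P₀).index (show 2 ≤ _ from
        lt_of_le_of_ne h h4.symm)
      omega
  have h7 : IsMulCommutative (P₀ ⧸ (Jj (Ui y)).subgroupOf P₀) := by
    obtain ⟨k, hk⟩ := (hP.to_quotient ((Jj (Ui y)).subgroupOf P₀)).exists_card_eq
    rw [index_eq_card, hk, show 4 = 2 ^ 2 from rfl, Nat.pow_le_pow_iff_right one_lt_two] at h6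
    interval_cases k
    · have := (Nat.card_eq_one_iff_unique.1 hk).1
      exact ⟨⟨fun a b => Subsingleton.elim _ _⟩⟩
    · have := isCyclic_of_prime_card (p := 2) hk
      infer_instance
    · exact IsPGroup.isMulCommutative_of_card_eq_prime_sq hk
  refine ⟨P₀ ⧸ (Jj (Ui y)).subgroupOf P₀,
    { QuotientGroup.Quotient.group _ with mul_comm := h7.is_comm.comm },
    fun g => if h : g ∈ P₀ then QuotientGroup.mk ⟨g, h⟩ else 1, fun a ha b hb => ?_,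
    fun g hg => ?_⟩
  · simp only [dif_pos ha, dif_pos hb, dif_pos (mul_mem ha hb)]
    rfl
  · simp only [dif_pos hg]
    exact QuotientGroup.eq_one_iff _

variable {q : ℕ}

theorem Alt.of_ne {g h : MulAut M} (a : Alt g h) (hn : g ^ 2 ≠ h ^ 2) :
    g * h = h * g ∧ (∀ m ∈ Ui (g ^ 2), h m = m) ∧ ∀ m ∈ Ui (h ^ 2), g m = m := a.resolve_left hn

theorem DD.eq_one (ho : Od M) {w : MulAut M} {m : M} (hm : m ∈ Ui (w ^ 2)) (h : w m = m) : m = 1 :=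
  ho.fix_Ui hm (by rw [sq_apply, h, h])

section

variable [Finite M] [Fact q.Prime] (h4 : q % 4 = 3) (ho : Od M) {P : Subgroup (MulAut M)}
  (hP : IsPGroup 2 P)
include h4 ho hP

theorem triple {s w w₃ : MulAut M} (hs : s * s = 1) (hc : Nat.card (Ui s) = q ^ 2) (hw : DD q w)
    (hw₃ : DD q w₃) (h1 : s ∈ P) (h2 : w ∈ P) (h3 : w₃ ∈ P) (n1 : w ^ 2 ≠ s * w ^ 2 * s⁻¹)
    (n2 : w₃ ^ 2 ≠ w ^ 2) (n3 : w₃ ^ 2 ≠ s * w ^ 2 * s⁻¹) : s * w₃ ^ 2 * s⁻¹ = w₃ ^ 2 := by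
  have c : ∀ g ∈ P, s * g * s⁻¹ ∈ P := fun g hg => mul_mem (mul_mem h1 hg) (inv_mem h1)
  rw [← conj_pow] at n1 n3 ⊢
  obtain ⟨-, -, a1⟩ := (hw.alt h4 ho hP (hw.conj s) h2 (c _ h2)).of_ne n1
  obtain ⟨-, -, a2⟩ := (hw₃.alt h4 ho hP hw h3 h2).of_ne n2
  obtain ⟨-, -, a3⟩ := (hw₃.alt h4 ho hP (hw.conj s) h3 (c _ h2)).of_ne n3
  by_contra n4
  obtain ⟨-, -, a4⟩ := (hw₃.alt h4 ho hP (hw₃.conj s) h3 (c _ h3)).of_ne (Ne.symm n4)
  rw [conj_pow] at a1 a3 a4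
  obtain ⟨m, hm, hm1⟩ := hw₃.exists_ne
  obtain ⟨u, hu, e⟩ := exists_sub (U := Ui (w ^ 2)) (by rw [hc, hw.card]) (sub_mem_Ui hs)
    (fun m hm e => DD.eq_one ho hm (by simpa [e] using a1 _ (apply_mem_Ui_conj.2 hm)))
    (sub_mem_Ui hs m)
  have a5 := congrArg w₃ e
  rw [map_mul, map_mul, map_inv, map_inv, a2 u hu, a3 _ (apply_mem_Ui_conj.2 hu),
    a4 _ (apply_mem_Ui_conj.2 hm), e, mul_right_inj, inv_inj] at a5
  exact hm1 (DD.eq_one ho hm a5.symm)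

theorem two_blocks {a s w : MulAut M} (ha : a * a = 1) (hs : s * s = 1)
    (hca : a ≠ 1 → Nat.card (Ui a) = q ^ 2) (hcs : Nat.card (Ui s) = q ^ 2) (hw : DD q w)
    (h1 : s ∈ P) (h2 : w ∈ P) (h3 : a ∈ P) (n1 : w ^ 2 ≠ s * w ^ 2 * s⁻¹)
    (h5 : (a * s) ^ 4 = 1) : a * w ^ 2 * a⁻¹ = w ^ 2 ∨ a * w ^ 2 * a⁻¹ = s * w ^ 2 * s⁻¹ := by
  by_contra! h6
  have b1 := triple h4 ho hP hs hcs hw (hw.conj a) h1 h2 (mul_mem (mul_mem h3 h2) (inv_mem h3)) n1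
    (by rw [conj_pow]; exact h6.1) (by rw [conj_pow]; exact h6.2)
  have b2 := triple h4 ho hP ha (hca (by rintro rfl; simp at h6)) hw (hw.conj s) h3 h2
    (mul_mem (mul_mem h1 h2) (inv_mem h1)) h6.1.symm
    (by rw [conj_pow]; exact n1.symm) (by rw [conj_pow]; exact h6.2.symm)
  rw [conj_pow] at b1 b2
  generalize w ^ 2 = y at *
  have c1 : (a * s) * y * (a * s)⁻¹ = s * y * s⁻¹ := by rw [← b2]; group
  have c2 : (a * s) * (s * y * s⁻¹) * (a * s)⁻¹ = a * y * a⁻¹ := by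
    rw [show a * s * (s * y * s⁻¹) * (a * s)⁻¹ = a * (s * s) * y * (s * s)⁻¹ * a⁻¹ by group, hs]
    group
  have c3 : (a * s) * (a * y * a⁻¹) * (a * s)⁻¹ = y := by
    rw [show a * s * (a * y * a⁻¹) * (a * s)⁻¹ = a * (s * (a * y * a⁻¹) * s⁻¹) * a⁻¹ by group, b1,
      show a * (a * y * a⁻¹) * a⁻¹ = (a * a) * y * (a * a)⁻¹ by group, ha]
    group
  generalize a * s = b at *
  apply n1
  calc y = b ^ 4 * y * (b ^ 4)⁻¹ := by rw [h5]; group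
    _ = b * (b * (b * (b * y * b⁻¹) * b⁻¹) * b⁻¹) * b⁻¹ := by
      simp only [pow_succ, pow_zero, one_mul, mul_inv_rev, mul_assoc]
    _ = _ := by rw [c1, c2, c3, c1]

end

theorem agree_pow {f g : MulAut M} {U : Subgroup M} (h : ∀ m ∈ U, f m = g m)
    (hg : ∀ m ∈ U, g m ∈ U) (n : ℕ) : ∀ m ∈ U, (f ^ n) m = (g ^ n) m := by
  induction n with
  | zero => exact fun _ _ => rfl
  | succ n ih =>
    intro m hm
    rw [pow_succ, pow_succ, MulAut.mul_apply, MulAut.mul_apply, h m hm, ih _ (hg m hm)]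

theorem main_alt [Finite M] [Fact q.Prime] (ho : Od M) {P : Subgroup (MulAut M)}
    (hP : IsPGroup 2 P) {Y : Set (MulAut M)} (hYP : ∀ a ∈ Y, a ∈ P) (hY2 : ∀ a ∈ Y, a * a = 1)
    (hYc : ∀ a ∈ Y, a ≠ 1 → Nat.card (Ui a) = q ^ 2) (hY4 : ∀ a ∈ Y, ∀ b ∈ Y, (a * b) ^ 4 = 1)
    {α : MulAut M} {i : ℕ} (hq : q + 1 = 2 ^ (i + 2)) (hα : α ∈ P) (hw : DD q (α ^ 2 ^ i))
    (hfix : ∀ m, ((α ^ 2 ^ i) ^ 2) m = m → α m = m)
    (hI : ∀ g ∈ P, (∀ m ∈ Ui ((α ^ 2 ^ i) ^ 2), g m ∈ Ui ((α ^ 2 ^ i) ^ 2)) →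
      (∀ m ∈ Ui ((α ^ 2 ^ i) ^ 2), g (g m) = m) → g ∈ Jj (Ui ((α ^ 2 ^ i) ^ 2)))
    {s : MulAut M} (hs : s ∈ Y) (hαs : α * s * α⁻¹ ∈ Y)
    (n1 : (α ^ 2 ^ i) ^ 2 ≠ s * (α ^ 2 ^ i) ^ 2 * s⁻¹) {k : MulAut M} (hk : k ∈ closure Y)
    (hw' : (k * α ^ 2 ^ i) ^ 2 = 1 ∨ DD q (k * α ^ 2 ^ i)) :
    (k * α ^ 2 ^ i) ^ 2 = (α ^ 2 ^ i) ^ 2 ∨ (k * α ^ 2 ^ i) ^ 2 = s * (α ^ 2 ^ i) ^ 2 * s⁻¹ := by
  have h4 : q % 4 = 3 := by rw [pow_add] at hq; omega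
  have hsP := hYP s hs
  have hs2 := hY2 s hs
  have hsi : s⁻¹ = s := inv_eq_of_mul_eq_one_left hs2
  have c : ∀ g ∈ P, s * g * s⁻¹ ∈ P := fun g hg => mul_mem (mul_mem hsP hg) (inv_mem hsP)
  have hwP := pow_mem hα (2 ^ i)
  obtain ⟨a1, a2, a3⟩ := (hw.alt h4 ho hP (hw.conj s) hwP (c _ hwP)).of_ne (by rwa [conj_pow])
  rw [conj_pow] at a3
  obtain ⟨u, hu, hu1⟩ := hw.exists_ne
  obtain rfl : i = 0 := by
    by_contra hi
    obtain ⟨i, rfl⟩ : ∃ j, i = j + 1 := ⟨i - 1, by omega⟩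
    have b1 := agree_pow (f := s * (α * s * α⁻¹)) (g := α⁻¹) (U := Ui ((α ^ 2 ^ (i + 1)) ^ 2))
      (fun m hm => by
        have b2 := apply_mem_Ui_conj (h := s) |>.2 (apply_mem_Ui
          (((Commute.refl α).pow_right _).pow_right 2).inv_left.eq hm)
        have b3 := hfix _ (by rw [sq_apply, a3 _ b2, a3 _ b2])
        simp only [MulAut.mul_apply]
        rw [b3, ← MulAut.mul_apply, hs2]; rfl)
      (fun m => apply_mem_Ui (((Commute.refl α).pow_right _).pow_right 2).inv_left.eq) 4 u hu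
    rw [hY4 _ hs _ hαs, inv_pow, MulAut.one_apply, MulAut.inv_apply, MulEquiv.eq_symm_apply] at b1
    refine hu1 (ho.fix_Ui hu ?_)
    rw [← pow_mul, show 2 ^ (i + 1) * 2 = 4 * 2 ^ i by ring, pow_mul]
    exact fix_pow b1 _
  obtain rfl : q = 3 := by omega
  simp only [pow_zero, pow_one] at hw hI n1 hw' a1 a2 a3 hu ⊢
  by_contra! n2
  have hcs := hYc s hs (by rintro rfl; simp at n1)
  set y := α ^ 2 with hy
  set y₂ := s * y * s⁻¹ with hy₂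
  let P₁ : Subgroup (MulAut M) :=
    { carrier := {g | g ∈ P ∧ (g * y * g⁻¹ = y ∧ g * y₂ * g⁻¹ = y₂ ∨
        g * y * g⁻¹ = y₂ ∧ g * y₂ * g⁻¹ = y)}
      one_mem' := ⟨one_mem _, Or.inl (by simp)⟩
      mul_mem' := by
        rintro a b ⟨ha, ha'⟩ ⟨hb, hb'⟩
        have e : ∀ z, a * b * z * (a * b)⁻¹ = a * (b * z * b⁻¹) * a⁻¹ := fun z => by group
        refine ⟨mul_mem ha hb, ?_⟩
        rw [e, e]
        rcases ha' with ⟨h1, h2⟩ | ⟨h1, h2⟩ <;> rcases hb' with ⟨h3, h5⟩ | ⟨h3, h5⟩ <;>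
          simp only [h1, h2, h3, h5, and_self, true_or, or_true]
      inv_mem' := by
        rintro a ⟨ha, ha'⟩
        have e : ∀ z z', a * z * a⁻¹ = z' → a⁻¹ * z' * a⁻¹⁻¹ = z := fun z z' h => by
          rw [← h]; group
        exact ⟨inv_mem ha, ha'.imp (fun h => ⟨e _ _ h.1, e _ _ h.2⟩) fun h => ⟨e _ _ h.2, e _ _ h.1⟩⟩ }
  have hss : s * y₂ * s⁻¹ = y := by
    rw [hy₂, show s * (s * y * s⁻¹) * s⁻¹ = (s * s) * y * (s * s)⁻¹ by group, hs2]; group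
  have hY₁ : ∀ a ∈ Y, a ∈ P₁ := fun a ha => by
    have e : ∀ z z', a * z * a⁻¹ = z' → a * z' * a⁻¹ = z := fun z z' h => by
      rw [← h, show a * (a * z * a⁻¹) * a⁻¹ = (a * a) * z * (a * a)⁻¹ by group, hY2 a ha]; group
    refine ⟨hYP a ha, (two_blocks h4 ho hP (hY2 a ha) hs2 (hYc a ha) hcs hw hsP hα (hYP a ha) n1
      (hY4 a ha s hs)).imp (fun h => ⟨h, ?_⟩) fun h => ⟨h, e _ _ h⟩⟩
    have := two_blocks h4 ho hP (hY2 a ha) hs2 (hYc a ha) hcs (hw.conj s) hsP (c _ hα) (hYP a ha)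
      (by rw [conj_pow, hss]; exact n1.symm) (hY4 a ha s hs)
    rw [conj_pow, hss] at this
    exact this.resolve_right fun h' => n1 ((e _ _ h).symm.trans (e _ _ h'))
  let P₀ := P₁ ⊓ centralizer {y}
  have mem₀ : ∀ g ∈ P₁, g ∈ P₀ ↔ g * y * g⁻¹ = y := fun g hg => by
    rw [mem_inf, mem_centralizer_singleton_iff, mul_inv_eq_iff_eq_mul]
    exact and_iff_right hg
  have hmul : ∀ a ∈ P₁, ∀ b ∈ P₁, a * b ∈ P₀ ↔ (a ∈ P₀ ↔ b ∈ P₀) := fun a ha b hb => by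
    rw [mem₀ _ (mul_mem ha hb), mem₀ a ha, mem₀ b hb,
      show a * b * y * (a * b)⁻¹ = a * (b * y * b⁻¹) * a⁻¹ by group]
    rcases ha.2 with ⟨h1, h2⟩ | ⟨h1, h2⟩ <;> rcases hb.2 with ⟨h3, -⟩ | ⟨h3, -⟩ <;>
      simp only [h1, h2, h3, n1.symm, iff_self, iff_false, iff_true, not_true]
  have hcm : ∀ g ∈ P₀, g * y = y * g := fun g hg => mem_centralizer_singleton_iff.1 hg.2
  have hc₁ : ∀ g ∈ P, Commute g α → Commute g (s * α * s⁻¹) → g ∈ P₀ := fun g h1 h2 h3 => by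
    have e1 : g * y * g⁻¹ = y := mul_inv_eq_iff_eq_mul.2 (h2.pow_right 2).eq
    have : g ∈ P₁ := ⟨h1, Or.inl ⟨e1, mul_inv_eq_iff_eq_mul.2 (by
      have := (h3.pow_right 2).eq
      rwa [conj_pow] at this)⟩⟩
    exact (mem₀ g this).2 e1
  have hα₀ : α ∈ P₀ := hc₁ α hα (Commute.refl _) a1
  have hI₀ : ∀ g ∈ P₀, (∀ m ∈ Ui y, g (g m) = m) → g ∈ Jj (Ui y) := fun g hg =>
    hI g hg.1.1 fun m => apply_mem_Ui (hcm g hg)
  obtain ⟨C, _, ψ, p1, p2⟩ := exists_psi ho hw.card (hP.to_le (H := P₀) fun g hg => hg.1.1)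
    (pow_mem hα₀ 2) hcm hI₀
  have hs₀ : s ∉ P₀ := fun h => n1 ((mem₀ s h.1).1 h).symm
  obtain ⟨δ, d1, d2, d3⟩ := transfer2 hs2 (hY₁ s hs) hs₀ hmul p1
  have c₀ : ∀ g ∈ P₀, s * g * s ∈ P₀ := fun g hg => (hmul _ (mul_mem (hY₁ s hs) hg.1) _ (hY₁ s hs)).2
    (iff_of_false (fun h => hs₀ (((hmul _ (hY₁ s hs) _ hg.1).1 h).2 hg)) hs₀)
  have d4 : ∀ g ∈ P₁, g * g = 1 → δ g = 1 := fun g h1 h2 => by
    by_cases h3 : g ∈ P₀
    · rw [d2 g h3, (p2 g h3).2 (hI₀ g h3 fun m _ => by rw [← MulAut.mul_apply, h2]; rfl),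
        (p2 _ (c₀ g h3)).2 (hI₀ _ (c₀ g h3) fun m _ => by
          rw [← MulAut.mul_apply, show s * g * s * (s * g * s) = s * (g * (s * s) * g) * s by group,
            hs2, mul_one, h2, mul_one, hs2]; rfl), mul_one]
    · rw [d3 g h1 h3, h2, pm_one p1]
  have hk₁ : closure Y ≤ P₁ := (closure_le _).2 hY₁
  have d5 : δ k = 1 := by
    clear hw' n2
    induction hk using closure_induction with
    | mem a ha => exact d4 a (hY₁ a ha) (hY2 a ha)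
    | one => exact pm_one d1
    | mul a b ha hb iha ihb => rw [d1 a (hk₁ ha) b (hk₁ hb), iha, ihb, mul_one]
    | inv a ha iha => rw [pm_inv d1 (hk₁ ha), iha, inv_one]
  have d6 : δ (k * α) = 1 := by
    rcases hw' with h1 | h1
    · exact d4 _ (mul_mem (hk₁ hk) hα₀.1) (by rwa [sq] at h1)
    have hP' := mul_mem (hk₁ hk).1 hα
    obtain ⟨b1, -, b2⟩ := (h1.alt h4 ho hP hw hP' hα).of_ne n2.1
    obtain ⟨b3, -, b4⟩ := (h1.alt h4 ho hP (hw.conj s) hP' (c _ hα)).of_ne (by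
      rw [conj_pow]; exact n2.2)
    rw [conj_pow] at b4
    have b5 := hc₁ _ hP' b1 b3
    rw [d2 _ b5, (p2 _ b5).2 (Or.inl b2), (p2 _ (c₀ _ b5)).2 (Or.inl fun m hm => by
      rw [MulAut.mul_apply, MulAut.mul_apply, b4 _ (apply_mem_Ui_conj.2 hm), ← MulAut.mul_apply, hs2]
      rfl), mul_one]
  rw [d1 _ (hk₁ hk) _ hα₀.1, d5, one_mul, d2 _ hα₀, (p2 _ (c₀ _ hα₀)).2 (Or.inl (by
    rwa [hsi] at a2)), mul_one, p2 _ hα₀] at d6
  refine hu1 (ho.fix_Ui hu ?_)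
  rcases d6 with h | h
  · rw [sq_apply, h u hu, h u hu]
  · rw [sq_apply, h u hu, map_inv, h u hu, inv_inv]

end Cfsg.Lib.HH.Two
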