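import Mathlib

/-!
# Automorphisms of order four of an abelian group of odd order

Used for the bound of the `2`-length by the exponent of a Sylow `2`-subgroup.
-/

set_option autoImplicit false

namespace Cfsg.Lib.HH.Two

open Subgroup

universe u v

variable {M : Type u} [CommGroup M]

/-- the elements inverted by an automorphism -/
def Ui (y : MulAut M) : Subgroup M where
  carrier := {m | y m = m⁻¹}
  one_mem' := by simp
  mul_mem' := fun {a b} ha hb => by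
    simp only [Set.mem_ofPred_eq] at *
    rw [map_mul, ha, hb, mul_inv]
  inv_mem' := fun {a} ha => by
    simp only [Set.mem_ofPred_eq] at *
    rw [map_inv, ha]

theorem mem_Ui {y : MulAut M} {m : M} : m ∈ Ui y ↔ y m = m⁻¹ := Iff.rfl

/-- no elements of order two -/
def Od (M : Type*) [Group M] : Prop := ∀ m : M, m * m = 1 → m = 1

theorem Od.inv (ho : Od M) {m : M} (h : m = m⁻¹) : m = 1 :=
  ho m (by nth_rw 2 [h]; exact mul_inv_cancel m)

theorem Od.pow (ho : Od M) {m : M} {k : ℕ} (h : m ^ 2 ^ k = 1) : m = 1 := by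
  induction k with
  | zero => simpa using h
  | succ k ih => exact ih (ho _ (by rw [← sq, ← pow_mul, ← pow_succ, h]))

theorem Od.sq_inj (ho : Od M) {a b : M} (h : a * a = b * b) : a = b := by
  rw [← mul_inv_eq_one]
  apply ho
  rw [mul_mul_mul_comm, h, ← mul_inv, mul_inv_cancel]

theorem Od.exists_sq [Finite M] (ho : Od M) (m : M) : ∃ a, a * a = m :=
  (Finite.injective_iff_surjective.1 (fun _ _ h => ho.sq_inj h : Function.Injective fun a : M => a * a)) m

theorem Od.fix_Ui (ho : Od M) {y : MulAut M} {m : M} (h : m ∈ Ui y) (h' : y m = m) : m = 1 :=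
  ho.inv (h'.symm.trans h)

theorem sq_apply (w : MulAut M) (m : M) : (w ^ 2) m = w (w m) := by rw [sq]; rfl

theorem mem_Ui_conj {y h : MulAut M} {m : M} : m ∈ Ui (h * y * h⁻¹) ↔ h⁻¹ m ∈ Ui y := by
  rw [mem_Ui, mem_Ui, MulAut.mul_apply, MulAut.mul_apply, ← map_inv, MulAut.inv_apply,
    MulAut.inv_apply, MulEquiv.eq_symm_apply]

theorem apply_mem_Ui_conj {y h : MulAut M} {m : M} : h m ∈ Ui (h * y * h⁻¹) ↔ m ∈ Ui y := by
  rw [mem_Ui_conj, MulAut.inv_apply_self]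

theorem Ui_conj (y h : MulAut M) : Ui (h * y * h⁻¹) = (Ui y).map (h : M →* M) := by
  ext m
  rw [mem_Ui_conj, mem_map]
  exact ⟨fun hm => ⟨_, hm, by simp⟩, by rintro ⟨a, ha, rfl⟩; simpa using ha⟩

theorem apply_mem_Ui {y h : MulAut M} (hc : h * y = y * h) {m : M} (hm : m ∈ Ui y) :
    h m ∈ Ui y := by
  rw [mem_Ui, ← MulAut.mul_apply, ← hc, MulAut.mul_apply, hm, map_inv]

theorem sub_mem_Ui {y : MulAut M} (hy : y * y = 1) (m : M) : y m * m⁻¹ ∈ Ui y := by
  rw [mem_Ui, map_mul, ← MulAut.mul_apply, hy, map_inv, mul_inv, inv_inv, mul_comm]; rfl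

theorem add_fix {y : MulAut M} (hy : y * y = 1) (m : M) : y (y m * m) = y m * m := by
  rw [map_mul, ← MulAut.mul_apply, hy, mul_comm]; rfl

theorem ext_Ui (ho : Od M) {y : MulAut M} (hy : y * y = 1) {f g : MulAut M}
    (h1 : ∀ m ∈ Ui y, f m = g m) (h2 : ∀ m, y m = m → f m = g m) : f = g := by
  ext m
  apply ho.sq_inj
  have e : m * m = (y m * m⁻¹)⁻¹ * (y m * m) := by
    rw [mul_inv, inv_inv, mul_mul_mul_comm, inv_mul_cancel, one_mul]
  rw [← map_mul, ← map_mul, e, map_mul f, map_mul g, h1 _ (inv_mem (sub_mem_Ui hy m)),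
    h2 _ (add_fix hy m)]

theorem unip (ho : Od M) {c : MulAut M} {k : ℕ} (hc : c ^ 2 ^ k = 1) {U : Subgroup M}
    (h1 : ∀ m ∈ U, c m = m) (h2 : ∀ m, c m * m⁻¹ ∈ U) : c = 1 := by
  ext m
  have key : ∀ i : ℕ, (c ^ i) m = (c m * m⁻¹) ^ i * m := by
    intro i
    induction i with
    | zero => simp
    | succ i ih =>
      rw [pow_succ', MulAut.mul_apply, ih, map_mul, h1 _ (pow_mem (h2 m) i), pow_succ, mul_assoc,
        inv_mul_cancel_right]
  have := key (2 ^ k)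
  rw [hc, MulAut.one_apply, right_eq_mul] at this
  exact mul_inv_eq_one.1 (ho.pow this)

/-- the class of automorphisms considered -/
structure DD (q : ℕ) (w : MulAut M) : Prop where
  four : w ^ 2 * w ^ 2 = 1
  card : Nat.card (Ui (w ^ 2)) = q ^ 2
  fix : ∀ m, (w ^ 2) m = m → w m = m

variable {q : ℕ}

theorem DD.sub_mem {w : MulAut M} (h : DD q w) (m : M) : w m * m⁻¹ ∈ Ui (w ^ 2) := by
  have h1 := h.fix _ (add_fix h.four m)
  rw [mem_Ui, map_mul, map_inv, mul_inv, inv_inv, ← MulAut.mul_apply, ← pow_succ, pow_succ',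
    MulAut.mul_apply]
  rw [map_mul] at h1
  rw [eq_mul_inv_of_mul_eq h1, mul_right_comm, mul_inv_cancel_comm, mul_comm]

theorem DD.mem {w : MulAut M} (_ : DD q w) {m : M} (hm : m ∈ Ui (w ^ 2)) : w m ∈ Ui (w ^ 2) :=
  apply_mem_Ui ((Commute.refl w).pow_right 2).eq hm

theorem DD.conj {w : MulAut M} (h : DD q w) (g : MulAut M) : DD q (g * w * g⁻¹) := by
  refine ⟨?_, ?_, fun m hm => ?_⟩
  · rw [conj_pow, conj_mul, h.four, mul_one, mul_inv_cancel]
  · rw [conj_pow, Ui_conj, card_map_of_injective g.injective, h.card]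
  · rw [conj_pow, MulAut.mul_apply, MulAut.mul_apply, ← MulEquiv.eq_symm_apply] at hm
    rw [MulAut.mul_apply, MulAut.mul_apply, h.fix _ hm]
    simp

theorem DD.exists_ne [hq : Fact q.Prime] {w : MulAut M} (h : DD q w) :
    ∃ m ∈ Ui (w ^ 2), m ≠ 1 := by
  by_contra h1
  push Not at h1
  have h2 := h.card
  rw [(eq_bot_iff_forall _).2 h1, card_bot] at h2
  exact (Nat.one_lt_pow two_ne_zero hq.out.one_lt).ne h2

theorem no_q [hq : Fact q.Prime] (h4 : q % 4 = 3) {w : MulAut M} {X : Subgroup M}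
    (hX : Nat.card X = q) (h1 : ∀ m ∈ X, w m ∈ X) (h2 : X ≤ Ui (w ^ 2)) : False := by
  have : Finite X := Nat.finite_of_card_ne_zero (hX ▸ hq.out.ne_zero)
  have : Nontrivial X := Finite.one_lt_card_iff_nontrivial.1 (hX ▸ hq.out.one_lt)
  obtain ⟨x, hx⟩ := exists_ne (1 : X)
  obtain ⟨r, hr⟩ := mem_powers_iff_mem_zpowers.2 (mem_zpowers_of_prime_card hX hx
    (g' := ⟨w x, h1 _ x.2⟩))
  have hr' : (x : M) ^ r = w x := congrArg Subtype.val hr
  have h3 := h2 x.2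
  rw [mem_Ui, sq_apply, ← hr', map_pow, ← hr', ← pow_mul, eq_inv_iff_mul_eq_one, ← pow_succ] at h3
  have h5 : orderOf x = q := orderOf_eq_prime (by rw [← hX]; exact pow_card_eq_one') hx
  have h6 : q ∣ r * r + 1 := h5 ▸ orderOf_dvd_of_pow_eq_one (Subtype.ext h3)
  refine ZMod.mod_four_ne_three_of_sq_eq_neg_one (p := q) (y := r) ?_ h4
  rw [eq_neg_iff_add_eq_zero, sq]
  exact_mod_cast (ZMod.natCast_eq_zero_iff _ _).2 h6

theorem DD.irr [Finite M] [hq : Fact q.Prime] (h4 : q % 4 = 3) {w : MulAut M} (h : DD q w)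
    {X : Subgroup M} (h1 : ∀ m ∈ X, w m ∈ X) :
    Ui (w ^ 2) ≤ X ∨ ∀ m ∈ X, w m = m := by
  have hd : Nat.card (X ⊓ Ui (w ^ 2) : Subgroup M) ∣ q ^ 2 := h.card ▸ card_dvd_of_le inf_le_right
  obtain ⟨k, hk, e⟩ := (Nat.dvd_prime_pow hq.out).1 hd
  interval_cases k
  · refine Or.inr fun m hm => ?_
    have h2 : w m * m⁻¹ ∈ X ⊓ Ui (w ^ 2) :=
      mem_inf.2 ⟨mul_mem (h1 m hm) (inv_mem hm), h.sub_mem m⟩
    rwa [card_eq_one.1 e, mem_bot, mul_inv_eq_one] at h2
  · exact (no_q h4 (by rw [e, pow_one]) (fun m hm => mem_inf.2 ⟨h1 m hm.1, h.mem hm.2⟩)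
      inf_le_right).elim
  · exact Or.inl (inf_eq_right.1 (eq_of_le_of_card_ge inf_le_right (by rw [e, h.card])))

/-- the alternative for two members of the class -/
def Alt (g h : MulAut M) : Prop :=
  g ^ 2 = h ^ 2 ∨ (g * h = h * g ∧ (∀ m ∈ Ui (g ^ 2), h m = m) ∧ ∀ m ∈ Ui (h ^ 2), g m = m)

theorem DD.sq_eq (ho : Od M) {g h : MulAut M} (hg : DD q g) (hh : DD q h)
    (e : Ui (g ^ 2) = Ui (h ^ 2)) {k : ℕ} (hk : (g ^ 2 * h ^ 2) ^ 2 ^ k = 1) : g ^ 2 = h ^ 2 := by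
  have := unip ho hk (U := Ui (g ^ 2)) (fun m hm => by
    rw [MulAut.mul_apply, mem_Ui.1 (e.le hm), map_inv, hm, inv_inv]) (fun m => by
    have := mul_mem (sub_mem_Ui hg.four ((h ^ 2) m)) (e.ge (sub_mem_Ui hh.four m))
    rwa [mul_assoc, inv_mul_cancel_left] at this)
  rw [eq_inv_of_mul_eq_one_left this, inv_eq_of_mul_eq_one_left hh.four]

theorem DD.alt_of_mem [Finite M] [hq : Fact q.Prime] (h4 : q % 4 = 3) (ho : Od M)
    {g h : MulAut M} (hg : DD q g) (hh : DD q h) (h1 : ∀ m ∈ Ui (g ^ 2), h m ∈ Ui (g ^ 2))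
    {k l : ℕ} (hk : (g ^ 2 * h ^ 2) ^ 2 ^ k = 1) (hl : (g * h * g⁻¹ * h⁻¹) ^ 2 ^ l = 1) :
    Alt g h := by
  rcases hh.irr h4 h1 with h2 | h2
  · exact Or.inl (hg.sq_eq ho hh (eq_of_le_of_card_ge h2 (by rw [hg.card, hh.card])).symm hk)
  have h2' : ∀ m ∈ Ui (g ^ 2), h⁻¹ m = m := fun m hm => by
    rw [MulAut.inv_apply, MulEquiv.symm_apply_eq, h2 m hm]
  have hg' : ∀ m ∈ Ui (g ^ 2), g⁻¹ m ∈ Ui (g ^ 2) := fun m hm =>
    apply_mem_Ui ((Commute.refl g).pow_right 2).inv_left.eq hm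
  have h3 : g * h = h * g := by
    have := unip ho hl (U := Ui (g ^ 2)) (fun m hm => by
      simp only [MulAut.mul_apply]
      rw [h2' m hm, h2 _ (hg' m hm), MulAut.apply_inv_self]) (fun m => by
      have a1 := h1 _ (inv_mem (hg.sub_mem (g⁻¹ (h⁻¹ m))))
      have a2 := mul_mem (hg.sub_mem (h (g⁻¹ (h⁻¹ m)))) a1
      simpa [mul_assoc] using a2)
    rwa [mul_inv_eq_one, mul_inv_eq_iff_eq_mul] at this
  rcases hg.irr h4 (X := Ui (h ^ 2)) (fun m hm =>
    apply_mem_Ui (Commute.pow_right h3 2).eq hm) with h5 | h5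
  · exact Or.inl (hg.sq_eq ho hh (eq_of_le_of_card_ge h5 (by rw [hg.card, hh.card])) hk)
  · exact Or.inr ⟨h3, h2, h5⟩

/-- if `a` moves `U` off itself then `Ui a` consists of the `a u / u` -/
theorem exists_sub [Finite M] {h : MulAut M} {U X : Subgroup M} (hc : Nat.card X ≤ Nat.card U)
    (h1 : ∀ m, h m * m⁻¹ ∈ X) (h2 : ∀ m ∈ U, h m = m → m = 1) {x : M} (hx : x ∈ X) :
    ∃ u ∈ U, h u * u⁻¹ = x := by
  let f : U → X := fun u => ⟨_, h1 u⟩
  have hi : Function.Injective f := fun a b e => by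
    have e' : h a * (a : M)⁻¹ = h b * (b : M)⁻¹ := congrArg Subtype.val e
    refine Subtype.ext (mul_inv_eq_one.1 (h2 _ (mul_mem a.2 (inv_mem b.2)) ?_))
    rw [map_mul, map_inv, eq_mul_of_mul_inv_eq e', mul_right_comm, mul_right_comm (h b),
      mul_inv_cancel, one_mul, mul_comm]
  obtain ⟨u, hu⟩ := ((Nat.bijective_iff_injective_and_card f).2
    ⟨hi, le_antisymm (Nat.card_le_card_of_injective f hi) hc⟩).2 ⟨x, hx⟩
  exact ⟨u, u.2, congrArg Subtype.val hu⟩

theorem alt_aux [Finite M] [hq : Fact q.Prime] (h4 : q % 4 = 3) (ho : Od M) (n : ℕ) :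
    ∀ {G : Type v} [Group G] [Finite G], Nat.card G = n → IsPGroup 2 G → ∀ f : G →* MulAut M,
      ∀ g h : G, DD q (f g) → DD q (f h) → Alt (f g) (f h) := by
  induction n using Nat.strong_induction_on with
  | _ n ih =>
  intro G _ _ hn hG f g h hg hh
  by_cases h1 : ∀ m ∈ Ui (f g ^ 2), f h m ∈ Ui (f g ^ 2)
  · obtain ⟨k, hk⟩ := hG (g ^ 2 * h ^ 2)
    obtain ⟨l, hl⟩ := hG (g * h * g⁻¹ * h⁻¹)
    exact hg.alt_of_mem h4 ho hh h1 (k := k) (l := l) (by simpa using congrArg f hk)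
      (by simpa using congrArg f hl)
  exfalso
  rcases eq_top_or_exists_le_coatom (zpowers g) with h2 | ⟨P, hP, hgP⟩
  · obtain ⟨i, rfl⟩ := h2.ge (mem_top h)
    exact h1 fun m hm => apply_mem_Ui (by
      rw [← map_pow, ← map_mul, ← map_mul]
      exact congrArg f (((Commute.refl g).zpow_left i).pow_right 2).eq) hm
  have := hG.isNilpotent
  have hPn : P.Normal := NormalizerCondition.normal_of_coatom P
    Group.normalizerCondition_of_isNilpotent hP
  have hgP' : g ∈ P := hgP (mem_zpowers g)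
  have hlt : Nat.card P < n := by
    obtain ⟨x, -, hx⟩ := SetLike.exists_of_lt hP.lt_top
    exact hn ▸ Finite.card_subtype_lt hx
  have key : ∀ a : G, DD q (f a) → a ∈ P → Alt (f a) (f h * f a * (f h)⁻¹) := fun a ha haP => by
    have := ih _ hlt rfl (hG.to_subgroup P) (f.comp P.subtype) ⟨a, haP⟩
      ⟨_, hPn.conj_mem a haP h⟩ ha (by simpa using ha.conj (f h))
    simpa using this
  have k1 := key g hg hgP'
  have k2 := key (h * g * h⁻¹) (by simpa using hg.conj (f h)) (hPn.conj_mem g hgP' h)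
  simp only [map_mul, map_inv] at k2
  rcases k1 with k1 | ⟨-, k1, k1'⟩
  · exact h1 fun m hm => by rw [k1, conj_pow]; exact apply_mem_Ui_conj.2 hm
  rcases k2 with k2 | ⟨-, -, k2⟩
  · refine h1 fun m hm => ?_
    rw [conj_pow, conj_pow, conj_pow, mul_left_inj, mul_right_inj] at k2
    rw [k2]; exact apply_mem_Ui_conj.2 hm
  simp only [conj_pow] at k1' k2
  have hinj : ∀ m ∈ Ui (f g ^ 2), f h m = m → m = 1 := fun m hm e => by
    have := k1' _ (apply_mem_Ui_conj.2 hm)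
    rw [e] at this
    exact ho.fix_Ui hm (by rw [sq_apply, this, this])
  obtain ⟨v, hv, hv1⟩ := hh.exists_ne
  obtain ⟨u, hu, rfl⟩ := exists_sub (by rw [hg.card, hh.card]) hh.sub_mem hinj hv
  obtain ⟨u', hu', e⟩ := exists_sub (by rw [hg.card, hh.card]) hh.sub_mem hinj (hh.mem hv)
  have e1 : f h (u * u') = f h (f h u) * u' := by
    rw [map_mul, map_inv] at e
    rw [map_mul, eq_mul_of_mul_inv_eq e, ← mul_assoc, mul_comm (f h u), inv_mul_cancel_right]
  have e2 : (f h * f g * (f h)⁻¹) (f h (u * u')) = f h (u * u') := by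
    rw [e1, map_mul, k1 _ hu', k2 _ (apply_mem_Ui_conj.2 (apply_mem_Ui_conj.2 hu))]
  have e3 : u * u' = 1 := by
    simp only [MulAut.mul_apply, MulAut.inv_apply_self, EmbeddingLike.apply_eq_iff_eq] at e2
    exact ho.fix_Ui (mul_mem hu hu') (by rw [sq_apply, e2, e2])
  have e4 : f h (f h u) = u := by
    rw [e3, map_one] at e1
    rw [eq_inv_of_mul_eq_one_left e1.symm, eq_inv_of_mul_eq_one_left e3]
  exact hv1 (ho.fix_Ui hv (by rw [sq_apply, map_mul, map_mul, map_inv, map_inv, e4]))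

/-- two members of the class in a `2`-group -/
theorem DD.alt [Finite M] [Fact q.Prime] (h4 : q % 4 = 3) (ho : Od M) {P : Subgroup (MulAut M)}
    (hP : IsPGroup 2 P) {g h : MulAut M} (hg : DD q g) (hh : DD q h) (h1 : g ∈ P) (h2 : h ∈ P) :
    Alt g h :=
  alt_aux h4 ho _ rfl hP P.subtype ⟨g, h1⟩ ⟨h, h2⟩ hg hh

end Cfsg.Lib.HH.Two
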