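import Cfsg.Agent.Lib.HH.TwoS
import Cfsg.Agent.Lib.HH.Std
import Cfsg.Agent.Lib.PGrp.Critical
import Cfsg.Agent.Lib.Core.Fitting

/-!
# Local data for groups acting on a module of characteristic two with small minimal polynomials
-/

set_option autoImplicit false

namespace Cfsg.Lib.HH.Two

open Subgroup Module Cfsg.Lib.Core
open scoped commutatorElement

universe u v

/-- a local datum: a subgroup acting on an abelian group of odd order -/
structure Dat {H : Type u} [Group H] {M : Type u} [CommGroup M] (e q : ℕ) (Γ : Subgroup H)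
    (φ : H → MulAut M) : Prop where
  prime : q.Prime
  od : Od M
  mul : ∀ a ∈ Γ, ∀ b ∈ Γ, φ (a * b) = φ a * φ b
  mem : ∀ x : H, x ^ 2 ^ (e + 1) = 1 → x ^ 2 ^ e ∈ Γ
  str : ∀ x : H, x ^ 2 ^ (e + 1) = 1 → φ (x ^ 2 ^ e) ≠ 1 → ∃ k i, e = k + i + 1 ∧
    q + 1 = 2 ^ (i + 2) ∧ x ^ 2 ^ k ∈ Γ ∧ Nat.card (Ui (φ (x ^ 2 ^ e))) = q ^ 2 ∧
    ∀ m, φ (x ^ 2 ^ e) m = m → φ (x ^ 2 ^ k) m = m
  pm : ∀ y ∈ Γ, φ y * φ y = 1 → Nat.card (Ui (φ y)) = q ^ 2 → ∀ g ∈ Γ,
    (∀ m ∈ Ui (φ y), φ g m ∈ Ui (φ y)) → (∀ m ∈ Ui (φ y), φ g (φ g m) = m) →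
    (∀ m ∈ Ui (φ y), φ g m = m) ∨ ∀ m ∈ Ui (φ y), φ g m = m⁻¹

/-- the local data detect `2`-elements -/
def Faith (H : Type u) [Group H] (e : ℕ) : Prop :=
  ∀ t : H, (∃ k, t ^ 2 ^ k = 1) → (∀ (M : Type u) [CommGroup M] [Finite M] (q : ℕ) (Γ : Subgroup H)
    (φ : H → MulAut M), Dat e q Γ φ → t ∈ Γ ∧ φ t = 1) → t = 1

variable {H : Type u} [Group H]

section Mul

variable {A : Type*} [Group A] {Γ : Subgroup H} {φ : H → A}
  (h : ∀ a ∈ Γ, ∀ b ∈ Γ, φ (a * b) = φ a * φ b)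
include h

theorem pm_one : φ 1 = 1 := by simpa using h 1 (one_mem _) 1 (one_mem _)

theorem pm_inv {a : H} (ha : a ∈ Γ) : φ a⁻¹ = (φ a)⁻¹ :=
  eq_inv_of_mul_eq_one_left (by rw [← h _ (inv_mem ha) _ ha, inv_mul_cancel, pm_one h])

theorem pm_pow {a : H} (ha : a ∈ Γ) (i : ℕ) : φ (a ^ i) = φ a ^ i := by
  induction i with
  | zero => simpa using pm_one h
  | succ i ih => rw [pow_succ, h _ (pow_mem ha i) _ ha, ih, pow_succ]

end Mul

section Ex

variable {K : Type*} [Field K] {V : Type*} [AddCommGroup V] [Module K V] [FiniteDimensional K V]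

theorem exists_irr_ne {Q : Type*} [Group Q] [Finite Q] (hQ : (Nat.card Q : K) ≠ 0)
    (ρ : Q →* End K V) {d : Q} (hd : ρ d ≠ 1) :
    ∃ (W : Submodule K V) (hW : ∀ g, ∀ u ∈ W, ρ g u ∈ W), Irr (sub ρ W hW) ∧ sub ρ W hW d ≠ 1 := by
  set N := normalClosure {d}
  have := Fintype.ofFinite N
  have hdN : d ∈ N := subset_normalClosure rfl
  have hs : (∑ k : N, ρ k) * ρ d = ∑ k : N, ρ k := by
    rw [Finset.sum_mul]
    exact Fintype.sum_equiv (Equiv.mulRight ⟨d, hdN⟩) _ _ fun k => by simp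
  obtain ⟨W, hW, hle, hirr⟩ := exists_irr_le ρ (LinearMap.ker (∑ k : N, ρ k)) (by
    intro h0
    apply hd
    ext v
    have : ρ d v - v ∈ LinearMap.ker (∑ k : N, ρ k) := by
      rw [LinearMap.mem_ker, map_sub, ← Module.End.mul_apply, hs, sub_self]
    rwa [h0, Submodule.mem_bot, sub_eq_zero] at this) (fun g u hu => by
      rw [LinearMap.mem_ker] at hu ⊢
      have e : (∑ k : N, ρ k) * ρ g = ρ g * ∑ k : N, ρ k := by
        rw [Finset.sum_mul, Finset.mul_sum]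
        exact (Fintype.sum_equiv (MulAut.conjNormal g).toEquiv _ _ fun k => by
          simp [← map_mul]).symm
      rw [← Module.End.mul_apply, e, Module.End.mul_apply, hu, map_zero])
  refine ⟨W, hW, hirr, fun h1 => ?_⟩
  have := hirr.1
  obtain ⟨u, hu⟩ := exists_ne (0 : W)
  have h2 := hle u.2
  have h4 : N ≤ (sub ρ W hW).ker := normalClosure_le_normal (by rintro _ rfl; exact h1)
  have h3 : ∀ k : N, ρ k u = u := fun k => by
    rw [← sub_apply ρ W hW, h4 k.2]; rfl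
  rw [LinearMap.mem_ker, LinearMap.sum_apply] at h2
  simp only [h3, Finset.sum_const, Finset.card_univ] at h2
  rw [← Nat.cast_smul_eq_nsmul K, ← Nat.card_eq_fintype_card] at h2
  rcases smul_eq_zero.1 h2 with h5 | h5
  · exact hQ (by rw [← N.card_mul_index, Nat.cast_mul, h5, zero_mul])
  · exact hu (Subtype.ext h5)

variable [IsAlgClosed K] [CharP K 2] [Finite H]

theorem exists_dat (ρ : H →* End K V) {e : ℕ}
    (hexp : ∀ x : H, x ^ 2 ^ (e + 1) = 1 → (ρ x - 1) ^ (2 ^ (e + 1) - 1) = 0) {q : ℕ}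
    [hq : Fact q.Prime] (hq2 : q ≠ 2) {Q : Subgroup H} [Q.Normal] (hQ : IsPGroup q Q)
    (hc : ∀ a b : Q, ⁅a, b⁆ ∈ center Q) {W : Type*} [AddCommGroup W] [Module K W]
    [FiniteDimensional K W] {σ : Q →* End K W} (hσ : Irr σ) {ι : W →ₗ[K] V}
    (hι : Tw σ (ρ.comp Q.subtype) ι) (h0 : ι ≠ 0) :
    ∃ (M : Type u) (_ : CommGroup M) (_ : Finite M) (Γ : Subgroup H) (φ : H → MulAut M),
      Dat e q Γ φ ∧ ∀ t ∈ Γ, φ t = 1 → (∃ k, t ^ 2 ^ k = 1) →
        ∀ a, σ (MulAut.conjNormal t a) = σ a := by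
  have := Fintype.ofFinite Q
  have hQK : (Fintype.card Q : K) ≠ 0 := by
    obtain ⟨k, hk⟩ := hQ.exists_card_eq
    rw [← Nat.card_eq_fintype_card, hk, Nat.cast_pow]
    refine pow_ne_zero _ ?_
    rw [Ne, CharP.cast_eq_zero_iff K 2]
    exact fun h => hq2 ((Nat.prime_dvd_prime_iff_eq Nat.prime_two hq.out).1 h).symm
  let Γ : Subgroup H :=
    { carrier := {g | ∀ a, ch σ (MulAut.conjNormal g a) = ch σ a}
      one_mem' := fun a => by simp
      mul_mem' := fun {a b} ha hb c => by rw [map_mul, MulAut.mul_apply, ha, hb]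
      inv_mem' := fun {a} ha c => by rw [← ha, map_inv, MulAut.apply_inv_self] }
  have hP : ∀ g ∈ Γ, Pres σ (MulAut.conjNormal g) := fun g hg => pres_of_ch hσ hQK hg
  letI : CommGroup (Q ⧸ sc σ) :=
    { QuotientGroup.Quotient.group (sc σ) with
      mul_comm := fun a b => by
        obtain ⟨a, rfl⟩ := QuotientGroup.mk_surjective a
        obtain ⟨b, rfl⟩ := QuotientGroup.mk_surjective b
        exact commutatorElement_eq_one_iff_mul_comm.1
          ((QuotientGroup.eq_one_iff ⁅a, b⁆).2 (center_le_sc σ (hc a b))) }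
  let π : Q →* Q ⧸ sc σ := QuotientGroup.mk' _
  have h : Quo σ π := ⟨QuotientGroup.mk'_surjective _, fun a => QuotientGroup.eq_one_iff a, hc,
    fun a ha => by
      obtain ⟨k, hk⟩ := hQ a
      rw [← orderOf_eq_one_iff]
      exact Nat.eq_one_of_dvd_coprimes (((Nat.coprime_primes Nat.prime_two hq.out).2
        hq2.symm).pow_right k) (orderOf_dvd_of_pow_eq_one (by rwa [sq]))
        (orderOf_dvd_of_pow_eq_one hk)⟩
  have hφ : ∀ g : H, ∃ b : MulAut (Q ⧸ sc σ), g ∈ Γ → ∀ a, π (MulAut.conjNormal g a) = b (π a) := by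
    intro g
    by_cases hg : g ∈ Γ
    · exact ⟨QuotientGroup.congr (sc σ) (sc σ) (MulAut.conjNormal g) (le_antisymm
        (map_le_iff_le_comap.2 fun z hz => (hP g hg).mem hz) fun z hz =>
          ⟨_, (hP _ (inv_mem hg)).mem hz, by simp⟩), fun _ _ => rfl⟩
    · exact ⟨1, fun h => (hg h).elim⟩
  choose φ hφ using hφ
  have hmul : ∀ a ∈ Γ, ∀ b ∈ Γ, φ (a * b) = φ a * φ b := fun a ha b hb => MulEquiv.ext fun m => by
    obtain ⟨c, rfl⟩ := h.surj m
    rw [← hφ _ (mul_mem ha hb), MulAut.mul_apply, ← hφ b hb, ← hφ a ha, map_mul, MulAut.mul_apply]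
  have key : ∀ x : H, x ^ 2 ^ (e + 1) = 1 → ∃ k j, e = k + j ∧ x ^ 2 ^ k ∈ Γ ∧ ∃ Z : End K W,
      Z ^ 2 ^ (j + 1) = 1 ∧ (∀ g, Z * σ g = σ (MulAut.conjNormal (x ^ 2 ^ k) g) * Z) ∧
      (Z - 1) ^ (2 ^ (j + 1) - 1) = 0 := fun x hx => by
    obtain ⟨k, hk, h1, -, Z, h2, h3, h4⟩ := hσ.orbit (p := 2) hQK hι h0 (X := ρ x)
      (α := MulAut.conjNormal x) (fun g => by simp [← map_mul]) (n := e + 1)
      (by rw [← map_pow, hx, map_one]) (by rw [← map_pow, hx, map_one])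
    rw [← map_pow] at h1 h3
    have := hσ.1
    have hpos : 0 < 2 ^ (e + 1) := by positivity
    rcases hk.eq_or_lt with rfl | hk
    · have := h4 _ 0 (hexp x hx) (by rw [pow_zero]; exact one_ne_zero)
      omega
    obtain ⟨j, rfl⟩ : ∃ j, e = k + j := ⟨e - k, by omega⟩
    rw [show k + j + 1 - k = j + 1 by omega] at h2
    refine ⟨k, j, rfl, h1, Z, h2, h3, ?_⟩
    by_contra h5
    have := h4 _ _ (hexp x hx) h5
    rw [Nat.sub_add_cancel Nat.one_le_two_pow, ← pow_add, ← add_assoc] at this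
    omega
  refine ⟨_, inferInstance, inferInstance, Γ, φ, ⟨hq.out, h.odM, hmul, fun x hx => ?_,
    fun x hx hy => ?_, fun y hy h1 h2 g hg => pm_of_sq h.odM h.self_mem h.eq_one h1
      (h.orth (hP y hy) (hφ y hy)) (h.orth (hP g hg) (hφ g hg)) hq.out h2⟩, ?_⟩
  · obtain ⟨k, j, rfl, h1, -⟩ := key x hx
    rw [pow_add, pow_mul]
    exact pow_mem h1 _
  · obtain ⟨k, j, rfl, h1, Z, h2, h3, h4⟩ := key x hx
    rw [pow_add, pow_mul, pm_pow hmul h1] at hy ⊢
    obtain ⟨i, rfl, h5⟩ := h.struct hσ hQ hq2 h3 h2 (by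
      rw [← map_pow, ← pow_mul, ← pow_add, ← add_assoc, hx, map_one]) h4 (hφ _ h1) hy
    exact ⟨k, i, rfl, h5.1, h1, h5.2⟩
  · rintro t ht h1 ⟨k, hk⟩ a
    obtain ⟨z, hz, e1⟩ := h.exists_mul ((hφ t ht a).trans (by rw [h1]; rfl))
    have e2 : ∀ i : ℕ, σ.toHomUnits ((MulAut.conjNormal t ^ i) a) =
        σ.toHomUnits a * σ.toHomUnits (z ^ i) := fun i => by
      induction i with
      | zero => simp
      | succ i ih =>
        rw [pow_succ, MulAut.mul_apply, e1, map_mul, map_mul, ih, pow_succ, map_mul, mul_assoc]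
        exact congrArg _ (congrArg _ (Units.ext (((hP t ht).pow i) z hz)))
    have e3 := e2 (2 ^ k)
    rw [← map_pow, hk, map_one, MulAut.one_apply, left_eq_mul] at e3
    have e4 : ∀ k : ℕ, σ.toHomUnits (z ^ 2 ^ k) = 1 → σ.toHomUnits z = 1 := fun k => by
      induction k with
      | zero => simp
      | succ k ih => exact fun h2 => ih (h.od.hom _ (by rwa [← map_mul, ← sq, ← pow_mul]))
    rw [e1, map_mul, show σ z = 1 from congrArg Units.val (e4 k e3), mul_one]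

theorem faith_closed [Group.IsSolvable H] (hO : pCore 2 H = ⊥) (ρ : H →* End K V)
    (hf : ∀ g, ρ g = 1 → g = 1) {e : ℕ}
    (hexp : ∀ x : H, x ^ 2 ^ (e + 1) = 1 → (ρ x - 1) ^ (2 ^ (e + 1) - 1) = 0) : Faith H e := by
  rintro t ⟨k, hk⟩ ht
  have hT := isPGroup_zpowers_of_pow_eq_one hk
  have h1 : fittingSubgroup H ≤ centralizer (zpowers t : Set H) := by
    refine fitting_le_of_forall_pCore_le fun q hq => ?_
    have := Fact.mk hq
    by_cases hq2 : q = 2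
    · rw [hq2, hO]; exact bot_le
    by_cases h0 : pCore q H = ⊥
    · rw [h0]; exact bot_le
    obtain ⟨Q, hQ, hn, -, hc, -, h2⟩ := PGrp.exists_critical_odd hq2 (isPGroup_pCore q H) h0
    rw [normalizer_eq_top] at hn h2
    have : Q.Normal := normalizer_eq_top_iff.1 (top_le_iff.1 hn)
    have hQq := (isPGroup_pCore q H).to_le hQ
    rw [le_centralizer_iff]
    refine h2 _ le_top ?_ (zpowers_le.2 fun a ha => ?_)
    · obtain ⟨m, hm⟩ := hT.exists_card_eq
      rw [hm]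
      exact ((Nat.coprime_primes Nat.prime_two hq).2 (Ne.symm hq2)).pow_left _
    by_contra h3
    obtain ⟨W, hW, hirr, h4⟩ := exists_irr_ne (K := K) (by
        obtain ⟨m, hm⟩ := hQq.exists_card_eq
        rw [hm, Nat.cast_pow]
        refine pow_ne_zero _ ?_
        rw [Ne, CharP.cast_eq_zero_iff K 2]
        exact fun h => hq2 ((Nat.prime_dvd_prime_iff_eq Nat.prime_two hq).1 h).symm)
      (ρ.comp Q.subtype) (d := MulAut.conjNormal t ⟨a, ha⟩ * ⟨a, ha⟩⁻¹) (fun h => h3 (by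
        have := hf _ h
        simp only [coe_subtype, coe_mul, MulAut.conjNormal_apply, coe_inv] at this
        rw [mul_inv_eq_one, mul_inv_eq_iff_eq_mul] at this
        exact this.symm))
    obtain ⟨M, _, _, Γ, φ, h5, h6⟩ := exists_dat ρ hexp hq2 hQq (fun a b => mem_center_iff.2
      fun c => Subtype.ext ((hc (commutator_mem_commutator a.2 (hQ b.2))).2 c c.2)) hirr
      (tw_sub _ W hW) (fun h => by
        have := hirr.1
        obtain ⟨u, hu⟩ := exists_ne (0 : W)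
        exact hu (Subtype.ext (congrArg (fun f : W →ₗ[K] V => f u) h)))
    obtain ⟨h7, h8⟩ := ht M q Γ φ h5
    exact h4 (by rw [map_mul, h6 t h7 h8 ⟨k, hk⟩, ← map_mul, mul_inv_cancel, map_one])
  have h2 : t ∈ zpowers t ⊓ pPrimeCore 2 H := ⟨mem_zpowers t,
    fitting_le_pPrimeCore_of_pCore_eq_bot Nat.prime_two hO
      (centralizer_fitting_le (le_centralizer_iff.1 h1 (mem_zpowers t)))⟩
  rwa [inf_eq_bot_of_isPGroup_of_coprime Nat.prime_two hT (coprime_card_pPrimeCore 2 H),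
    mem_bot] at h2

end Ex

/-- the quotient by the `2`-core in the standard situation -/
theorem Std.faith {G : Type u} [Group G] [Finite G] [Group.IsSolvable G] (h : Std 2 G) {e : ℕ}
    (hexp : ∀ x : G, (∃ k, x ^ 2 ^ k = 1) → x ^ 2 ^ (e + 1) = 1) : Faith (G ⧸ pCore 2 G) e := by
  have := Fact.mk h.elem
  have hk : ∀ g ∈ pCore 2 G, nrep 2 (pCore 2 G) g = 1 := fun g hg =>
    BG1.erep_eq_one_iff.2 (le_centralizer_iff_isMulCommutative.2 h.elem.1 hg)
  have h2 : ∀ x : G, (x : G ⧸ pCore 2 G) ^ 2 ^ (e + 1) = 1 → x ^ 2 ^ (e + 1) = 1 := fun x hx => by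
    obtain ⟨k, hk⟩ := isPGroup_pCore 2 G ⟨_, (QuotientGroup.eq_one_iff (x ^ 2 ^ (e + 1))).1 hx⟩
    exact hexp x ⟨e + 1 + k, by rw [pow_add, pow_mul]; exact congrArg Subtype.val hk⟩
  refine faith_closed pCore_quotient_pCore ((BG1.extEnd (AlgebraicClosure (ZMod 2)) _).toMonoidHom.comp
    (QuotientGroup.lift (pCore 2 G) _ hk)) (fun g hg => ?_) fun x hx => ?_
  · obtain ⟨g, rfl⟩ := QuotientGroup.mk_surjective g
    exact (QuotientGroup.eq_one_iff _).2 (h.cent (nrep_eq_one_iff.1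
      (BG1.extEnd_injective (AlgebraicClosure (ZMod 2)) _ (hg.trans (map_one _).symm))))
  · obtain ⟨x, rfl⟩ := QuotientGroup.mk_surjective x
    have : (nrep 2 (pCore 2 G) x - 1) ^ (2 ^ (e + 1) - 1) = 0 := by
      rw [sub_one_pow_eq_sum (K := ZMod 2) 2]
      ext v
      have h1 := mul_pow_eq x v (2 ^ (e + 1))
      rw [h2 x hx, mul_one, h2 _ (by
        rwa [QuotientGroup.mk_mul, (QuotientGroup.eq_one_iff _).2 v.val_mem, one_mul])] at h1
      exact BG1.EV.val_eq_one.1 h1.symm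
    have h3 := congrArg (BG1.extEnd (AlgebraicClosure (ZMod 2)) _) this
    rw [map_pow, map_sub, map_one, map_zero] at h3
    exact h3

section K2

variable {M : Type u} [CommGroup M] {e q : ℕ} {Γ : Subgroup H} {φ : H → MulAut M}

/-- the image of a subgroup -/
def Dat.img (d : Dat e q Γ φ) (P : Subgroup H) : Subgroup (MulAut M) where
  carrier := {a | ∃ x ∈ P, x ∈ Γ ∧ φ x = a}
  one_mem' := ⟨1, one_mem _, one_mem _, pm_one d.mul⟩
  mul_mem' := by
    rintro _ _ ⟨a, h1, h2, rfl⟩ ⟨b, h3, h4, rfl⟩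
    exact ⟨a * b, mul_mem h1 h3, mul_mem h2 h4, d.mul _ h2 _ h4⟩
  inv_mem' := by
    rintro _ ⟨a, h1, h2, rfl⟩
    exact ⟨a⁻¹, inv_mem h1, inv_mem h2, pm_inv d.mul h2⟩

theorem Dat.mem_img (d : Dat e q Γ φ) {P : Subgroup H} {x : H} (h1 : x ∈ P) (h2 : x ∈ Γ) :
    φ x ∈ d.img P := ⟨x, h1, h2, rfl⟩

theorem Dat.pgroup (d : Dat e q Γ φ) {P : Subgroup H} (hP : IsPGroup 2 P) :
    IsPGroup 2 (d.img P) := by
  rintro ⟨_, x, h1, h2, rfl⟩
  obtain ⟨k, hk⟩ := hP ⟨x, h1⟩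
  exact ⟨k, Subtype.ext (show φ x ^ 2 ^ k = 1 by
    rw [← pm_pow d.mul h2, show x ^ 2 ^ k = 1 from congrArg Subtype.val hk, pm_one d.mul])⟩

theorem Dat.conj (d : Dat e q Γ φ) {a b : H} (ha : a ∈ Γ) (hb : b ∈ Γ) :
    φ (a * b * a⁻¹) = φ a * φ b * (φ a)⁻¹ := by
  rw [d.mul _ (mul_mem ha hb) _ (inv_mem ha), d.mul _ ha _ hb, pm_inv d.mul ha]

theorem Dat.comm (d : Dat e q Γ φ) {a b : H} (ha : a ∈ Γ) (hb : b ∈ Γ) :
    φ ⁅a, b⁆ = ⁅φ a, φ b⁆ := by
  rw [commutatorElement_def, d.mul _ (mul_mem (mul_mem ha hb) (inv_mem ha)) _ (inv_mem hb),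
    d.conj ha hb, pm_inv d.mul hb, commutatorElement_def]

theorem Dat.norm (d : Dat e q Γ φ) {P : Subgroup H} {g : H} (h1 : g ∈ normalizer (P : Set H))
    (h2 : g ∈ Γ) : φ g ∈ normalizer (d.img P : Set (MulAut M)) := by
  have key : ∀ g ∈ normalizer (P : Set H), g ∈ Γ → ∀ a ∈ d.img P, φ g * a * (φ g)⁻¹ ∈ d.img P := by
    rintro g h1 h2 _ ⟨x, h3, h4, rfl⟩
    exact ⟨_, (mem_normalizer_iff.1 h1 x).1 h3, mul_mem (mul_mem h2 h4) (inv_mem h2), d.conj h2 h4⟩
  refine mem_normalizer_iff.2 fun a => ⟨key g h1 h2 a, fun ha => ?_⟩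
  simpa [pm_inv d.mul h2, mul_assoc] using key _ (inv_mem h1) (inv_mem h2) _ ha

theorem Dat.inv2 (d : Dat e q Γ φ) {x : H} (hx : x ^ 2 ^ (e + 1) = 1) :
    φ (x ^ 2 ^ e) * φ (x ^ 2 ^ e) = 1 := by
  rw [← d.mul _ (d.mem x hx) _ (d.mem x hx), ← sq, ← pow_mul, ← pow_succ, hx, pm_one d.mul]

theorem fix_pow {f : MulAut M} {m : M} (h : f m = m) (i : ℕ) : (f ^ i) m = m := by
  induction i with
  | zero => rfl
  | succ i ih => rw [pow_succ, MulAut.mul_apply, h, ih]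

theorem Dat.dd (d : Dat e q Γ φ) {x : H} (hx : x ^ 2 ^ (e + 1) = 1) (hy : φ (x ^ 2 ^ e) ≠ 1) :
    q % 4 = 3 ∧ x ^ 2 ^ (e - 1) ∈ Γ ∧ φ (x ^ 2 ^ (e - 1)) ^ 2 = φ (x ^ 2 ^ e) ∧
      DD q (φ (x ^ 2 ^ (e - 1))) := by
  obtain ⟨k, i, rfl, h1, h2, h3, h4⟩ := d.str x hx hy
  have h5 : x ^ 2 ^ (k + i) ∈ Γ := by rw [pow_add, pow_mul]; exact pow_mem h2 _
  have h6 : φ (x ^ 2 ^ (k + i)) ^ 2 = φ (x ^ 2 ^ (k + i + 1)) := by
    rw [← pm_pow d.mul h5, ← pow_mul, ← pow_succ]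
  refine ⟨by rw [pow_add] at h1; omega, h5, h6, ?_⟩
  rw [Nat.add_sub_cancel]
  refine ⟨by rw [h6]; exact d.inv2 hx, by rw [h6, h3], fun m hm => ?_⟩
  rw [pow_add, pow_mul, pm_pow d.mul h2]
  exact fix_pow (h4 m (h6 ▸ hm)) _

/-- the subgroup generated by the `2 ^ e`-th powers of `2`-elements -/
def Yy (e : ℕ) (L : Subgroup H) : Subgroup H :=
  closure {y | ∃ x ∈ L, x ^ 2 ^ (e + 1) = 1 ∧ x ^ 2 ^ e = y}

theorem mem_Yy {L : Subgroup H} {x : H} (h : x ∈ L) (hx : x ^ 2 ^ (e + 1) = 1) :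
    x ^ 2 ^ e ∈ Yy e L := subset_closure ⟨x, h, hx, rfl⟩

theorem Yy_le {L X : Subgroup H} (h : ∀ x ∈ L, x ^ 2 ^ (e + 1) = 1 → x ^ 2 ^ e ∈ X) :
    Yy e L ≤ X := (closure_le _).2 (by rintro _ ⟨x, h1, h2, rfl⟩; exact h x h1 h2)

theorem Yy_le_self (L : Subgroup H) : Yy e L ≤ L := Yy_le fun _ h _ => pow_mem h _

theorem le_norm_Yy (L : Subgroup H) : L ≤ normalizer (Yy e L : Set H) := by
  have key : ∀ g ∈ L, ∀ a ∈ Yy e L, g * a * g⁻¹ ∈ Yy e L := fun g hg =>
    (Yy_le fun x h hx => by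
      rw [mem_comap, map_pow]
      exact mem_Yy (mul_mem (mul_mem hg h) (inv_mem hg)) (by
        rw [MulEquiv.toMonoidHom_eq_coe, ← map_pow, hx, map_one]) :
      Yy e L ≤ (Yy e L).comap (MulAut.conj g).toMonoidHom)
  refine fun g hg => mem_normalizer_iff.2 fun a => ⟨key g hg a, fun ha => ?_⟩
  simpa [mul_assoc] using key _ (inv_mem hg) _ ha

theorem Dat.Yy_le (d : Dat e q Γ φ) (L : Subgroup H) : Yy e L ≤ Γ := Two.Yy_le fun x _ => d.mem x

theorem Dat.comm_mem [Finite M] [Finite H] (d : Dat e q Γ φ) {L T : Subgroup H} (hT : IsPGroup 2 T)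
    (hL : L ≤ normalizer (T : Set H)) (hTΓ : T ≤ Γ) {g : H} (hg : g ∈ Yy e L) :
    ∀ t ∈ d.img T, ⁅t, φ g⁆ ∈ (frattini (d.img T)).map (d.img T).subtype := by
  have := Fact.mk d.prime
  have hn : ∀ g ∈ Yy e L, φ g ∈ normalizer
      (((frattini (d.img T)).map (d.img T).subtype : Subgroup _) : Set (MulAut M)) := fun g hg =>
    normalizer_le_normalizer_map_subtype _ (d.norm (hL (Yy_le_self L hg)) (d.Yy_le L hg))
  induction hg using closure_induction with
  | mem y hy =>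
    obtain ⟨x, hxL, hx, rfl⟩ := hy
    rintro _ ⟨t, ht, htΓ, rfl⟩
    by_cases hy : φ (x ^ 2 ^ e) = 1
    · rw [hy, commutatorElement_one_right]; exact one_mem _
    obtain ⟨h4, h1, h2, h3⟩ := d.dd hx hy
    have hP := d.pgroup (Amalg.isPGroup_sup_of_le_normalizer' hT
      (isPGroup_zpowers_of_pow_eq_one hx) (zpowers_le.2 (hL hxL)))
    have m1 := d.mem_img (mem_sup_left (T := zpowers x) ht) htΓ
    have m2 := d.mem_img (mem_sup_right (S := T) (npow_mem_zpowers x (2 ^ (e - 1)))) h1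
    rw [← h2]
    rcases DD.alt h4 d.od hP (h3.conj (φ t)) h3 (mul_mem (mul_mem m1 m2) (inv_mem m1)) m2 with
      h5 | ⟨h5, -⟩
    · rw [commutatorElement_def, ← conj_pow, h5, mul_inv_cancel]; exact one_mem _
    · have h6 : ⁅t, x ^ 2 ^ (e - 1)⁆ ∈ T := Coprime.commutator_le_of_le_normalizer hL
        (commutator_mem_commutator ht (pow_mem hxL _))
      have := pow_mem_frattiniOf (d.pgroup hT) (d.mem_img h6 (hTΓ h6))
      rwa [d.comm htΓ h1, commutatorElement_def, (Commute.inv_right h5).mul_pow, conj_pow,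
        inv_pow] at this
  | one => intro t _; rw [pm_one d.mul, commutatorElement_one_right]; exact one_mem _
  | mul a b ha hb iha ihb =>
    intro t ht
    have : ⁅t, φ a * φ b⁆ = ⁅t, φ a⁆ * (φ a * ⁅t, φ b⁆ * (φ a)⁻¹) := by
      simp only [commutatorElement_def]; group
    rw [d.mul _ (d.Yy_le L ha) _ (d.Yy_le L hb), this]
    exact mul_mem (iha t ht) ((mem_normalizer_iff.1 (hn a ha) _).1 (ihb t ht))
  | inv a ha iha =>
    intro t ht
    have : ⁅t, (φ a)⁻¹⁆ = (φ a)⁻¹ * ⁅t, φ a⁆⁻¹ * (φ a)⁻¹⁻¹ := by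
      simp only [commutatorElement_def]; group
    rw [pm_inv d.mul (d.Yy_le L ha), this]
    exact (mem_normalizer_iff.1 (inv_mem (hn a ha)) _).1 (inv_mem (iha t ht))

theorem Faith.cent [Finite H] (hF : Faith H e) {L T : Subgroup H} (hT : IsPGroup 2 T)
    (hL : L ≤ normalizer (T : Set H)) (hTL : T ≤ L) {a : H} (ha : a ∈ Yy e L)
    (ho : (orderOf a).Coprime 2) : a ∈ centralizer (T : Set H) := by
  have hT₁ : IsPGroup 2 (T ⊓ Yy e L : Subgroup H) := hT.to_inf_left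
  have hL₁ : L ≤ normalizer ((T ⊓ Yy e L : Subgroup H) : Set H) :=
    le_normalizer_inf hL (le_norm_Yy L)
  have haL := zpowers_le.2 (Yy_le_self L ha)
  have h1 : T ⊓ Yy e L ≤ centralizer (zpowers a : Set H) := by
    rw [le_centralizer_iff, zpowers_le]
    intro t ht
    have h2 : ⁅t, a⁆ ∈ T ⊓ Yy e L := Coprime.commutator_le_of_le_normalizer hL₁
      (commutator_mem_commutator ht (Yy_le_self L ha))
    refine commutatorElement_eq_one_iff_mul_comm.1 (hF _ ((hT₁ ⟨_, h2⟩).imp fun k hk =>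
      congrArg Subtype.val hk) fun M _ _ q Γ φ d => ⟨d.Yy_le L h2.2, ?_⟩)
    have haΓ := d.Yy_le L ha
    rw [d.comm (d.Yy_le L ht.2) haΓ, commutatorElement_eq_one_iff_mul_comm]
    refine Coprime.le_centralizer_of_commutator_le_frattini (A := zpowers (φ a))
      (zpowers_le.2 (d.norm (hL₁ (Yy_le_self L ha)) haΓ)) ?_ (commutator_le.2 fun s hs b hb => ?_)
      (mem_zpowers _) _ (d.mem_img ht (d.Yy_le L ht.2))
    · obtain ⟨k, hk⟩ := ((d.pgroup hT₁).to_subgroup (frattini _)).exists_card_eq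
      rw [hk, Nat.card_zpowers]
      exact (ho.coprime_dvd_left (orderOf_dvd_of_pow_eq_one (by
        rw [← pm_pow d.mul haΓ, pow_orderOf_eq_one, pm_one d.mul]))).pow_right _
    · obtain ⟨i, rfl⟩ := mem_powers_iff_mem_zpowers.2 hb
      simp only [← pm_pow d.mul haΓ]
      exact d.comm_mem hT₁ hL₁ (inf_le_right.trans (d.Yy_le L)) (pow_mem ha i) s hs
  refine Coprime.le_centralizer_of_commutator_le_centralizer (haL.trans hL) ?_
    (le_trans (le_inf (Coprime.commutator_le_of_le_normalizer (haL.trans hL)) ?_) h1) (mem_zpowers a)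
  · obtain ⟨k, hk⟩ := hT.exists_card_eq
    rw [hk, Nat.card_zpowers]
    exact ho.pow_right _
  · rw [commutator_comm]
    exact (commutator_mono (zpowers_le.2 ha) le_rfl).trans
      (Coprime.commutator_le_of_le_normalizer (hTL.trans (le_norm_Yy L)))

theorem exists_pow_coprime [Finite H] (a : H) : ∃ k, (orderOf (a ^ 2 ^ k)).Coprime 2 := by
  obtain ⟨k, m, hm, h⟩ := Nat.exists_eq_pow_mul_and_not_dvd (orderOf_pos a).ne' 2 (by norm_num)
  exact ⟨k, ((Nat.Prime.coprime_iff_not_dvd Nat.prime_two).2 hm).symm.coprime_dvd_left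
    (orderOf_dvd_of_pow_eq_one (by rw [← pow_mul, ← h, pow_orderOf_eq_one]))⟩

theorem Faith.Yy_le [Finite H] (hF : Faith H e) (hs : IsPSolvable 2 H) (S : Sylow 2 H) :
    Yy e (normalizer (((S : Subgroup H) ⊓ pPrimePCore 2 H : Subgroup H) : Set H)) ≤
      pPrimePCore 2 H := by
  have := pPrimePCore_normal 2 H
  set L := normalizer (((S : Subgroup H) ⊓ pPrimePCore 2 H : Subgroup H) : Set H)
  set f := QuotientGroup.mk' (pPrimePCore 2 H)
  have h1 : L.map f = ⊤ := by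
    have := congrArg (map f) (pPrimeCore_sup_normalizer_sylow_inf S)
    rwa [Subgroup.map_sup, (map_mk'_eq_bot_iff _ _).2 pPrimeCore_le_pPrimePCore, bot_sup_eq,
      map_top_of_surjective _ (QuotientGroup.mk'_surjective _)] at this
  have h2 : ((Yy e L).map f).Normal := normalizer_eq_top_iff.1 (top_le_iff.1
    (h1.ge.trans ((map_mono (le_norm_Yy L)).trans (le_normalizer_map f))))
  rw [← map_mk'_eq_bot_iff, ← le_bot_iff, ← pCore_quotient_pPrimePCore _ rfl]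
  refine le_pCore ?_
  rintro ⟨_, a, ha, rfl⟩
  obtain ⟨k, hk⟩ := exists_pow_coprime a
  exact ⟨k, Subtype.ext ((QuotientGroup.eq_one_iff (a ^ 2 ^ k)).2
    (IsPConstrained.centralizer_sylow_inf_le (isPConstrained_of_isPSolvable hs) S
      (hF.cent S.isPGroup'.to_inf_left le_rfl le_normalizer (pow_mem ha _) hk)))⟩

theorem Faith.pow_mem [Finite H] (hF : Faith H e) (hs : IsPSolvable 2 H) {x : H}
    (hx : x ^ 2 ^ (e + 1) = 1) : x ^ 2 ^ e ∈ pPrimePCore 2 H := by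
  have := pPrimePCore_normal 2 H
  obtain ⟨S, hS⟩ := (isPGroup_zpowers_of_pow_eq_one hx).exists_le_sylow
  exact hF.Yy_le hs S (mem_Yy (le_normalizer_inf le_normalizer le_normalizer_of_normal
    (hS (mem_zpowers x))) hx)

end K2

/-- all `2`-elements have order dividing `2 ^ n` -/
def Ex (n : ℕ) (G : Type*) [Group G] : Prop := ∀ x : G, (∃ k, x ^ 2 ^ k = 1) → x ^ 2 ^ n = 1

theorem lift2 {G G' : Type*} [Group G] [Finite G] [Group G'] {f : G →* G'}
    (hf : Function.Surjective f) {y : G'} {k : ℕ} (hy : y ^ 2 ^ k = 1) :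
    ∃ x, f x = y ∧ ∃ j, x ^ 2 ^ j = 1 := by
  have : Finite G' := Finite.of_surjective f hf
  obtain ⟨S, hS⟩ := (isPGroup_zpowers_of_pow_eq_one hy).exists_le_sylow
  obtain ⟨T, rfl⟩ := Sylow.mapSurjective_surjective hf 2 S
  obtain ⟨x, hx, e⟩ := hS (mem_zpowers y)
  exact ⟨x, e, (T.isPGroup' ⟨x, hx⟩).imp fun _ h => congrArg Subtype.val h⟩

theorem ex_of_surj {G G' : Type*} [Group G] [Finite G] [Group G'] {f : G →* G'}
    (hf : Function.Surjective f) {n : ℕ} (h : ∀ x, (∃ k, x ^ 2 ^ k = 1) → f (x ^ 2 ^ n) = 1) :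
    Ex n G' := by
  rintro y ⟨k, hy⟩
  obtain ⟨x, rfl, hx⟩ := lift2 hf hy
  rw [← map_pow, h x hx]

theorem Ex.surj {G G' : Type*} [Group G] [Finite G] [Group G'] {f : G →* G'} {n : ℕ} (h : Ex n G)
    (hf : Function.Surjective f) : Ex n G' :=
  ex_of_surj hf fun x hx => by rw [h x hx, map_one]

theorem ex_of_sylow {G : Type*} [Group G] [Finite G] {n : ℕ}
    (h : ∀ P : Sylow 2 G, ∀ x ∈ (P : Subgroup G), x ^ 2 ^ n = 1) : Ex n G := by
  rintro x ⟨k, hx⟩
  obtain ⟨S, hS⟩ := (isPGroup_zpowers_of_pow_eq_one hx).exists_le_sylow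
  exact h S x (hS (mem_zpowers x))

theorem Ex.zero {G : Type*} [Group G] [Finite G] (h : Ex 0 G) : PLengthLE 2 0 G := by
  refine pLengthLE_zero_iff.2 ((Nat.Prime.coprime_iff_not_dvd Nat.prime_two).2 fun h2 => ?_).symm
  obtain ⟨x, hx⟩ := exists_prime_orderOf_dvd_card' 2 h2
  have := h x ⟨1, by rw [pow_one, ← hx, pow_orderOf_eq_one]⟩
  rw [pow_zero, pow_one] at this
  rw [this, orderOf_one] at hx
  omega

/-- reduction to groups with local data -/
theorem pLengthLE_of_faith {G : Type u} [Group G] [Finite G] [Group.IsSolvable G] {e l : ℕ}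
    (hG : Ex (e + 1) G) (h : ∀ (H : Type u) [Group H] [Finite H] [Group.IsSolvable H],
      Ex (e + 1) H → Faith H e → PLengthLE 2 l H) : PLengthLE 2 (l + 1) G := by
  obtain ⟨G₁, _, _, f, hf, h1, h2⟩ := exists_std (isPSolvable_of_isSolvable (G := G) Nat.prime_two)
  have := Group.isSolvable_of_surjective hf
  have h3 := h _ ((hG.surj hf).surj (QuotientGroup.mk'_surjective _)) (Std.faith h1 (hG.surj hf))
  have := pPrimePCore_normal 2 G
  have hs := (QuotientGroup.mk'_surjective (pCore 2 G₁)).comp hf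
  refine pLengthLE_succ_of_quotient ((QuotientGroup.mk' (pCore 2 G₁)).comp f).ker ?_
    ((pLengthLE_congr (QuotientGroup.quotientKerEquivOfSurjective _ hs)).2 h3)
  rw [← MonoidHom.comap_ker, QuotientGroup.ker_mk', h2]

/-- Gross's bound -/
theorem gross (e : ℕ) : ∀ {G : Type u} [Group G] [Finite G] [Group.IsSolvable G],
    Ex (e + 1) G → PLengthLE 2 (2 * e + 1) G := by
  induction e with
  | zero =>
    intro G _ _ _ hG
    refine pLengthLE_of_faith hG fun H _ _ _ h1 h2 => Ex.zero fun x hx => ?_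
    rw [pow_zero, pow_one]
    refine h2 x hx fun M _ _ q Γ φ d => ⟨by simpa using d.mem x (h1 x hx), ?_⟩
    by_contra h3
    obtain ⟨k, i, h4, -⟩ := d.str x (h1 x hx) (by simpa using h3)
    omega
  | succ e ih =>
    intro G _ _ _ hG
    refine pLengthLE_of_faith hG fun H _ _ _ h1 h2 => ?_
    have := pPrimePCore_normal 2 H
    exact pLengthLE_succ_of_quotient _ le_rfl (ih (ex_of_surj (QuotientGroup.mk'_surjective _)
      fun x hx => (QuotientGroup.eq_one_iff _).2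
        (h2.pow_mem (isPSolvable_of_isSolvable Nat.prime_two) (h1 x hx))))

end Cfsg.Lib.HH.Two
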