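import Cfsg.Agent.Lib.HH.TwoA
import Cfsg.Agent.Lib.FT.Sec14d

/-!
# The `2`-length is at most the exponent of a Sylow `2`-subgroup
-/

set_option autoImplicit false

namespace Cfsg.Lib.HH.Two

open Subgroup Cfsg.Lib.Core
open scoped commutatorElement

universe u v

variable {H : Type u} [Group H]

theorem mul_pow_mem {A : Subgroup H} {x a : H} (hx : x ∈ normalizer (A : Set H)) (ha : a ∈ A)
    (m : ℕ) : (a * x) ^ m * (x ^ m)⁻¹ ∈ A := by
  induction m with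
  | zero => simp
  | succ m ih =>
    have := mul_mem ih ((mem_normalizer_iff.1 (pow_mem hx m) a).1 ha)
    rw [pow_succ, pow_succ]
    convert this using 1
    group

/-- central involutions -/
def Zo (K : Subgroup H) : Subgroup H where
  carrier := {z | z ∈ K ∧ z ∈ centralizer (K : Set H) ∧ z * z = 1}
  one_mem' := ⟨one_mem _, one_mem _, mul_one _⟩
  mul_mem' := fun {a b} ha hb => ⟨mul_mem ha.1 hb.1, mul_mem ha.2.1 hb.2.1, by
    rw [mul_assoc, ← mul_assoc b, ha.2.1 b hb.1, mul_assoc, hb.2.2, mul_one, ha.2.2]⟩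
  inv_mem' := fun {a} ha => ⟨inv_mem ha.1, inv_mem ha.2.1, by rw [← mul_inv_rev, ha.2.2, inv_one]⟩

theorem norm_Zo (K : Subgroup H) : normalizer (K : Set H) ≤ normalizer (Zo K : Set H) := by
  have key : ∀ g ∈ normalizer (K : Set H), ∀ a ∈ Zo K, g * a * g⁻¹ ∈ Zo K := fun g hg a ha =>
    ⟨(mem_normalizer_iff.1 hg a).1 ha.1,
      (mem_normalizer_iff.1 (le_normalizer_centralizer le_rfl hg) a).1 ha.2.1, by
      rw [conj_mul, ha.2.2, mul_one, mul_inv_cancel]⟩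
  refine fun g hg => mem_normalizer_iff.2 fun a => ⟨key g hg a, fun ha => ?_⟩
  simpa [mul_assoc] using key _ (inv_mem hg) _ ha

theorem comm_of_four {E : Type*} [Group E] {a s : E} (ha : a * a = 1) (hs : s * s = 1)
    (h : (s * a) ^ 4 = 1) : Commute (s * a * s⁻¹ * a⁻¹) s := by
  have h1 : a⁻¹ = a := inv_eq_of_mul_eq_one_left ha
  have h2 : s⁻¹ = s := inv_eq_of_mul_eq_one_left hs
  have h3 : s * a * s * a = (s * a * s * a)⁻¹ := eq_inv_of_mul_eq_one_left (by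
    rw [← h]; simp only [pow_succ, pow_zero, one_mul, mul_assoc])
  rw [h1, h2, commute_iff_eq]
  nth_rw 2 [h3]
  simp only [mul_inv_rev, h1, h2, mul_assoc]

section Glue

variable {M : Type u} [CommGroup M] {e q : ℕ} {Γ : Subgroup H} {φ : H → MulAut M} {L : Subgroup H}

theorem Alt.commute {g h : MulAut M} (a : Alt g h) : Commute (g ^ 2) (h ^ 2) :=
  a.elim (fun h => h ▸ Commute.refl _) fun h => Commute.pow_pow h.1 2 2

theorem two_sup (hK : IsPGroup 2 (Yy e L)) {x : H} (hL : x ∈ L) (hx : x ^ 2 ^ (e + 1) = 1) :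
    IsPGroup 2 (Yy e L ⊔ zpowers x : Subgroup H) :=
  Amalg.isPGroup_sup_of_le_normalizer' hK (isPGroup_zpowers_of_pow_eq_one hx)
    (zpowers_le.2 (le_norm_Yy L hL))

theorem Ex.mul (hE : Ex (e + 1) H) (hK : IsPGroup 2 (Yy e L)) {x k : H} (hL : x ∈ L)
    (hx : x ^ 2 ^ (e + 1) = 1) (hk : k ∈ Yy e L) : (k * x) ^ 2 ^ (e + 1) = 1 :=
  hE _ ((two_sup hK hL hx ⟨_, mul_mem (mem_sup_left hk) (mem_sup_right (mem_zpowers x))⟩).imp
    fun _ h => congrArg Subtype.val h)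

variable [Finite M] (d : Dat e q Γ φ) (hK : IsPGroup 2 (Yy e L))
include d hK

theorem Dat.four {x z : H} (hL : x ∈ L) (hx : x ^ 2 ^ (e + 1) = 1) (hL' : z ∈ L)
    (hz : z ^ 2 ^ (e + 1) = 1) : (φ (x ^ 2 ^ e) * φ (z ^ 2 ^ e)) ^ 4 = 1 := by
  have := Fact.mk d.prime
  have h1 := d.inv2 hx
  have h2 := d.inv2 hz
  have h3 : Commute (φ (x ^ 2 ^ e)) (φ (z ^ 2 ^ e) * φ (x ^ 2 ^ e) * (φ (z ^ 2 ^ e))⁻¹) := by
    by_cases hy : φ (x ^ 2 ^ e) = 1
    · rw [hy]; exact Commute.one_left _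
    obtain ⟨h4, h5, h6, h7⟩ := d.dd hx hy
    have m1 := d.mem_img (mem_sup_left (T := zpowers x) (mem_Yy hL' hz)) (d.mem z hz)
    have m2 := d.mem_img (mem_sup_right (S := Yy e L) (npow_mem_zpowers x (2 ^ (e - 1)))) h5
    have := (h7.alt h4 d.od (d.pgroup (two_sup hK hL hx)) (h7.conj _) m2
      (mul_mem (mul_mem m1 m2) (inv_mem m1))).commute
    rwa [conj_pow, h6] at this
  generalize φ (x ^ 2 ^ e) = a at *
  generalize φ (z ^ 2 ^ e) = b at *
  have : (a * b) ^ 4 = (a * (b * a * b⁻¹)) ^ 2 := by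
    rw [inv_eq_of_mul_eq_one_left h2]; simp only [pow_succ, pow_zero, one_mul, mul_assoc]
  rw [this, h3.mul_pow, conj_pow, sq, h1]; simp

theorem Dat.ab (hE : Ex (e + 1) H) {x z k : H} (hL : x ∈ L) (hx : x ^ 2 ^ (e + 1) = 1)
    (hL' : z ∈ L) (hz : z ^ 2 ^ (e + 1) = 1) (hk : k ∈ Yy e L)
    (hn : ¬ Commute (φ (x ^ 2 ^ e)) (φ (z ^ 2 ^ e))) : φ ((k * x) ^ 2 ^ e) = φ (x ^ 2 ^ e) ∨
      φ ((k * x) ^ 2 ^ e) = φ (z ^ 2 ^ e) * φ (x ^ 2 ^ e) * (φ (z ^ 2 ^ e))⁻¹ := by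
  have := Fact.mk d.prime
  have hy : φ (x ^ 2 ^ e) ≠ 1 := fun h => hn (h ▸ Commute.one_left _)
  obtain ⟨-, h5, h6, h7⟩ := d.dd hx hy
  obtain ⟨j, i, he, h1, h2, h3, h4⟩ := d.str x hx hy
  have hx' := hE.mul hK hL hx hk
  have e1 : φ (x ^ 2 ^ (e - 1)) = φ (x ^ 2 ^ j) ^ 2 ^ i := by
    rw [← pm_pow d.mul h2, ← pow_mul, ← pow_add, he, Nat.add_sub_cancel]
  have hk' := mul_pow_mem (le_norm_Yy L hL) hk (2 ^ (e - 1))
  have e2 : φ ((k * x) ^ 2 ^ (e - 1)) =
      φ ((k * x) ^ 2 ^ (e - 1) * (x ^ 2 ^ (e - 1))⁻¹) * φ (x ^ 2 ^ j) ^ 2 ^ i := by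
    rw [← e1, ← d.mul _ (d.Yy_le L hk') _ h5, inv_mul_cancel_right]
  have e3 : φ ((k * x) ^ 2 ^ e) = φ ((k * x) ^ 2 ^ (e - 1)) ^ 2 := by
    rw [← pm_pow d.mul (by simpa using mul_mem (d.Yy_le L hk') h5), ← pow_mul, ← pow_succ, he,
      Nat.add_sub_cancel]
  have hcl : ∀ a ∈ Yy e L, φ a ∈ closure {a | ∃ x ∈ L, x ^ 2 ^ (e + 1) = 1 ∧ φ (x ^ 2 ^ e) = a} := by
    intro a ha
    induction ha using closure_induction with
    | mem a ha => obtain ⟨x, a1, a2, rfl⟩ := ha; exact subset_closure ⟨x, a1, a2, rfl⟩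
    | one => rw [pm_one d.mul]; exact one_mem _
    | mul a b ha hb iha ihb => rw [d.mul _ (d.Yy_le L ha) _ (d.Yy_le L hb)]; exact mul_mem iha ihb
    | inv a ha iha => rw [pm_inv d.mul (d.Yy_le L ha)]; exact inv_mem iha
  rw [e3, e2, ← h6, e1]
  rw [← h6, e1] at h3 h4 hn
  refine main_alt d.od (d.pgroup (two_sup hK hL hx))
    (Y := {a | ∃ x ∈ L, x ^ 2 ^ (e + 1) = 1 ∧ φ (x ^ 2 ^ e) = a}) ?_ ?_ ?_ ?_ h1
    (d.mem_img (mem_sup_right (npow_mem_zpowers x _)) h2) (e1 ▸ h7) h4 ?_ ⟨z, hL', hz, rfl⟩ ?_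
    (fun h => hn (mul_inv_eq_iff_eq_mul.1 h.symm).symm) (hcl _ hk') ?_
  · rintro _ ⟨a, a1, a2, rfl⟩
    exact d.mem_img (mem_sup_left (mem_Yy a1 a2)) (d.mem a a2)
  · rintro _ ⟨a, -, a2, rfl⟩
    exact d.inv2 a2
  · rintro _ ⟨a, -, a2, rfl⟩ a3
    obtain ⟨_, _, -, -, -, a4, -⟩ := d.str a a2 a3
    exact a4
  · rintro _ ⟨a, a1, a2, rfl⟩ _ ⟨b, b1, b2, rfl⟩
    exact d.four hK a1 a2 b1 b2
  · rintro _ ⟨g, -, hg, rfl⟩
    rw [← e1, h6] at h3 ⊢
    exact d.pm _ (d.mem x hx) (d.inv2 hx) h3 g hg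
  · refine ⟨x ^ 2 ^ j * z * (x ^ 2 ^ j)⁻¹,
      mul_mem (mul_mem (pow_mem hL _) hL') (inv_mem (pow_mem hL _)), by rw [conj_pow, hz]; simp, ?_⟩
    rw [conj_pow, d.conj h2 (d.mem z hz)]
  · rw [← e2, ← e3]
    exact (em _).imp_right fun h => (d.dd hx' h).2.2.2

theorem Dat.comm1 (hE : Ex (e + 1) H) {x k : H} (hL : x ∈ L) (hx : x ^ 2 ^ (e + 1) = 1)
    (hk : k ∈ Yy e L) : Commute (φ ((k * x) ^ 2 ^ e)) (φ (x ^ 2 ^ e)) := by
  have := Fact.mk d.prime
  have hx' := hE.mul hK hL hx hk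
  by_cases hy : φ (x ^ 2 ^ e) = 1
  · rw [hy]; exact Commute.one_right _
  by_cases hy' : φ ((k * x) ^ 2 ^ e) = 1
  · rw [hy']; exact Commute.one_left _
  obtain ⟨h4, h5, h6, h7⟩ := d.dd hx hy
  obtain ⟨-, h5', h6', h7'⟩ := d.dd hx' hy'
  rw [← h6, ← h6']
  exact (h7'.alt h4 d.od (d.pgroup (two_sup hK hL hx)) h7 (d.mem_img (pow_mem (mul_mem
    (mem_sup_left hk) (mem_sup_right (mem_zpowers x))) _) h5')
    (d.mem_img (mem_sup_right (npow_mem_zpowers x _)) h5)).commute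

theorem Dat.comm2 (hE : Ex (e + 1) H) {x z k : H} (hL : x ∈ L) (hx : x ^ 2 ^ (e + 1) = 1)
    (hL' : z ∈ L) (hz : z ^ 2 ^ (e + 1) = 1) (hk : k ∈ Yy e L) :
    Commute (φ ((k * x) ^ 2 ^ e) * (φ (x ^ 2 ^ e))⁻¹) (φ (z ^ 2 ^ e)) := by
  have hx' := hE.mul hK hL hx hk
  have hL₁ := mul_mem (Yy_le_self L hk) hL
  by_cases h1 : Commute (φ (x ^ 2 ^ e)) (φ (z ^ 2 ^ e))
  · by_cases h2 : Commute (φ ((k * x) ^ 2 ^ e)) (φ (z ^ 2 ^ e))
    · exact h2.mul_left h1.inv_left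
    have := d.ab hK hE hL₁ hx' hL' hz (inv_mem hk) h2
    rw [inv_mul_cancel_left] at this
    rcases this with h | h <;> rw [h]
    · rw [mul_inv_cancel]; exact Commute.one_left _
    · have := (comm_of_four (d.inv2 hx') (d.inv2 hz) (d.four hK hL' hz hL₁ hx')).inv_left
      rwa [mul_inv_rev, inv_inv] at this
  rcases d.ab hK hE hL hx hL' hz hk h1 with h | h <;> rw [h]
  · rw [mul_inv_cancel]; exact Commute.one_left _
  · exact comm_of_four (d.inv2 hx) (d.inv2 hz) (d.four hK hL' hz hL hx)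

omit [Finite M] hK in
theorem Dat.cc {x k : H} (hL : x ∈ L) (hx : x ^ 2 ^ (e + 1) = 1) (hk : k ∈ Zo (Yy e L))
    (hy : φ (x ^ 2 ^ e) ≠ 1) : φ ((k * x) ^ 2 ^ e) = φ (x ^ 2 ^ e) := by
  obtain ⟨j, i, he, -, h2, h3, h4⟩ := d.str x hx hy
  have hk' := mul_pow_mem (norm_Zo _ (le_norm_Yy L hL)) hk (2 ^ j)
  set k' := (k * x) ^ 2 ^ j * (x ^ 2 ^ j)⁻¹ with hk0
  have hΓ := d.Yy_le L hk'.1
  have c1 : φ k' * φ (x ^ 2 ^ e) = φ (x ^ 2 ^ e) * φ k' := by
    rw [← d.mul _ hΓ _ (d.mem x hx), ← d.mul _ (d.mem x hx) _ hΓ, hk'.2.1 _ (mem_Yy hL hx)]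
  have c2 : φ k' * φ k' = 1 := by rw [← d.mul _ hΓ _ hΓ, hk'.2.2, pm_one d.mul]
  have e1 : φ (x ^ 2 ^ e) = φ (x ^ 2 ^ j) ^ 2 ^ (i + 1) := by
    rw [← pm_pow d.mul h2, ← pow_mul, ← pow_add, he, add_assoc]
  have c3 : ∀ m ∈ Ui (φ (x ^ 2 ^ e)), φ (x ^ 2 ^ j) m ∈ Ui (φ (x ^ 2 ^ e)) := fun m =>
    apply_mem_Ui (by rw [e1]; exact ((Commute.refl _).pow_right _).eq)
  have c4 : Commute (φ k') (φ (x ^ 2 ^ j)) := ext_Ui d.od (d.inv2 hx) (fun m hm => by
    rcases d.pm _ (d.mem x hx) (d.inv2 hx) h3 k' hΓ (fun m => apply_mem_Ui c1)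
      (fun m _ => by rw [← MulAut.mul_apply, c2]; rfl) with h | h <;>
    simp only [MulAut.mul_apply, h m hm, h _ (c3 m hm), map_inv]) fun m hm => by
      rw [MulAut.mul_apply, MulAut.mul_apply, h4 m hm, h4]
      rw [← MulAut.mul_apply, ← c1, MulAut.mul_apply, hm]
  rw [e1, show (k * x) ^ 2 ^ e = (k' * x ^ 2 ^ j) ^ 2 ^ (i + 1) by
    rw [hk0, inv_mul_cancel_right, ← pow_mul, ← pow_add, he, add_assoc],
    pm_pow d.mul (mul_mem hΓ h2), d.mul _ hΓ _ h2, c4.mul_pow, pow_succ' 2 i, pow_mul, sq, c2,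
    one_pow, one_mul]

end Glue

section Faith

variable {e : ℕ} {L : Subgroup H} (hF : Faith H e) (hE : Ex (e + 1) H) (hK : IsPGroup 2 (Yy e L))
include hF hK

theorem Faith.eq_one {t : H} (ht : t ∈ Yy e L)
    (h : ∀ (M : Type u) [CommGroup M] [Finite M] (q : ℕ) (Γ : Subgroup H) (φ : H → MulAut M),
      Dat e q Γ φ → φ t = 1) : t = 1 :=
  hF t ((hK ⟨t, ht⟩).imp fun _ h => congrArg Subtype.val h) fun M _ _ q Γ φ d =>
    ⟨d.Yy_le L ht, h M q Γ φ d⟩

theorem Faith.commute {a b : H} (ha : a ∈ Yy e L) (hb : b ∈ Yy e L)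
    (h : ∀ (M : Type u) [CommGroup M] [Finite M] (q : ℕ) (Γ : Subgroup H) (φ : H → MulAut M),
      Dat e q Γ φ → Commute (φ a) (φ b)) : Commute a b :=
  commutatorElement_eq_one_iff_commute.1 (hF.eq_one hK
    (mul_mem (mul_mem (mul_mem ha hb) (inv_mem ha)) (inv_mem hb)) fun M _ _ q Γ φ d =>
      (d.comm (d.Yy_le L ha) (d.Yy_le L hb)).trans
        (commutatorElement_eq_one_iff_commute.2 (h M q Γ φ d)))

include hE

theorem Faith.mem_Zo {x k : H} (hL : x ∈ L) (hx : x ^ 2 ^ (e + 1) = 1) (hk : k ∈ Yy e L) :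
    (k * x) ^ 2 ^ e * (x ^ 2 ^ e)⁻¹ ∈ Zo (Yy e L) := by
  have hx' := hE.mul hK hL hx hk
  have m1 := mem_Yy hL hx
  have m2 := mem_Yy (mul_mem (Yy_le_self L hk) hL) hx'
  have m3 := mul_mem m2 (inv_mem m1)
  refine ⟨m3, le_centralizer_iff.1 (Two.Yy_le fun z hL' hz => ?_) (mem_zpowers _), ?_⟩
  · rw [centralizer_zpowers, mem_centralizer_singleton_iff]
    exact (hF.commute hK m3 (mem_Yy hL' hz) fun M _ _ q Γ φ d => by
      rw [d.mul _ (d.mem _ hx') _ (inv_mem (d.mem _ hx)), pm_inv d.mul (d.mem _ hx)]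
      exact d.comm2 hK hE hL hx hL' hz hk).symm.eq
  · rw [← sq, (hF.commute hK m2 m1 fun M _ _ q Γ φ d => d.comm1 hK hE hL hx hk).inv_right.mul_pow,
      inv_pow, ← pow_mul, ← pow_mul, ← pow_succ, hx, hx']
    simp

theorem Faith.pow_eq {x k : H} (hL : x ∈ L) (hx : x ^ 2 ^ (e + 1) = 1) (hk : k ∈ Zo (Yy e L)) :
    (k * x) ^ 2 ^ e = x ^ 2 ^ e := by
  have hx' := hE.mul hK hL hx hk.1
  have hL' := mul_mem (Yy_le_self L hk.1) hL
  refine mul_inv_eq_one.1 (hF.eq_one hK (mul_mem (mem_Yy hL' hx') (inv_mem (mem_Yy hL hx)))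
    fun M _ _ q Γ φ d => ?_)
  rw [d.mul _ (d.mem _ hx') _ (inv_mem (d.mem _ hx)), pm_inv d.mul (d.mem _ hx), mul_inv_eq_one]
  by_cases h1 : φ (x ^ 2 ^ e) = 1
  · by_cases h2 : φ ((k * x) ^ 2 ^ e) = 1
    · rw [h1, h2]
    · rw [← d.cc hL' hx' (inv_mem hk) h2, inv_mul_cancel_left]
  · exact d.cc hL hx hk h1

end Faith

section Len

variable {G : Type u} [Group G] [Finite G]

theorem sq_mem_pPrimeCore {A E : Subgroup G} [A.Normal] [E.Normal] (hA : ∀ a ∈ A, a * a = 1)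
    (hc : E ≤ centralizer (A : Set G)) (ho : (A.relIndex E).Coprime 2) {x : G} (hx : x ∈ E) :
    x * x ∈ pPrimeCore 2 G := by
  have hA' : IsPGroup 2 (A.subgroupOf E) := fun a =>
    ⟨1, Subtype.ext (Subtype.ext (by simpa [sq] using hA _ a.2))⟩
  obtain ⟨k, hk⟩ := hA'.exists_card_eq
  obtain ⟨F, hF⟩ := exists_right_complement'_of_coprime (N := A.subgroupOf E)
    (by rw [hk]; exact ho.symm.pow_left _)
  have hm : ∀ g : E, ∃ a ∈ A.subgroupOf E, ∃ f ∈ F, a * f = g := fun g => by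
    obtain ⟨⟨a, f⟩, h⟩ := hF.2 g
    exact ⟨a, a.2, f, f.2, h⟩
  have hz : ∀ a ∈ A.subgroupOf E, ∀ g : E, a * g = g * a := fun a ha g =>
    Subtype.ext (hc g.2 a ha)
  have : F.Normal := ⟨fun n hn g => by
    obtain ⟨a, ha, f, hf, rfl⟩ := hm g
    rw [show a * f * n * (a * f)⁻¹ = a * (f * n * f⁻¹) * a⁻¹ by group, hz a ha, mul_inv_cancel_right]
    exact mul_mem (mul_mem hf hn) (inv_mem hf)⟩
  obtain ⟨a, ha, f, hf, h⟩ := hm ⟨x, hx⟩
  have h1 : (⟨x, hx⟩ * ⟨x, hx⟩ : E) = f * f := by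
    rw [← h, mul_assoc, ← mul_assoc f, ← hz a ha, ← mul_assoc, ← mul_assoc,
      show a * a = 1 from Subtype.ext (hA _ ha), one_mul]
  exact map_subtype_pPrimeCore_le E ⟨_, le_pPrimeCore (N := F)
    (by rw [← hF.symm.index_eq_card]; exact ho) (mul_mem hf hf), (congrArg Subtype.val h1).symm⟩

theorem pLengthLE_ker {X : Type*} [Group X] {f : G →* X} (hf : Function.Surjective f) {m : ℕ} :
    PLengthLE 2 m (G ⧸ f.ker) ↔ PLengthLE 2 m X :=
  pLengthLE_congr (QuotientGroup.quotientKerEquivOfSurjective f hf)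

theorem pLengthLE_prod {X : Type*} [Group X] [Finite X] {m : ℕ} (h1 : PLengthLE 2 m G)
    (h2 : PLengthLE 2 m X) : PLengthLE 2 m (G × X) :=
  pLengthLE_of_inf_eq_bot (MonoidHom.fst G X).ker (MonoidHom.snd G X).ker
    (eq_bot_iff.2 fun _ hx => Prod.ext hx.1 hx.2)
    ((pLengthLE_ker (f := MonoidHom.fst G X) Prod.fst_surjective).2 h1)
    ((pLengthLE_ker (f := MonoidHom.snd G X) Prod.snd_surjective).2 h2)

variable [Group.IsSolvable G] {e : ℕ}
  (IH : ∀ (S : Type u) [Group S] [Finite S] [Group.IsSolvable S], Ex e S → PLengthLE 2 e S)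
include IH

theorem step {A : Subgroup G} [A.Normal] (hA : ∀ a ∈ A, a * a = 1)
    (h1 : ∀ x : G, (∃ k, x ^ 2 ^ k = 1) → x ^ 2 ^ e ∈ centralizer (A : Set G))
    (h2 : ∀ x : G, (∃ k, x ^ 2 ^ k = 1) → ∀ a ∈ A, (a * x) ^ 2 ^ e = x ^ 2 ^ e)
    (h3 : PLengthLE 2 e (G ⧸ A)) : PLengthLE 2 e G := by
  rcases e with _ | m
  · refine pLengthLE_of_injective h3 (f := QuotientGroup.mk' A) ?_
    rw [← MonoidHom.ker_eq_bot_iff, QuotientGroup.ker_mk', eq_bot_iff_forall]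
    exact fun a ha => by simpa using h2 1 ⟨0, by simp⟩ a ha
  set c : G →* MulAut A := MulAut.conjNormal
  have hc := c.rangeRestrict_surjective
  have : Group.IsSolvable c.range := Group.isSolvable_of_surjective hc
  let S := A ⋊[c.range.subtype] c.range
  have : Finite S := Finite.of_equiv _ SemidirectProduct.equivProd.symm
  have : Group.IsSolvable S := Group.isSolvable_of_ker_le_range SemidirectProduct.inl
    SemidirectProduct.rightHom SemidirectProduct.range_inl_eq_ker_rightHom.ge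
  have hS : PLengthLE 2 (m + 1) S := IH S (by
    rintro ⟨a, r⟩ ⟨k, hk⟩
    obtain ⟨x, rfl, hx⟩ := lift2 hc (k := k) (y := r) (by
      have := congrArg SemidirectProduct.rightHom hk
      rwa [map_pow, map_one] at this)
    have key : ∀ n : ℕ, (((⟨a, c.rangeRestrict x⟩ : S) ^ n).left : G) = (a * x) ^ n * (x ^ n)⁻¹ ∧
        ((⟨a, c.rangeRestrict x⟩ : S) ^ n).right = c.rangeRestrict (x ^ n) := fun n => by
      induction n with
      | zero => exact ⟨by simp, by simp⟩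
      | succ n ih =>
        rw [pow_succ, SemidirectProduct.mul_left, SemidirectProduct.mul_right, coe_mul, ih.1, ih.2,
          pow_succ, pow_succ, map_mul]
        refine ⟨?_, rfl⟩
        change _ * (x ^ n * a * (x ^ n)⁻¹) = _
        group
    refine SemidirectProduct.ext (Subtype.ext ?_) ?_
    · rw [(key _).1, h2 x hx a a.2, mul_inv_cancel]; rfl
    · rw [(key _).2]
      exact Subtype.ext (MulEquiv.ext fun b => Subtype.ext
        (mul_inv_eq_iff_eq_mul.2 (h1 x hx b b.2).symm)))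
  have hO : pPrimeCore 2 S = ⊥ := by
    have hp : IsPGroup 2 (SemidirectProduct.rightHom : S →* _).ker := by
      rw [← SemidirectProduct.range_inl_eq_ker_rightHom]
      rintro ⟨_, a, rfl⟩
      exact ⟨1, Subtype.ext (by
        rw [pow_one, sq, coe_mul, ← map_mul, show a * a = 1 from Subtype.ext (hA _ a.2), map_one]
        rfl)⟩
    refine Amalg.eq_bot_of_pPrime_le (coprime_card_pPrimeCore 2 S) hp fun s hs => ?_
    refine Subtype.ext (MulEquiv.ext fun b => ?_)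
    have := congrArg SemidirectProduct.left (pPrimeCore_le_centralizer_pCore Nat.prime_two hs
      (SemidirectProduct.inl b) (le_pCore hp (SemidirectProduct.rightHom_inl b)))
    have hb : ∀ a b : A, a * b = b * a := fun a b => by
      have h := fun a : A => inv_eq_of_mul_eq_one_left (show a * a = 1 from Subtype.ext (hA _ a.2))
      rw [← h (a * b), mul_inv_rev, h, h]
    change b * s.left = s.left * (s.right : MulAut A) b at this
    rw [hb, mul_right_inj] at this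
    exact this.symm
  have := pPrimePCore_normal 2 (G ⧸ A)
  let f₁ := (QuotientGroup.mk' (pCore 2 c.range)).comp c.rangeRestrict
  let f₂ := (QuotientGroup.mk' (pPrimePCore 2 (G ⧸ A))).comp (QuotientGroup.mk' A)
  have l1 : PLengthLE 2 m (c.range ⧸ pCore 2 c.range) :=
    (pLengthLE_ker (f := (QuotientGroup.mk' (pCore 2 c.range)).comp SemidirectProduct.rightHom)
      ((QuotientGroup.mk'_surjective _).comp SemidirectProduct.rightHom_surjective)).1
      (pLengthLE_quotient_of_succ _ (by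
        rw [pPrimePCore_eq_pCore hO, ← MonoidHom.comap_ker, QuotientGroup.ker_mk',
          ← map_le_iff_le_comap]
        exact map_pCore_le_of_surjective SemidirectProduct.rightHom_surjective) hS)
  have l2 := pLengthLE_quotient_of_succ _ le_rfl h3
  have l3 := pLengthLE_prod l1 l2
  refine pLengthLE_succ_of_quotient (f₁.prod f₂).ker (le_pPrimePCore_of_pow_mem fun x hx => ?_)
    (pLengthLE_of_injective l3 (QuotientGroup.kerLift_injective _))
  obtain ⟨a, ha⟩ := isPGroup_pCore 2 c.range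
    ⟨_, (QuotientGroup.eq_one_iff _).1 (congrArg Prod.fst hx)⟩
  obtain ⟨b, hb⟩ := exists_pow_mem_pPrimeCore_of_mem_pPrimePCore
    ((QuotientGroup.eq_one_iff _).1 (congrArg Prod.snd hx))
  have := pPrimeCore_characteristic 2 (G ⧸ A)
  have hk : c.ker ≤ centralizer (A : Set G) := fun g hg b hb =>
    (mul_inv_eq_iff_eq_mul.1 (congrArg Subtype.val (MulEquiv.congr_fun hg ⟨b, hb⟩))).symm
  refine ⟨a + b + 1, ?_⟩
  rw [pow_succ, pow_mul, sq]
  refine sq_mem_pPrimeCore (E := c.ker ⊓ (pPrimeCore 2 (G ⧸ A)).comap (QuotientGroup.mk' A)) hA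
    (inf_le_left.trans hk) ?_ (mem_inf.2 ⟨?_, ?_⟩)
  · rw [← card_map_mk'_eq_relIndex]
    exact coprime_of_le (coprime_card_pPrimeCore 2 _) (map_le_iff_le_comap.2 inf_le_right)
  · rw [pow_add, pow_mul]
    refine pow_mem ?_ _
    rw [MonoidHom.mem_ker, map_pow]
    exact congrArg (fun r : pCore 2 c.range => (r.1 : MulAut A)) ha
  · rw [add_comm, pow_add, pow_mul]
    exact pow_mem hb _

omit [Group G] [Finite G] [Group.IsSolvable G] in
theorem iter (n : ℕ) : ∀ {G : Type u} [Group G] [Finite G] [Group.IsSolvable G] (K : Subgroup G)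
    [K.Normal], Nat.card G = n → IsPGroup 2 K → (∀ x : G, (∃ k, x ^ 2 ^ k = 1) → x ^ 2 ^ e ∈ K) →
    (∀ x : G, (∃ k, x ^ 2 ^ k = 1) → ∀ a ∈ K, (a * x) ^ 2 ^ e = x ^ 2 ^ e) → PLengthLE 2 e G := by
  induction n using Nat.strong_induction_on with
  | _ n ih =>
  intro G _ _ _ K hn hc hK h1 h2
  by_cases h0 : K = ⊥
  · exact IH G fun x hx => by simpa [h0] using h1 x hx
  have : (Zo K).Normal := normalizer_eq_top_iff.1 (top_le_iff.1
    ((normalizer_eq_top K).ge.trans (norm_Zo K)))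
  have hf := QuotientGroup.mk'_surjective (Zo K)
  have := hn.map _ hf
  have hZ : Zo K ≠ ⊥ := by
    have := (K.nontrivial_iff_ne_bot).2 h0
    have := hK.center_nontrivial
    obtain ⟨z, hz⟩ := exists_prime_orderOf_dvd_card' (G := center K) 2
      ((hK.to_subgroup _).card_eq_or_dvd.resolve_left Finite.one_lt_card.ne')
    intro h
    have h3 : ((z : K) : G) ∈ Zo K := ⟨z.1.2, fun k hk =>
      congrArg Subtype.val (mem_center_iff.1 z.2 ⟨k, hk⟩), by
        rw [← sq, ← hz]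
        exact congrArg (fun r : center K => (r.1 : G)) (pow_orderOf_eq_one z)⟩
    rw [h, mem_bot] at h3
    rw [show z = 1 from Subtype.ext (Subtype.ext h3), orderOf_one] at hz
    omega
  refine step IH (A := Zo K) (fun a ha => ha.2.2) (fun x hx a ha => (ha.2.1 _ (h1 x hx)).symm)
    (fun x hx a ha => h2 x hx a ha.1) (ih _ (hc ▸ card_quotient_lt hZ) (K.map (QuotientGroup.mk' _))
      rfl (hK.map _) ?_ ?_)
  · rintro y ⟨k, hy⟩
    obtain ⟨x, rfl, hx⟩ := lift2 hf hy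
    exact ⟨_, h1 x hx, map_pow _ _ _⟩
  · rintro y ⟨k, hy⟩ _ ⟨a, ha, rfl⟩
    obtain ⟨x, rfl, hx⟩ := lift2 hf hy
    rw [← map_mul, ← map_pow, h2 x hx a ha, map_pow]

theorem Faith.len (hF : Faith G e) (hE : Ex (e + 1) G) : PLengthLE 2 e G := by
  obtain ⟨S⟩ : Nonempty (Sylow 2 G) := inferInstance
  have h1 := hF.Yy_le (isPSolvable_of_isSolvable Nat.prime_two) S
  have h2 := pPrimeCore_sup_normalizer_sylow_inf S
  have := pPrimePCore_normal 2 G
  obtain ⟨T, hT⟩ := exists_sylow_eq_inf_of_normal S (pPrimePCore 2 G)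
  set L := normalizer (((S : Subgroup G) ⊓ pPrimePCore 2 G : Subgroup G) : Set G)
  have hK : IsPGroup 2 (Yy e L) := by
    refine S.isPGroup'.to_le (Two.Yy_le fun x hL hx => ?_)
    have h3 := Amalg.isPGroup_sup_of_le_normalizer' S.isPGroup'.to_inf_left
      (isPGroup_zpowers_of_pow_eq_one (p := 2) (k := 1) (x := x ^ 2 ^ e)
        (by rwa [← pow_mul, ← pow_add])) (zpowers_le.2 (L.pow_mem hL _))
    have h4 := T.is_maximal' (h3.comap_subtype (K := pPrimePCore 2 G)) (by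
      rw [← map_le_iff_le_comap, hT]; exact le_sup_left)
    have h5 : (⟨_, h1 (mem_Yy hL hx)⟩ : pPrimePCore 2 G) ∈ (T : Subgroup _) :=
      h4.le (mem_sup_right (mem_zpowers (x ^ 2 ^ e)))
    exact (hT.le ⟨_, h5, rfl⟩).1
  have := pPrimeCore_characteristic 2 G
  refine pLengthLE_of_quotient_of_coprime _ (coprime_card_pPrimeCore 2 G)
    (pLengthLE_of_surjective (G := L) ?_ (f := (QuotientGroup.mk' _).comp L.subtype) fun y => ?_)
  swap
  · obtain ⟨y, rfl⟩ := QuotientGroup.mk_surjective y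
    obtain ⟨a, ha, b, hb, rfl⟩ := mem_sup_of_normal_left.1 (h2.ge (mem_top y))
    exact ⟨⟨b, hb⟩, by simp [(QuotientGroup.eq_one_iff a).2 ha]⟩
  have n1 : ((Yy e L).subgroupOf L).Normal := normal_subgroupOf_of_le_normalizer (le_norm_Yy L)
  have n2 : ((Zo (Yy e L)).subgroupOf L).Normal :=
    normal_subgroupOf_of_le_normalizer ((le_norm_Yy L).trans (norm_Zo _))
  have hx : ∀ x : L, (∃ k, x ^ 2 ^ k = 1) → (x : G) ^ 2 ^ (e + 1) = 1 := fun x hx =>
    hE x (hx.imp fun _ h => congrArg Subtype.val h)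
  have hf := QuotientGroup.mk'_surjective ((Zo (Yy e L)).subgroupOf L)
  have := n1.map _ hf
  refine step IH (A := (Zo (Yy e L)).subgroupOf L) (fun a ha => Subtype.ext ha.2.2)
    (fun x h a ha => Subtype.ext (ha.2.1 _ (mem_Yy x.2 (hx x h))).symm)
    (fun x h a ha => Subtype.ext (hF.pow_eq hE hK x.2 (hx x h) ha))
    (iter IH _ (((Yy e L).subgroupOf L).map (QuotientGroup.mk' _)) rfl
      (hK.comap_subtype.map _) ?_ ?_)
  · rintro y ⟨k, hy⟩
    obtain ⟨x, rfl, h⟩ := lift2 hf hy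
    exact ⟨_, mem_Yy x.2 (hx x h), map_pow _ _ _⟩
  · rintro y ⟨k, hy⟩ _ ⟨a, ha, rfl⟩
    obtain ⟨x, rfl, h⟩ := lift2 hf hy
    rw [← map_mul, ← map_pow, ← map_pow, ← mul_inv_eq_one, ← map_inv, ← map_mul,
      QuotientGroup.mk'_apply, QuotientGroup.eq_one_iff]
    exact hF.mem_Zo hE hK x.2 (hx x h) ha

end Len

/-- the `2`-length is bounded by the exponent -/
theorem len_le_exp (e : ℕ) : ∀ (G : Type u) [Group G] [Finite G] [Group.IsSolvable G],
    Ex e G → PLengthLE 2 e G := by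
  induction e with
  | zero => exact fun G _ _ _ h => h.zero
  | succ e ih => exact fun G _ _ _ h => pLengthLE_of_faith h fun H _ _ _ h1 h2 => h2.len ih h1

theorem solvable_of_len (k : ℕ) : ∀ {G : Type u} [Group G] [Finite G], PLengthLE 2 k G →
    Group.IsSolvable G := by
  induction k with
  | zero => exact fun h => FT.odd_order_solvable _ (Nat.coprime_two_right.1 (pLengthLE_zero_iff.1 h))
  | succ k ih =>
    intro G _ _ h
    have := pPrimeCore_characteristic 2 G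
    have := FT.odd_order_solvable _ (Nat.coprime_two_right.1 (coprime_card_pPrimeCore 2 G))
    have := Coprime.isSolvable_of_isPGroup (isPGroup_pCore 2 (G ⧸ pPrimeCore 2 G))
    have := ih (pLengthLE_quotient_of_succ (pCore 2 (G ⧸ pPrimeCore 2 G))
      (pPrimePCore_eq_pCore pPrimeCore_quotient_pPrimeCore).le
      (pLengthLE_quotient h (pPrimeCore 2 G)))
    have := Group.isSolvable_of_ker_le_range (pCore 2 (G ⧸ pPrimeCore 2 G)).subtype
      (QuotientGroup.mk' (pCore 2 _)) (by rw [QuotientGroup.ker_mk', range_subtype])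
    exact Group.isSolvable_of_ker_le_range (pPrimeCore 2 G).subtype
      (QuotientGroup.mk' (pPrimeCore 2 G)) (by rw [QuotientGroup.ker_mk', range_subtype])

end Cfsg.Lib.HH.Two
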