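import Cfsg.Agent.Lib.HH.TwoD
import Cfsg.Agent.Lib.HH.ThmB
import Cfsg.Agent.Lib.HH.Num

/-!
# The structure of the exceptional case of Theorem B in characteristic two
-/

set_option autoImplicit false

namespace Cfsg.Lib.HH.Two

open Subgroup Module
open scoped commutatorElement

universe u v

section Perp

variable {M : Type u} [CommGroup M]

/-- an orthogonality relation compatible with an automorphism -/
def Orth (P : M → Subgroup M) (g : MulAut M) : Prop :=
  ∀ u v, (g u = u → g v = v⁻¹ → v ∈ P u) ∧ (g u = u⁻¹ → g v = v → v ∈ P u)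

theorem mem_of_sq_mem [Finite M] (ho : Od M) {X : Subgroup M} {m : M} (h : m * m ∈ X) : m ∈ X := by
  have ho' : Od X := fun a ha => Subtype.ext (ho _ (congrArg Subtype.val ha))
  obtain ⟨a, ha⟩ := ho'.exists_sq ⟨_, h⟩
  exact ho.sq_inj (congrArg Subtype.val ha) ▸ a.2

theorem nondeg [Finite M] (ho : Od M) {P : M → Subgroup M} (h2 : ∀ m, (∀ n, n ∈ P m) → m = 1)
    {y : MulAut M} (hy : y * y = 1) (h3 : Orth P y) {u : M} (hu : u ∈ Ui y)
    (h : ∀ v ∈ Ui y, v ∈ P u) : u = 1 := by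
  refine h2 u fun n => mem_of_sq_mem ho ?_
  have := mul_mem (inv_mem (h _ (sub_mem_Ui hy n))) ((h3 u _).2 hu (add_fix hy n))
  rwa [mul_inv, inv_inv, mul_mul_mul_comm, inv_mul_cancel, one_mul] at this

theorem pm_of_sq [Finite M] (ho : Od M) {P : M → Subgroup M} (h1 : ∀ m, m ∈ P m)
    (h2 : ∀ m, (∀ n, n ∈ P m) → m = 1) {y g : MulAut M} (hy : y * y = 1) (h3 : Orth P y)
    (h4 : Orth P g) {q : ℕ} (hq : q.Prime) (hc : Nat.card (Ui y) = q ^ 2)
    (hg : ∀ m ∈ Ui y, g m ∈ Ui y) (hg2 : ∀ m ∈ Ui y, g (g m) = m) :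
    (∀ m ∈ Ui y, g m = m) ∨ ∀ m ∈ Ui y, g m = m⁻¹ := by
  have hm : ∀ m ∈ Ui y, g m * m⁻¹ ∈ Ui y ⊓ Ui g := fun m hm =>
    mem_inf.2 ⟨mul_mem (hg m hm) (inv_mem hm), by
      rw [mem_Ui, map_mul, map_inv, hg2 m hm, mul_inv, inv_inv, mul_comm]⟩
  have hd : Nat.card (Ui y ⊓ Ui g : Subgroup M) ∣ q ^ 2 := hc ▸ card_dvd_of_le inf_le_left
  obtain ⟨k, hk, e⟩ := (Nat.dvd_prime_pow hq).1 hd
  interval_cases k
  · refine Or.inl fun m h => ?_
    have := hm m h
    rwa [card_eq_one.1 e, mem_bot, mul_inv_eq_one] at this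
  · exfalso
    have := Fact.mk hq
    rw [pow_one] at e
    have : Nontrivial (Ui y ⊓ Ui g : Subgroup M) := Finite.one_lt_card_iff_nontrivial.1 (e ▸ hq.one_lt)
    obtain ⟨x, hx⟩ := exists_ne (1 : (Ui y ⊓ Ui g : Subgroup M))
    refine hx (Subtype.ext (nondeg ho h2 hy h3 x.2.1 fun v hv => mem_of_sq_mem ho ?_))
    obtain ⟨r, hr⟩ := mem_zpowers_of_prime_card e hx (g' := ⟨_, hm v hv⟩)
    have a1 : g v * v⁻¹ ∈ P x := by
      rw [← show (x : M) ^ r = g v * v⁻¹ from congrArg Subtype.val hr]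
      exact zpow_mem (h1 _) r
    have a2 : g v * v ∈ P x := (h4 x _).2 x.2.2 (by rw [map_mul, hg2 v hv, mul_comm])
    have := mul_mem (inv_mem a1) a2
    rwa [mul_inv, inv_inv, mul_mul_mul_comm, inv_mul_cancel, one_mul] at this
  · have : Ui y ⊓ Ui g = Ui y := eq_of_le_of_card_ge inf_le_left (by rw [e, hc])
    exact Or.inr (inf_eq_left.1 this)

end Perp

section Grp

variable {E : Type*} [Group E]

theorem cm_left {a b z : E} (h : Commute z b) : ⁅a * z, b⁆ = ⁅a, b⁆ := by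
  rw [commutatorElement_def, commutatorElement_def, mul_assoc a, h.eq]; group

theorem cm_right {a b z : E} (h : Commute z a) : ⁅a, b * z⁆ = ⁅a, b⁆ := by
  rw [commutatorElement_def, commutatorElement_def, mul_assoc _ a⁻¹, ← mul_inv_rev, mul_assoc b,
    h.eq]
  group

theorem cm_inv {a b : E} (h : Commute ⁅a, b⁆ b) : ⁅a, b⁻¹⁆ * ⁅a, b⁆ = 1 := by
  have : ⁅a, b⁻¹⁆ = b⁻¹ * (⁅a, b⁆⁻¹ * b) := by simp only [commutatorElement_def]; group
  rw [this, h.inv_left.eq]; group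

end Grp

section Rep

variable {K : Type*} [Field K] {Q : Type u} [Group Q] {W : Type*} [AddCommGroup W] [Module K W]

/-- the elements represented by central operators -/
def sc (σ : Q →* End K W) : Subgroup Q :=
  (centralizer (σ.toHomUnits.range : Set (End K W)ˣ)).comap σ.toHomUnits

theorem mem_sc {σ : Q →* End K W} {a : Q} :
    a ∈ sc σ ↔ ∀ g, Commute (σ.toHomUnits a) (σ.toHomUnits g) :=
  ⟨fun h g => (h _ ⟨g, rfl⟩).symm, fun h => by rintro _ ⟨g, rfl⟩; exact (h g).symm⟩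

theorem comm_iff {σ : Q →* End K W} {a b : Q} :
    Commute (σ.toHomUnits a) (σ.toHomUnits b) ↔ σ a * σ b = σ b * σ a := by
  rw [commute_iff_eq, ← Units.val_inj]; rfl

theorem mem_sc_of_scalar {σ : Q →* End K W} {a : Q} {c : K} (h : σ a = c • 1) : a ∈ sc σ :=
  mem_sc.2 fun g => comm_iff.2 (by simp [h])

theorem scalar_of_mem_sc [IsAlgClosed K] [FiniteDimensional K W] {σ : Q →* End K W} (h : Irr σ)
    {a : Q} (ha : a ∈ sc σ) : ∃ c : K, σ a = c • 1 :=
  h.schur fun g w => congrArg (fun f : End K W => f w) (comm_iff.1 (mem_sc.1 ha g))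

instance sc_normal (σ : Q →* End K W) : (sc σ).Normal := ⟨fun a ha g => mem_sc.2 fun k => by
  rw [map_mul, map_mul, ← (mem_sc.1 ha g).eq, mul_assoc, ← map_mul, mul_inv_cancel, map_one, mul_one]
  exact mem_sc.1 ha k⟩

theorem center_le_sc (σ : Q →* End K W) : center Q ≤ sc σ := fun _ ha => mem_sc.2 fun g =>
  (Commute.symm (mem_center_iff.1 ha g)).map _

/-- an automorphism which does not change the scalars -/
def Pres (σ : Q →* End K W) (β : MulAut Q) : Prop := ∀ z ∈ sc σ, σ (β z) = σ z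

theorem Pres.mem {σ : Q →* End K W} {β : MulAut Q} (h : Pres σ β) {z : Q} (hz : z ∈ sc σ) :
    β z ∈ sc σ :=
  mem_sc.2 fun g => comm_iff.2 (by rw [h z hz]; exact comm_iff.1 (mem_sc.1 hz g))

theorem Pres.pow {σ : Q →* End K W} {β : MulAut Q} (h : Pres σ β) (i : ℕ) : Pres σ (β ^ i) := by
  induction i with
  | zero => exact fun _ _ => rfl
  | succ i ih => exact fun z hz => by rw [pow_succ, MulAut.mul_apply, ih _ (h.mem hz), h z hz]

theorem pres_of_tw [IsAlgClosed K] [FiniteDimensional K W] {σ : Q →* End K W} (h : Irr σ)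
    {Z : End K W} {β : MulAut Q} (hZ : ∀ g, Z * σ g = σ (β g) * Z) (hs : Function.Surjective Z) :
    Pres σ β := fun z hz => by
  obtain ⟨c, hc⟩ := scalar_of_mem_sc h hz
  ext w
  obtain ⟨w, rfl⟩ := hs w
  rw [← End.mul_apply, ← hZ, hc]; simp

theorem pres_of_ch [IsAlgClosed K] [FiniteDimensional K W] [Fintype Q] {σ : Q →* End K W}
    (h : Irr σ) (hQ : (Fintype.card Q : K) ≠ 0) {β : MulAut Q} (hβ : ∀ g, ch σ (β g) = ch σ g) :
    Pres σ β := by
  obtain ⟨A, hA, hb⟩ := h.exists_tw (h.twist β⁻¹) hQ (funext fun g => (hβ g).symm)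
  exact pres_of_tw h (fun g => LinearMap.ext fun w => hA g w) hb.2

variable {M : Type v} [CommGroup M]

/-- the quotient by the scalars -/
structure Quo (σ : Q →* End K W) (π : Q →* M) : Prop where
  surj : Function.Surjective π
  ker : ∀ a, π a = 1 ↔ a ∈ sc σ
  cls : ∀ a b : Q, ⁅a, b⁆ ∈ center Q
  od : Od Q

/-- orthogonal complement for the commutator form -/
noncomputable def Quo.perp {σ : Q →* End K W} {π : Q →* M} (h : Quo σ π) (m : M) : Subgroup M :=
  ((centralizer {σ.toHomUnits (Function.surjInv h.surj m)}).comap σ.toHomUnits).map π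

variable {σ : Q →* End K W} {π : Q →* M}

theorem Quo.exists_mul (h : Quo σ π) {a b : Q} (e : π a = π b) : ∃ z ∈ sc σ, a = b * z :=
  ⟨b⁻¹ * a, (h.ker _).1 (by rw [map_mul, map_inv, e, inv_mul_cancel]), by group⟩

theorem Quo.mem_perp (h : Quo σ π) {a b : Q} :
    π b ∈ h.perp (π a) ↔ Commute (σ.toHomUnits a) (σ.toHomUnits b) := by
  obtain ⟨z, hz, e⟩ := h.exists_mul (Function.surjInv_eq h.surj (π a))
  have key : ∀ c, c ∈ (centralizer {σ.toHomUnits (Function.surjInv h.surj (π a))}).comap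
      σ.toHomUnits ↔ Commute (σ.toHomUnits a) (σ.toHomUnits c) := fun c => by
    rw [mem_comap, mem_centralizer_singleton_iff, e, map_mul, ← commute_iff_eq, Commute.symm_iff]
    exact ⟨fun h => by simpa using h.mul_left (mem_sc.1 hz c).inv_left,
      fun h => h.mul_left (mem_sc.1 hz c)⟩
  constructor
  · rintro ⟨c, hc, e'⟩
    obtain ⟨z', hz', rfl⟩ := h.exists_mul e'.symm
    rw [map_mul]
    exact ((key c).1 hc).mul_right (mem_sc.1 hz' a).symm
  · exact fun hc => ⟨b, (key b).2 hc, rfl⟩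

theorem Quo.self_mem (h : Quo σ π) (m : M) : m ∈ h.perp m := by
  obtain ⟨a, rfl⟩ := h.surj m
  exact h.mem_perp.2 (Commute.refl _)

theorem Quo.eq_one (h : Quo σ π) (m : M) (hm : ∀ n, n ∈ h.perp m) : m = 1 := by
  obtain ⟨a, rfl⟩ := h.surj m
  exact (h.ker a).2 (mem_sc.2 fun g => h.mem_perp.1 (hm _))

theorem Od.hom [Finite Q] (ho : Od Q) {E : Type*} [Group E] (f : Q →* E) {c : Q}
    (h : f c * f c = 1) : f c = 1 := by
  have h1 : Odd (orderOf c) := by
    by_contra h1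
    obtain ⟨k, hk⟩ := Nat.not_odd_iff_even.1 h1
    have h2 := orderOf_pos c
    have := orderOf_le_of_pow_eq_one (n := k) (by omega)
      (ho _ (by rw [← pow_add, ← hk, pow_orderOf_eq_one]))
    omega
  obtain ⟨k, hk⟩ := h1
  have := congrArg f (pow_orderOf_eq_one c)
  rwa [hk, map_pow, map_one, pow_succ, pow_mul, sq, h, one_pow, one_mul] at this

theorem Quo.odM [Finite Q] (h : Quo σ π) : Od M := fun m hm => by
  obtain ⟨a, rfl⟩ := h.surj m
  exact h.od.hom π hm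

theorem Quo.orth [Finite Q] (h : Quo σ π) {β : MulAut Q} (hβ : Pres σ β) {b : MulAut M}
    (hb : ∀ a, π (β a) = b (π a)) : Orth h.perp b := by
  have key : ∀ a c, b (π a) = π a → b (π c) = (π c)⁻¹ →
      Commute (σ.toHomUnits a) (σ.toHomUnits c) := fun a c h1 h2 => by
    obtain ⟨z, hz, e⟩ := h.exists_mul ((hb a).trans h1)
    obtain ⟨z', hz', e'⟩ := h.exists_mul ((hb c).trans (h2.trans (map_inv π c).symm))
    have h3 : σ.toHomUnits (β ⁅a, c⁆) = σ.toHomUnits ⁅a, c⁆ :=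
      Units.ext (hβ _ (center_le_sc σ (h.cls a c)))
    have h4 := congrArg σ.toHomUnits (cm_inv (a := a) (b := c)
      (Commute.symm (mem_center_iff.1 (h.cls a c) c)))
    rw [map_commutatorElement β, e, e', map_commutatorElement, map_mul, cm_left (mem_sc.1 hz _),
      map_mul, cm_right (mem_sc.1 hz' _), ← map_commutatorElement] at h3
    rw [map_mul, h3, map_one] at h4
    rw [← commutatorElement_eq_one_iff_commute, ← map_commutatorElement]
    exact h.od.hom _ h4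
  intro u v
  obtain ⟨a, rfl⟩ := h.surj u
  obtain ⟨c, rfl⟩ := h.surj v
  exact ⟨fun h1 h2 => h.mem_perp.2 (key a c h1 h2), fun h1 h2 => h.mem_perp.2 (key c a h2 h1).symm⟩

end Rep

section Lin

variable {K : Type*} [Field K] {W W₁ : Type*} [AddCommGroup W] [Module K W] [AddCommGroup W₁]
  [Module K W₁]

theorem comm_of_nilp {T : End K W} {T₁ : End K W₁} {s : ℕ} (hT : T ^ (s + 1) = 0)
    (hT₁ : T₁ ^ (s + 1) = 0) (h₁ : T₁ ^ s ≠ 0) (hs : ((s + 1 : ℕ) : K) ≠ 0) {E : Set (W₁ →ₗ[K] W)}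
    (hE : ∀ f ∈ E, T ∘ₗ f - f ∘ₗ T₁ ∈ E) (hi : ∀ f ∈ E, f ≠ 0 → Function.Injective f)
    {f : W₁ →ₗ[K] W} (hf : f ∈ E) : T ∘ₗ f = f ∘ₗ T₁ := by
  let L : End K (W₁ →ₗ[K] W) := LinearMap.llcomp K W₁ W W T
  let R : End K (W₁ →ₗ[K] W) := LinearMap.lcomp K W T₁
  have hL : ∀ i f, (L ^ i) f = (T ^ i) ∘ₗ f := fun i f => by
    induction i with
    | zero => rfl
    | succ i ih => rw [pow_succ', End.mul_apply, ih, pow_succ']; rfl
  have hR : ∀ i f, (R ^ i) f = f ∘ₗ (T₁ ^ i) := fun i f => by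
    induction i with
    | zero => rfl
    | succ i ih => rw [pow_succ', End.mul_apply, ih, pow_succ]; rfl
  obtain ⟨k, hk⟩ := Commute.isNilpotent_sub (show Commute L R from rfl)
    ⟨s + 1, LinearMap.ext fun f => by rw [hL, hT]; simp⟩
    ⟨s + 1, LinearMap.ext fun f => by rw [hR, hT₁]; simp⟩
  have two : ∀ f ∈ E, (L - R) ((L - R) f) = 0 → (L - R) f = 0 := fun f hf h => by
    by_contra h0
    have h2 := hi _ (hE f hf) h0
    have e1 : ∀ w, T (f w) = f (T₁ w) + (L - R) f w := fun w => by simp [L, R]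
    have e2 : ∀ w, T ((L - R) f w) = (L - R) f (T₁ w) := fun w =>
      sub_eq_zero.1 (congrArg (fun g : W₁ →ₗ[K] W => g w) h)
    change Function.Injective ((L - R) f) at h2
    generalize (L - R) f = g at h2 e1 e2
    have e3 : ∀ i w, (T ^ (i + 1)) (f w) = f ((T₁ ^ (i + 1)) w) + ((i + 1 : ℕ) : K) • g ((T₁ ^ i) w) := by
      intro i w
      induction i with
      | zero => simp [e1]
      | succ i ih =>
        rw [pow_succ', End.mul_apply, ih, map_add, map_smul, e1, e2, pow_succ' T₁ (i + 1),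
          End.mul_apply, ← End.mul_apply T₁ (T₁ ^ i), ← pow_succ', Nat.cast_succ (i + 1), add_smul,
          one_smul]
        abel
    refine h₁ (LinearMap.ext fun w => h2 ?_)
    have := e3 s w
    rw [hT, hT₁, LinearMap.zero_apply, LinearMap.zero_apply, map_zero, zero_add] at this
    rw [(smul_eq_zero.1 this.symm).resolve_left hs, LinearMap.zero_apply, map_zero]
  have key : ∀ k, ∀ f ∈ E, ((L - R) ^ k) f = 0 → (L - R) f = 0 := by
    intro k
    induction k with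
    | zero => intro f _ h; rw [show f = 0 from h, map_zero]
    | succ k ih => exact fun f hf h => two f hf (ih _ (hE f hf) (by rwa [pow_succ] at h))
  exact sub_eq_zero.1 (key k f hf (by rw [hk]; rfl))

end Lin

section Main

variable {K : Type*} [Field K] {Q : Type u} [Group Q]

/-- restriction of an automorphism to an invariant subgroup -/
def res (β : MulAut Q) (U : Subgroup Q) (h : ∀ a, β a ∈ U ↔ a ∈ U) : MulAut U where
  toFun a := ⟨β a, (h a).2 a.2⟩
  invFun a := ⟨β.symm a, (h _).1 (by simp)⟩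
  left_inv a := by simp
  right_inv a := by simp
  map_mul' a b := by simp

theorem res_pow (β : MulAut Q) (U : Subgroup Q) (h : ∀ a, β a ∈ U ↔ a ∈ U) (i : ℕ) (a : U) :
    ((res β U h ^ i) a : Q) = (β ^ i) a := by
  induction i with
  | zero => rfl
  | succ i ih => rw [pow_succ', pow_succ', MulAut.mul_apply, MulAut.mul_apply, ← ih]; rfl

variable {W W₁ : Type*} [AddCommGroup W] [Module K W] [AddCommGroup W₁] [Module K W₁]
  {M : Type v} [CommGroup M] {σ : Q →* End K W} {π : Q →* M}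

theorem scalar_of_tw {σ₁ : Q →* End K W₁} {ι : W₁ →ₗ[K] W} (h : Tw σ₁ σ ι)
    (hi : Function.Injective ι) {a : Q} {c : K} (ha : σ a = c • 1) : σ₁ a = c • 1 :=
  LinearMap.ext fun w => hi (by rw [h, ha]; simp)

theorem semi_pow' {β : MulAut Q} {b : MulAut M} (hb : ∀ a, π (β a) = b (π a)) (i : ℕ) (a : Q) :
    π ((β ^ i) a) = (b ^ i) (π a) := by
  induction i with
  | zero => rfl
  | succ i ih => rw [pow_succ', pow_succ', MulAut.mul_apply, MulAut.mul_apply, hb, ih]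

variable [IsAlgClosed K] [FiniteDimensional K W] [FiniteDimensional K W₁]

theorem Quo.vanish [Finite Q] [Finite M] (h : Quo σ π) (hσ : Irr σ) {y : MulAut M}
    (hy : y * y = 1) (h3 : Orth h.perp y) {σ₁ : (Ui y).comap π →* End K W₁} {ι : W₁ →ₗ[K] W}
    (hι : Tw σ₁ (σ.comp (Subgroup.subtype _)) ι) (hi : Function.Injective ι)
    (a : (Ui y).comap π) (ha : π a ≠ 1) : ch σ₁ a = 0 := by
  obtain ⟨v, hv, hn⟩ : ∃ v ∈ Ui y, v ∉ h.perp (π a) := by
    by_contra! h4
    exact ha (nondeg h.odM h.eq_one hy h3 a.2 h4)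
  obtain ⟨c, rfl⟩ := h.surj v
  obtain ⟨l, hl⟩ := scalar_of_mem_sc hσ (center_le_sc σ (h.cls c a))
  have h4 := scalar_of_tw hι hi (a := ⁅(⟨c, mem_comap.2 hv⟩ : (Ui y).comap π), a⁆) hl
  have h5 := ch_conj σ₁ a ⟨c, mem_comap.2 hv⟩
  rw [← inv_mul_cancel_right (_ * a * _) a, ← commutatorElement_def,
    ch, map_mul, h4, smul_mul_assoc, one_mul, map_smul, smul_eq_mul] at h5
  by_contra h6
  rw [(mul_eq_right₀ h6).1 h5, one_smul] at hl
  refine hn (h.mem_perp.2 (Commute.symm ?_))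
  rw [← commutatorElement_eq_one_iff_commute, ← map_commutatorElement]
  exact Units.ext hl

omit [IsAlgClosed K] [FiniteDimensional K W] in
theorem Quo.card_le [Finite Q] [Finite M] (h : Quo σ π) {U : Subgroup M}
    {σ₁ : U.comap π →* End K W₁} (hd : (finrank K W₁ : K) ≠ 0)
    (hv : ∀ a : U.comap π, π a ≠ 1 → ch σ₁ a = 0) : Nat.card U ≤ finrank K W₁ ^ 2 := by
  have := Fintype.ofFinite U
  have hs : ∀ m : U, ∃ a : U.comap π, π a = m := fun m => by
    obtain ⟨a, ha⟩ := h.surj m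
    exact ⟨⟨a, mem_comap.2 (ha ▸ m.2)⟩, ha⟩
  choose s hs using hs
  have := (LinearIndependent.of_pairwise_dual_eq_zero_one (fun m => σ₁ (s m))
    (fun m => (finrank K W₁ : K)⁻¹ • (LinearMap.trace K W₁ ∘ₗ LinearMap.mulLeft K (σ₁ (s m)⁻¹)))
    (fun m n hmn => by
      have := hv ((s m)⁻¹ * s n) (by
        rw [coe_mul, coe_inv, map_mul, map_inv, hs, hs, Ne, inv_mul_eq_one]
        exact fun e => hmn (Subtype.ext e))
      rw [ch, map_mul] at this
      simp [this]) (fun m => by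
      simp only [LinearMap.smul_apply, LinearMap.comp_apply, LinearMap.mulLeft_apply, ← map_mul,
        inv_mul_cancel, map_one, LinearMap.trace_one, smul_eq_mul]
      exact inv_mul_cancel₀ hd)).fintype_card_le_finrank
  rwa [← Nat.card_eq_fintype_card, Module.finrank_linearMap, ← sq] at this

omit [IsAlgClosed K] [FiniteDimensional K W] [FiniteDimensional K W₁] in
theorem Quo.fix [Finite Q] (h : Quo σ π) (hσ : Irr σ) {Z : End K W} {β : MulAut Q}
    (hZ : ∀ g, Z * σ g = σ (β g) * Z) (hZs : Function.Surjective Z) {b y : MulAut M}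
    (hb : ∀ a, π (β a) = b (π a)) (hy : y * y = 1) (h3 : Orth h.perp y)
    {σ₁ : (Ui y).comap π →* End K W₁} {ι : W₁ →ₗ[K] W} (h0 : ι ≠ 0)
    (hι : Tw σ₁ (σ.comp (Subgroup.subtype _)) ι) {Z₁ : End K W₁}
    (h1 : ∀ f, Tw σ₁ (σ.comp (Subgroup.subtype _)) f → Z ∘ₗ f = f ∘ₗ Z₁) {m : M} (hm : y m = m) :
    b m = m := by
  have : Finite M := Finite.of_surjective _ h.surj
  have key : ∀ c, y (π c) = π c → ∀ f, Tw σ₁ (σ.comp (Subgroup.subtype _)) f →
      Tw σ₁ (σ.comp (Subgroup.subtype _)) (σ c ∘ₗ f) := fun c hc f hf a w => by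
    have := comm_iff.1 (h.mem_perp.1 ((h3 _ _).2 a.2 hc))
    rw [LinearMap.comp_apply, hf]
    exact (congrArg (fun g : End K W => g (f w)) this).symm
  obtain ⟨c, rfl⟩ := h.surj m
  let S := LinearMap.ker ((σ (β c) - σ c) * Z)
  rcases hσ.2 (⨅ g, S.comap (σ g)) (fun g u hu => by
    simp only [Submodule.mem_iInf, Submodule.mem_comap] at hu ⊢
    exact fun k => by rw [rep_mul_apply]; exact hu _) with h4 | h4
  · refine (h0 (LinearMap.ext fun w => ?_)).elim
    rw [LinearMap.zero_apply, ← Submodule.mem_bot K, ← h4]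
    simp only [Submodule.mem_iInf, Submodule.mem_comap]
    intro g
    obtain ⟨n, hn⟩ := h.odM.exists_sq (π g)
    obtain ⟨d, hd⟩ := h.surj (y n * n)
    have hd' : y (π d) = π d := hd ▸ add_fix hy n
    have h5 : d⁻¹ * g ∈ (Ui y).comap π := by
      rw [mem_comap, map_mul, map_inv, hd, ← hn, mul_inv, mul_assoc, inv_mul_cancel_left]
      simpa [mul_comm] using inv_mem (sub_mem_Ui hy n)
    have h6 : σ g (ι w) = (σ d ∘ₗ ι) (σ₁ ⟨_, h5⟩ w) := by
      rw [LinearMap.comp_apply, hι]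
      exact ((rep_mul_apply σ d (d⁻¹ * g) _).trans (by rw [mul_inv_cancel_left])).symm
    rw [h6]
    generalize σ₁ ⟨_, h5⟩ w = w'
    have a1 := congrArg (fun g => g w') (h1 _ (key d hd' ι hι))
    have a2 := congrArg (fun g => g w') (h1 _ (key c hm _ (key d hd' ι hι)))
    simp only [LinearMap.comp_apply] at a1 a2
    rw [LinearMap.mem_ker, sub_mul, ← hZ]
    simp only [LinearMap.comp_apply, LinearMap.sub_apply, End.mul_apply, a1, a2, sub_self]
  · have h5 : σ (β c) = σ c := LinearMap.ext fun w => by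
      obtain ⟨w, rfl⟩ := hZs w
      have := h4.ge (Submodule.mem_top (x := w))
      simp only [Submodule.mem_iInf, Submodule.mem_comap] at this
      simpa [S, sub_eq_zero] using this 1
    rw [← hb, ← mul_inv_eq_one, ← map_inv, ← map_mul, h.ker]
    exact mem_sc_of_scalar (c := 1) (by rw [map_mul, h5, ← map_mul, mul_inv_cancel, map_one, one_smul])

theorem Quo.struct [CharP K 2] [Finite Q] (h : Quo σ π) (hσ : Irr σ) {q : ℕ} [hq : Fact q.Prime]
    (hQ : IsPGroup q Q) (hq2 : q ≠ 2) {Z : End K W} {β : MulAut Q}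
    (hZ : ∀ g, Z * σ g = σ (β g) * Z) {j : ℕ} (hZN : Z ^ 2 ^ (j + 1) = 1)
    (hβN : β ^ 2 ^ (j + 1) = 1) (hs : (Z - 1) ^ (2 ^ (j + 1) - 1) = 0) {b : MulAut M}
    (hb : ∀ a, π (β a) = b (π a)) (hy : b ^ 2 ^ j ≠ 1) :
    ∃ i, j = i + 1 ∧ q + 1 = 2 ^ (j + 1) ∧ Nat.card (Ui (b ^ 2 ^ j)) = q ^ 2 ∧
      ∀ m, (b ^ 2 ^ j) m = m → b m = m := by
  have : Finite M := Finite.of_surjective _ h.surj
  have hpos : 0 < 2 ^ (j + 1) := by positivity
  set y := b ^ 2 ^ j with hyd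
  have hy2 : y * y = 1 := MulEquiv.ext fun m => by
    obtain ⟨a, rfl⟩ := h.surj m
    rw [← sq, ← pow_mul, ← pow_succ, ← semi_pow' hb, hβN]; rfl
  have hZs : Function.Surjective Z := fun w => ⟨(Z ^ (2 ^ (j + 1) - 1)) w, by
    rw [← End.mul_apply, ← pow_succ', Nat.sub_add_cancel hpos, hZN]; rfl⟩
  have hP := pres_of_tw hσ hZ hZs
  have h3 : Orth h.perp y := h.orth (hP.pow _) (semi_pow' hb _)
  have hby : Commute b y := (Commute.refl b).pow_right _
  have hβ₁ : ∀ a, β a ∈ (Ui y).comap π ↔ a ∈ (Ui y).comap π := fun a => by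
    rw [mem_comap, mem_comap, hb]
    exact ⟨fun h => by simpa using apply_mem_Ui hby.inv_left.eq h, apply_mem_Ui hby.eq⟩
  have hqK : (q : K) ≠ 0 := by
    rw [Ne, CharP.cast_eq_zero_iff K 2]
    exact fun h => hq2 ((Nat.prime_dvd_prime_iff_eq Nat.prime_two hq.out).1 h).symm
  have := Fintype.ofFinite ((Ui y).comap π)
  have hQK : (Fintype.card ((Ui y).comap π) : K) ≠ 0 := by
    obtain ⟨k, hk⟩ := (hQ.to_subgroup ((Ui y).comap π)).exists_card_eq
    rw [← Nat.card_eq_fintype_card, hk, Nat.cast_pow]; exact pow_ne_zero _ hqK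
  have := hσ.1
  obtain ⟨W₁, hW₁, -, hirr⟩ := exists_irr_le (σ.comp ((Ui y).comap π).subtype) ⊤ top_ne_bot
    (fun _ _ _ => trivial)
  set σ₁ := sub _ W₁ hW₁
  have hι₀ := tw_sub _ W₁ hW₁
  have hvan := h.vanish hσ hy2 h3 hι₀ W₁.injective_subtype
  have hsc : ∀ g : (Ui y).comap π, π g = 1 → ∃ c : K, σ g = c • 1 ∧ σ₁ g = c • 1 := fun g hg => by
    obtain ⟨c, hc⟩ := scalar_of_mem_sc hσ ((h.ker _).1 hg)
    exact ⟨c, hc, scalar_of_tw hι₀ W₁.injective_subtype hc⟩
  have := hirr.1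
  have hn0 : ∀ {f : W₁ →ₗ[K] W}, Function.Injective f → f ≠ 0 := fun hf h0 => by
    obtain ⟨u, hu⟩ := exists_ne (0 : W₁)
    exact hu (hf (by rw [h0]; rfl))
  obtain ⟨ι, Z₁, h1, h2, h4, h5⟩ := hirr.ext_step hQK hι₀ (hn0 W₁.injective_subtype) (Y := Z)
    (β := res β _ hβ₁) (fun g => hZ g) (fun g => by
      by_cases hg : π g = 1
      · obtain ⟨c, hc, hc'⟩ := hsc g hg
        rw [ch, ch, hc', scalar_of_tw hι₀ W₁.injective_subtype (a := res β _ hβ₁ g)
          ((hP _ ((h.ker _).1 hg)).trans hc)]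
      · rw [hvan g hg, hvan _ fun h6 => hg (b.injective ((hb g).symm.trans (h6.trans (map_one b).symm)))])
  have hpow : ∀ (t : ℕ) w, ((Z - 1) ^ t) (ι w) = ι (((Z₁ - 1) ^ t) w) := fun t => by
    induction t with
    | zero => intro w; rfl
    | succ t ih => intro w; rw [pow_succ, pow_succ, End.mul_apply, End.mul_apply, ← ih]; simp [h4]
  have hs₁ : (Z₁ - 1) ^ (2 ^ (j + 1) - 1) = 0 := LinearMap.ext fun w => h2 (by rw [← hpow, hs]; simp)
  have hZN₁ : Z₁ ^ 2 ^ (j + 1) = 1 := by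
    rw [← sub_eq_zero, ← sub_one_pow_char (K := K) 2]
    exact pow_eq_zero_of_le (by omega) hs₁
  have hβN₁ : res β _ hβ₁ ^ 2 ^ (j + 1) = 1 := MulEquiv.ext fun a => Subtype.ext (by
    rw [res_pow, hβN]; rfl)
  have hη : ∀ g : (Ui y).comap π, π ((res β _ hβ₁ ^ 2 ^ j) g) = (π g)⁻¹ := fun g => by
    rw [res_pow, semi_pow' hb]; exact g.2
  have hsr : ∀ g, (res β _ hβ₁ ^ 2 ^ j) g = g → ∃ c : K, σ₁ g = c • 1 := fun g hg =>
    (hsc g (h.odM.inv (by rw [← hη, hg]))).imp fun _ h => h.2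
  obtain ⟨u, hu, hu1⟩ : ∃ u ∈ Ui y, u ≠ 1 := by
    by_contra! h6
    exact hy (MulEquiv.ext fun m => mul_inv_eq_one.1 (h6 _ (sub_mem_Ui hy2 m)))
  have hd := hirr.finrank_ne_zero hQK
  have hZ1 : Z₁ ≠ 1 := by
    rintro rfl
    obtain ⟨a, rfl⟩ := h.surj u
    set a' : (Ui y).comap π := ⟨a, mem_comap.2 hu⟩
    have a1 := semi_pow h5 (2 ^ j) a'
    rw [one_pow, one_mul, mul_one] at a1
    obtain ⟨c, -, hc⟩ := hsc (a' * (res β _ hβ₁ ^ 2 ^ j) a') (by
      rw [coe_mul, map_mul, hη, mul_inv_cancel])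
    rw [map_mul, ← a1, ← map_mul] at hc
    have a2 := hvan (a' * a') (fun h6 => hu1 (h.odM _ (by rwa [coe_mul, map_mul] at h6)))
    rw [ch, hc, map_smul, LinearMap.trace_one, smul_eq_mul, mul_eq_zero_iff_right hd] at a2
    have a3 := congrArg (· * σ₁ (a' * a')⁻¹) hc
    simp only [a2, ← map_mul, mul_inv_cancel, map_one, zero_smul, zero_mul] at a3
    exact one_ne_zero a3
  obtain ⟨-, h7, h8⟩ := hirr.crit hQK h5 hZN₁ hβN₁ hsr hZ1 hs₁ (by omega)
  have h9 : (Z₁ - 1) ^ (2 ^ (j + 1) - 2) ≠ 0 := fun h9 => by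
    have := (hirr.crit hQK h5 hZN₁ hβN₁ hsr hZ1 h9 (by omega)).1
    omega
  obtain ⟨k, hk⟩ := hirr.finrank_eq_pow hqK (hQ.to_subgroup _)
  obtain rfl : k = 1 := by
    by_contra h10
    rcases k with _ | k
    · rw [pow_zero] at hk; omega
    · exact pow_add_one_ne_two_pow hq.out.one_lt (a := k + 1) (k := j + 1) (by omega) (by omega)
  rw [pow_one] at hk
  obtain ⟨i, rfl⟩ : ∃ i, j = i + 1 := by
    rcases j with _ | j
    · omega
    · exact ⟨j, rfl⟩
  refine ⟨i, rfl, by omega, ?_, fun m hm => ?_⟩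
  · have a1 := h.card_le hd hvan
    obtain ⟨k, a2⟩ := ((hQ.of_surjective π h.surj).to_subgroup (Ui y)).exists_card_eq
    rw [hk, a2, Nat.pow_le_pow_iff_right hq.out.one_lt] at a1
    interval_cases k
    · exact (hu1 (by rwa [card_eq_one.1 a2, mem_bot] at hu)).elim
    · refine (no_q (q := q) (w := b ^ 2 ^ i) (by omega) (by rw [a2, pow_one])
        (fun m hm => apply_mem_Ui (hby.pow_left _).eq hm) ?_).elim
      rw [← pow_mul, ← pow_succ]
    · exact a2
  · refine h.fix hσ hZ hZs hb hy2 h3 (hn0 h2) h1 (Z₁ := Z₁) (fun f hf => ?_) hm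
    have e : 2 ^ (i + 1 + 1) - 2 + 1 = 2 ^ (i + 1 + 1) - 1 := by omega
    have := comm_of_nilp (e ▸ hs) (e ▸ hs₁) h9 (by
        rw [e, ← h7]; exact hd)
      (E := {f | ∃ k : ℕ, Tw σ₁ ((σ.comp (Subgroup.subtype _)).comp
        (res β _ hβ₁ ^ k).toMonoidHom) f}) (by
        rintro f ⟨k, hf⟩
        refine ⟨k + 1, fun a w => ?_⟩
        have a1 := congrArg (fun g : End K W₁ => g w) (h5 a)
        have a2 := congrArg (fun g : End K W => g (f w)) (hZ ((res β _ hβ₁ ^ k) a))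
        have a3 := hf a w
        have a4 := hf (res β _ hβ₁ a) (Z₁ w)
        simp only [End.mul_apply, MonoidHom.comp_apply, MulEquiv.coe_toMonoidHom, coe_subtype,
          res_pow] at a1 a2 a3 a4 ⊢
        simp only [LinearMap.sub_apply, LinearMap.comp_apply, End.one_apply, map_sub, a1, a3, a4,
          a2, sub_sub_sub_cancel_right]
        congr 1
        rw [pow_succ']; rfl) (fun f ⟨k, hf⟩ => hirr.injective hf) (f := f) ⟨0, hf⟩
    simpa [LinearMap.sub_comp, LinearMap.comp_sub, End.one_eq_id] using this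

end Main

end Cfsg.Lib.HH.Two
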